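import Cfsg.Agent.EqLemmas
import Cfsg.Agent.Lib.FormClasses.Classes
import Cfsg.Agent.Lib.Forms.Standard
import Mathlib.LinearAlgebra.Eigenspace.Charpoly

/-!
# Isometries of odd order prime to the characteristic

`isCompl_fix_mov`, `charpoly_split`: fixed space and moved space; on a space without fixed vectors invariant
quadratic forms correspond to invariant alternating forms through `g - g⁻¹`: `exists_quad_equiv`, `exists_quad`.
-/

set_option autoImplicit false

namespace Cfsg.Agent.OrthPrime

open Polynomial Cfsg.Agent.FormClasses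

variable {F : Type*} [Field F] {V : Type*} [AddCommGroup V] [Module F V] {r : ℕ}

/-- The fixed space. -/
def fixSub (g : Module.End F V) : Submodule F V := LinearMap.ker (g - 1)

/-- The moved space. -/
def movSub (g : Module.End F V) : Submodule F V := LinearMap.range (g - 1)

theorem mem_fixSub {g : Module.End F V} {x : V} : x ∈ fixSub g ↔ g x = x := by
  simp [fixSub, sub_eq_zero]

theorem sub_mem_movSub (g : Module.End F V) (x : V) : g x - x ∈ movSub g := ⟨x, by simp⟩

theorem fix_invt (g : Module.End F V) : ∀ x ∈ fixSub g, g x ∈ fixSub g := fun x hx => by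
  rw [mem_fixSub.1 hx]; exact hx

theorem mov_invt (g : Module.End F V) : ∀ x ∈ movSub g, g x ∈ movSub g := by
  rintro _ ⟨w, rfl⟩
  exact ⟨g w, by simp⟩

/-- The restriction to the moved space. -/
abbrev movEnd (g : Module.End F V) : Module.End F (movSub g) := g.restrict (mov_invt g)

theorem movEnd_pow {g : Module.End F V} (hg : g ^ r = 1) : movEnd g ^ r = 1 := by
  have h : ∀ k, ∀ x : movSub g, ((((movEnd g) ^ k) x : movSub g) : V) = (g ^ k) x := by
    intro k
    induction k with
    | zero => intro x; rfl
    | succ k ih => intro x; rw [pow_succ, pow_succ, Module.End.mul_apply, Module.End.mul_apply, ih]; rfl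
  refine LinearMap.ext fun x => Subtype.ext ?_
  rw [h, hg]; rfl

theorem isCompl_fix_mov {g : Module.End F V} (hr : (r : F) ≠ 0) (hg : g ^ r = 1) :
    IsCompl (fixSub g) (movSub g) := by
  constructor
  · rw [Submodule.disjoint_def]
    rintro _ hx ⟨w, rfl⟩
    rw [mem_fixSub] at hx
    set x := (g - 1 : Module.End F V) w with hx'
    have hj : ∀ j : ℕ, (g ^ j) w = w + (j : F) • x := by
      intro j
      induction j with
      | zero => simp
      | succ j ih =>
        rw [pow_succ', Module.End.mul_apply, ih, map_add, map_smul, hx, Nat.cast_succ, add_smul, one_smul]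
        simp [hx']
        abel
    have h := hj r
    rw [hg, Module.End.one_apply, left_eq_add, smul_eq_zero] at h
    exact h.resolve_left hr
  · rw [codisjoint_iff, eq_top_iff]
    intro x _
    have h1 : ∀ j : ℕ, x - (g ^ j) x ∈ movSub g := by
      intro j
      induction j with
      | zero => simp
      | succ j ih =>
        have h := sub_mem ih (sub_mem_movSub g ((g ^ j) x))
        rw [pow_succ', Module.End.mul_apply]
        simpa using h
    set s := ∑ j ∈ Finset.range r, (g ^ j) x with hs
    have hfix : g s = s := by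
      have h2 := Finset.sum_range_succ' (fun j => (g ^ j) x) r
      rw [Finset.sum_range_succ, hg, pow_zero, ← hs] at h2
      rw [hs, map_sum]
      simp only [← Module.End.mul_apply, ← pow_succ']
      exact add_right_cancel h2.symm
    have hsum : (r : F) • x - s ∈ movSub g := by
      have h := Submodule.sum_mem (movSub g) (t := Finset.range r) (f := fun j => x - (g ^ j) x) fun j _ => h1 j
      simpa [Finset.sum_sub_distrib, ← hs, Nat.cast_smul_eq_nsmul] using h
    refine Submodule.mem_sup.2 ⟨(r : F)⁻¹ • s, Submodule.smul_mem _ _ (mem_fixSub.2 hfix),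
      (r : F)⁻¹ • ((r : F) • x - s), Submodule.smul_mem _ _ hsum, ?_⟩
    rw [smul_sub, inv_smul_smul₀ hr, add_sub_cancel]

theorem movEnd_fixedFree {g : Module.End F V} (hr : (r : F) ≠ 0) (hg : g ^ r = 1) (x : movSub g)
    (hx : movEnd g x = x) : x = 0 := by
  apply Subtype.ext
  exact Submodule.disjoint_def.1 (isCompl_fix_mov hr hg).disjoint _
    (mem_fixSub.2 (congrArg Subtype.val hx)) x.2

variable [FiniteDimensional F V]

theorem charpoly_split {g : Module.End F V} (hr : (r : F) ≠ 0) (hg : g ^ r = 1) :
    g.charpoly = (X - C 1) ^ Module.finrank F (fixSub g) * (movEnd g).charpoly ∧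
      ¬ (movEnd g).charpoly.IsRoot 1 := by
  constructor
  · rw [Semisimple.charpoly_eq_mul (isCompl_fix_mov hr hg) (fix_invt g) (mov_invt g)]
    congr 1
    rw [show g.restrict (fix_invt g) = 1 from LinearMap.ext fun x => Subtype.ext (mem_fixSub.1 x.2),
      LinearMap.charpoly_one, map_one]
  · intro h
    rw [← Module.End.hasEigenvalue_iff_isRoot_charpoly] at h
    obtain ⟨x, hx⟩ := h.exists_hasEigenvector
    exact hx.2 (movEnd_fixedFree hr hg x (by rw [hx.apply_eq_smul, one_smul]))

theorem rootMultiplicity_charpoly {g : Module.End F V} (hr : (r : F) ≠ 0) (hg : g ^ r = 1) :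
    g.charpoly.rootMultiplicity 1 = Module.finrank F (fixSub g) := by
  obtain ⟨h1, h2⟩ := charpoly_split hr hg
  rw [h1, rootMultiplicity_mul (mul_ne_zero (pow_ne_zero _ (X_sub_C_ne_zero 1))
      (LinearMap.charpoly_monic _).ne_zero), rootMultiplicity_X_sub_C_pow,
    rootMultiplicity_eq_zero h2, add_zero]

theorem movEnd_charpoly_eq {W : Type*} [AddCommGroup W] [Module F W] [FiniteDimensional F W]
    {g : Module.End F V} {g' : Module.End F W} (hr : (r : F) ≠ 0) (hg : g ^ r = 1) (hg' : g' ^ r = 1)
    (hc : g.charpoly = g'.charpoly) : (movEnd g).charpoly = (movEnd g').charpoly := by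
  have h1 := rootMultiplicity_charpoly hr hg
  have h2 := rootMultiplicity_charpoly hr hg'
  have h3 := (charpoly_split hr hg).1
  rw [hc, (charpoly_split hr hg').1] at h3
  rw [hc, h2] at h1
  rw [h1] at h3
  exact (mul_left_cancel₀ (pow_ne_zero _ (X_sub_C_ne_zero 1)) h3).symm

section FixedFree

variable {g : Module.End F V} (hg : g ^ r = 1) (hodd : Odd r) (hfp : ∀ x, g x = x → x = 0)

/-- `g - g⁻¹`. -/
def skewPart (r : ℕ) (g : Module.End F V) : Module.End F V := g - g ^ (r - 1)

include hg hodd in
theorem g_pow_pred (x : V) : g ((g ^ (r - 1)) x) = x := by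
  rw [← Module.End.mul_apply, ← pow_succ', Nat.sub_add_cancel hodd.pos, hg]; rfl

include hg hodd hfp

theorem skewPart_injective : Function.Injective (skewPart r g) := by
  rw [injective_iff_map_eq_zero]
  intro x hx
  rw [skewPart, LinearMap.sub_apply, sub_eq_zero] at hx
  have h2 : (g ^ 2) x = x := by
    rw [sq, Module.End.mul_apply, hx, g_pow_pred hg hodd]
  obtain ⟨k, hk⟩ := hodd
  have h4 : ∀ k, (g ^ (2 * k)) x = x := by
    intro k
    induction k with
    | zero => simp
    | succ k ih => rw [mul_add, mul_one, pow_add, Module.End.mul_apply, h2, ih]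
  refine hfp x ?_
  have h5 : (g ^ (2 * k + 1)) x = g x := by rw [pow_succ', Module.End.mul_apply, h4]
  rw [← hk, hg] at h5
  exact h5.symm

omit hg hodd in
theorem one_sub_injective : Function.Injective (1 - g : Module.End F V) := by
  rw [injective_iff_map_eq_zero]
  intro x hx
  rw [LinearMap.sub_apply, sub_eq_zero] at hx
  exact hfp x hx.symm

end FixedFree

/-- Isometries of the quadratic form preserve the polar form. -/
theorem polar_inv {V : Type*} [AddCommGroup V] [Module F V] (Q : QuadraticForm F V) {g : Module.End F V}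
    (hiso : ∀ x, Q (g x) = Q x) (x y : V) :
    QuadraticMap.polar Q (g x) (g y) = QuadraticMap.polar Q x y := by
  simp only [QuadraticMap.polar, ← map_add g, hiso]

omit [FiniteDimensional F V] in
/-- A fixed-point-free isometry determines the form from its polar form. -/
theorem quad_eq_polar (Q : QuadraticForm F V) {g : Module.End F V} (hiso : ∀ x, Q (g x) = Q x) (y : V) :
    Q ((1 - g) y) = QuadraticMap.polar Q ((1 - g) y) y := by
  rw [LinearMap.sub_apply, Module.End.one_apply, QuadraticMap.polar_sub_left, QuadraticMap.polar_self,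
    sub_eq_add_neg y, QuadraticMap.map_add (⇑Q), QuadraticMap.map_neg, hiso, QuadraticMap.polar_neg_right,
    QuadraticMap.polar_comm (⇑Q) y]
  simp [two_smul]
  ring

/-- The alternating form of a fixed-point-free isometry. -/
theorem skew_form (R : QuadraticForm F V) (hR : R.polarBilin.Nondegenerate) (hodd : Odd r) (h : Module.End F V)
    (hh : ∀ x, R (h x) = R x) (hpow : h ^ r = 1) (hfree : ∀ x, h x = x → x = 0) :
    IsForm (RingHom.id F) (-1 : F) (fun u v => QuadraticMap.polar R u (skewPart r h v)) ∧
    IsIsom r (fun u v => QuadraticMap.polar R u (skewPart r h v)) h ∧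
    ∀ x, (∀ y, QuadraticMap.polar R x (skewPart r h y) = 0) → x = 0 := by
  have hadj : ∀ x y, QuadraticMap.polar R x ((h ^ (r - 1)) y) = QuadraticMap.polar R (h x) y := fun x y => by
    rw [← polar_inv R hh, g_pow_pred hpow hodd]
  have halt : ∀ x, QuadraticMap.polar R x (skewPart r h x) = 0 := fun x => by
    rw [skewPart, LinearMap.sub_apply, QuadraticMap.polar_sub_right, hadj, QuadraticMap.polar_comm (⇑R) x,
      sub_self]
  refine ⟨⟨fun x y z => QuadraticMap.polar_add_left R x y _, fun c x z => ?_, fun x y => ?_,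
    fun _ x => halt x⟩, ⟨fun x y => ?_, hpow⟩, fun x hx => ?_⟩
  · exact QuadraticMap.polar_smul_left R c x _
  · show QuadraticMap.polar R y (skewPart r h x) = -1 * QuadraticMap.polar R x (skewPart r h y)
    have h2 := halt (x + y)
    rw [map_add, QuadraticMap.polar_add_left, QuadraticMap.polar_add_right, QuadraticMap.polar_add_right,
      halt, halt] at h2
    linear_combination h2
  · show QuadraticMap.polar R (h x) (skewPart r h (h y)) = _
    rw [show skewPart r h (h y) = h (skewPart r h y) by
      simp only [skewPart, LinearMap.sub_apply, map_sub]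
      rw [← Module.End.mul_apply (h ^ (r - 1)), ← pow_succ, ← Module.End.mul_apply h (h ^ (r - 1)),
        ← pow_succ'], polar_inv R hh]
  · refine (Forms.nondegenerate_polarBilin_iff R).1 hR x fun y => ?_
    obtain ⟨z, rfl⟩ := (LinearMap.injective_iff_surjective.1 (skewPart_injective hpow hodd hfree)) y
    exact hx z

/-- Fixed-point-free isometries with equal characteristic polynomials are isometric. -/
theorem exists_quad_equiv [Finite F] {W : Type*} [AddCommGroup W] [Module F W] [FiniteDimensional F W]
    (Q : QuadraticForm F V) (hQ : Q.polarBilin.Nondegenerate)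
    (Q' : QuadraticForm F W) (hQ' : Q'.polarBilin.Nondegenerate)
    (hr : (r : F) ≠ 0) (hodd : Odd r) {g : Module.End F V} {g' : Module.End F W}
    (hiso : ∀ x, Q (g x) = Q x) (hiso' : ∀ x, Q' (g' x) = Q' x) (hg : g ^ r = 1) (hg' : g' ^ r = 1)
    (hfp : ∀ x, g x = x → x = 0) (hfp' : ∀ x, g' x = x → x = 0) (hc : g.charpoly = g'.charpoly) :
    ∃ e : V ≃ₗ[F] W, (∀ x, Q' (e x) = Q x) ∧ ∀ x, g' (e x) = e (g x) := by
  obtain ⟨H, G, N⟩ := skew_form Q hQ hodd g hiso hg hfp
  obtain ⟨H', G', N'⟩ := skew_form Q' hQ' hodd g' hiso' hg' hfp'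
  obtain ⟨e, he, heg⟩ := exists_isometry H G H' G' hodd.pos (fun _ => rfl) hr N N' hc
  refine ⟨e, fun x => ?_, heg⟩
  have hgk : ∀ k, ∀ y, (g' ^ k) (e y) = e ((g ^ k) y) := by
    intro k
    induction k with
    | zero => intro y; rfl
    | succ k ih => intro y; rw [pow_succ, pow_succ, Module.End.mul_apply, heg, ih]; rfl
  have hp : ∀ u v, QuadraticMap.polar Q' (e u) (e v) = QuadraticMap.polar Q u v := by
    intro u v
    obtain ⟨z, rfl⟩ := (LinearMap.injective_iff_surjective.1 (skewPart_injective hg hodd hfp)) v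
    rw [← he u z]
    congr 1
    simp only [skewPart, LinearMap.sub_apply, map_sub, heg, hgk]
  obtain ⟨y, rfl⟩ := (LinearMap.injective_iff_surjective.1 (one_sub_injective hfp)) x
  have h1 : e ((1 - g) y) = (1 - g') (e y) := by simp [heg]
  rw [h1, quad_eq_polar Q' hiso', ← h1, hp, ← quad_eq_polar Q hiso]

/-- A fixed-point-free symplectic isometry of odd order is orthogonal for some quadratic form. -/
theorem exists_quad (ω : LinearMap.BilinForm F V) (halt : ω.IsAlt) (hnd : ∀ x, (∀ y, ω x y = 0) → x = 0)
    (hodd : Odd r) {g : Module.End F V} (hinv : ∀ x y, ω (g x) (g y) = ω x y) (hg : g ^ r = 1)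
    (hfp : ∀ x, g x = x → x = 0) :
    ∃ Q : QuadraticForm F V, Q.polarBilin.Nondegenerate ∧ ∀ x, Q (g x) = Q x := by
  let D := LinearEquiv.ofInjectiveEndo _ (skewPart_injective hg hodd hfp)
  let φ := LinearEquiv.ofInjectiveEndo _ (one_sub_injective hfp)
  have hD : ∀ x, D x = skewPart r g x := fun _ => rfl
  have hφ : ∀ x, φ x = (1 - g) x := fun _ => rfl
  let C₀ : LinearMap.BilinForm F V := ω.compl₂ (φ.trans D).symm.toLinearMap
  have hC : ∀ x b, C₀ x ((φ.trans D) b) = ω x b := fun x b => by
    show ω x ((φ.trans D).symm ((φ.trans D) b)) = ω x b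
    rw [LinearEquiv.symm_apply_apply]
  let Q : QuadraticForm F V := LinearMap.BilinMap.toQuadraticMap C₀
  have hadj : ∀ u v, ω (skewPart r g u) v = -ω u (skewPart r g v) := fun u v => by
    have h1 : ω (g u) v = ω u ((g ^ (r - 1)) v) := by
      rw [← hinv u ((g ^ (r - 1)) v), g_pow_pred hg hodd]
    have h2 : ω ((g ^ (r - 1)) u) v = ω u (g v) := by
      rw [← hinv ((g ^ (r - 1)) u) v, g_pow_pred hg hodd]
    simp only [skewPart, LinearMap.sub_apply, map_sub]
    rw [h1, h2]
    ring
  have hcomm : ∀ z, skewPart r g (g z) = g (skewPart r g z) := fun z => by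
    simp only [skewPart, LinearMap.sub_apply, map_sub]
    rw [← Module.End.mul_apply (g ^ (r - 1)), ← pow_succ, ← Module.End.mul_apply g (g ^ (r - 1)), ← pow_succ']
  have hpol : ∀ a b, QuadraticMap.polar Q ((φ.trans D) a) ((φ.trans D) b) =
      ω ((φ.trans D) a) ((1 - g) b) := by
    intro a b
    rw [LinearMap.BilinMap.polar_toQuadraticMap, hC, hC, LinearEquiv.trans_apply, LinearEquiv.trans_apply,
      hD, hD, hφ, hφ, hadj ((1 - g) b)]
    rw [LinearMap.IsAlt.neg halt ((1 - g) b)]
    simp only [LinearMap.sub_apply, Module.End.one_apply, map_sub, hcomm, hinv]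
    ring
  refine ⟨Q, (Forms.nondegenerate_polarBilin_iff Q).2 fun x hx => ?_, fun x => ?_⟩
  · refine hnd x fun y => ?_
    obtain ⟨a, rfl⟩ := (φ.trans D).surjective x
    obtain ⟨b, rfl⟩ := φ.surjective y
    have h := hx ((φ.trans D) b)
    rw [hpol] at h
    exact h
  · obtain ⟨a, rfl⟩ := (φ.trans D).surjective x
    have h : g ((φ.trans D) a) = (φ.trans D) (g a) := by
      simp only [LinearEquiv.trans_apply, hD, hφ, LinearMap.sub_apply, Module.End.one_apply, map_sub, hcomm]
    show C₀ (g ((φ.trans D) a)) (g ((φ.trans D) a)) = C₀ ((φ.trans D) a) ((φ.trans D) a)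
    conv_lhs => arg 2; rw [h]
    rw [hC, hC, hinv]

end Cfsg.Agent.OrthPrime
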