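import Cfsg.Agent.EqLemmas
import Cfsg.Agent.Lib.OrthPrime.Split
import Cfsg.Agent.Lib.Forms.Bases
import Cfsg.Agent.Lib.Forms.Count
import Cfsg.Agent.Lib.Forms.Classify
import Mathlib.GroupTheory.Perm.Cycle.Type
import Mathlib.Algebra.GroupWithZero.Units.Basic

/-!
# The type of an orthogonal space with a fixed-point-free isometry of prime order

`type_of_fixedFree`: with `s = q ^ l` in `ZMod r`, the space of dimension `2l` is of plus type iff `s = 1`
and of minus type iff `s = -1`. Also the standard embeddings of orthogonal spaces.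
-/

set_option autoImplicit false

namespace Cfsg.Agent.OrthPrime

open Cfsg.Agent.Forms

variable {F : Type*} [Field F] {V : Type*} [AddCommGroup V] [Module F V]

theorem dvd_card_of_free {α : Type*} [Finite α] {r : ℕ} [hr : Fact r.Prime] (f : α → α)
    (hf : ∀ x, f^[r] x = x) (hfree : ∀ x, f x ≠ x) : r ∣ Nat.card α := by
  classical
  by_contra hnd
  letI : Fintype α := Fintype.ofFinite α
  have hinj : Function.Injective f := fun x y h => by
    rw [← hf x, ← hf y]
    obtain ⟨k, hk⟩ : ∃ k, r = k + 1 := ⟨r - 1, by have := hr.out.pos; omega⟩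
    rw [hk, Function.iterate_succ_apply, Function.iterate_succ_apply, h]
  let e : Equiv.Perm α := Equiv.ofBijective f ⟨hinj, Finite.injective_iff_surjective.1 hinj⟩
  have he : e ^ r ^ 1 = 1 := by
    ext x
    rw [pow_one, Equiv.Perm.coe_pow]
    exact hf x
  obtain ⟨x, hx⟩ := Equiv.Perm.exists_fixed_point_of_prime
    (by rwa [← Nat.card_eq_fintype_card]) he
  exact hfree x hx

/-- The minus type form has no singular half. -/
theorem no_singular_half_minus [Finite F] {a b : F}
    (hab : ∀ x y : F, x ^ 2 + a * x * y + b * y ^ 2 = 0 → x = 0 ∧ y = 0) (n : ℕ)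
    (W : Submodule F ((Fin n ⊕ Fin n) ⊕ Fin 2 → F)) (hW : ∀ w ∈ W, qfMinus n F a b w = 0)
    (hdim : Module.finrank F W = n + 1) : False := by
  have hd := disc_ne_zero_of_anisotropic hab
  have hQ := qfMinus_nondegenerate (F := F) hd n
  let Y : (Fin n → F) →ₗ[F] ((Fin n ⊕ Fin n) ⊕ Fin 2 → F) :=
    { toFun := fun y => Sum.elim (Sum.elim 0 y) 0
      map_add' := fun y z => by ext (⟨i | i⟩ | i) <;> simp
      map_smul' := fun c y => by ext (⟨i | i⟩ | i) <;> simp }
  have hYinj : Function.Injective Y := fun y z h => funext fun i => congrFun h (.inl (.inr i))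
  have hYs : ∀ w ∈ LinearMap.range Y, qfMinus n F a b w = 0 := by
    rintro _ ⟨y, rfl⟩
    simp [qfMinus_apply, Cfsg.quadFormMinus, Y]
  have hmaxW : ∀ W' : Submodule F ((Fin n ⊕ Fin n) ⊕ Fin 2 → F), W ≤ W' →
      (∀ w ∈ W', qfMinus n F a b w = 0) → W' = W := by
    intro W' hle hs
    refine (Submodule.eq_of_le_of_finrank_le hle ?_).symm
    have := two_mul_finrank_singular_le _ hQ W' hs
    simp at this
    omega
  have hmaxY : ∀ W' : Submodule F ((Fin n ⊕ Fin n) ⊕ Fin 2 → F), LinearMap.range Y ≤ W' →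
      (∀ w ∈ W', qfMinus n F a b w = 0) → W' = LinearMap.range Y := by
    intro W' hle hs
    refine le_antisymm (fun v hv => ?_) hle
    have hx : ∀ i, v (.inl (.inl i)) = 0 := by
      intro i
      have h1 := hs v hv
      have h2 := hs _ (W'.add_mem hv (hle ⟨Pi.single i 1, rfl⟩))
      simp [qfMinus_apply, Cfsg.quadFormMinus, Y, mul_add, Finset.sum_add_distrib, Pi.single_apply] at h1 h2
      linear_combination h2 - h1
    have h1 := hs v hv
    simp [qfMinus_apply, Cfsg.quadFormMinus, hx] at h1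
    obtain ⟨z0, z1⟩ := hab _ _ h1
    refine ⟨fun i => v (.inl (.inr i)), ?_⟩
    ext (⟨i | i⟩ | i)
    · exact (hx i).symm
    · rfl
    · fin_cases i
      · exact z0.symm
      · exact z1.symm
  have h := maximal_singular_finrank_eq _ hQ W _ hW hYs hmaxW hmaxY
  rw [hdim, LinearMap.finrank_range_of_inj hYinj, Module.finrank_fintype_fun_eq_card, Fintype.card_fin] at h
  omega

/-- A quadratic form vanishes on the span of pairwise orthogonal singular vectors. -/
theorem singular_span (Q : QuadraticForm F V) (S : Set V) (hS : ∀ x ∈ S, Q x = 0)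
    (hB : ∀ x ∈ S, ∀ y ∈ S, QuadraticMap.polar Q x y = 0) : ∀ x ∈ Submodule.span F S, Q x = 0 := by
  have h1 : ∀ y ∈ Submodule.span F S, ∀ s ∈ S, QuadraticMap.polar Q s y = 0 := by
    intro y hy s hs
    have : Submodule.span F S ≤ LinearMap.ker (Q.polarBilin s) := Submodule.span_le.2 fun t ht => hB s hs t ht
    exact this hy
  have h2 : ∀ x ∈ Submodule.span F S, ∀ y ∈ Submodule.span F S, QuadraticMap.polar Q x y = 0 := by
    intro x hx y hy
    rw [QuadraticMap.polar_comm]
    have : Submodule.span F S ≤ LinearMap.ker (Q.polarBilin y) :=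
      Submodule.span_le.2 fun t ht => by
        show QuadraticMap.polar Q y t = 0
        rw [QuadraticMap.polar_comm]; exact h1 y hy t ht
    exact this hx
  intro x hx
  induction hx using Submodule.span_induction with
  | mem s hs => exact hS s hs
  | zero => exact QuadraticMap.map_zero Q
  | add x y hx hy ihx ihy => rw [QuadraticMap.map_add (⇑Q), ihx, ihy, h2 x hx y hy]; simp
  | smul c x _ ih => rw [QuadraticMap.map_smul, ih, smul_zero]

/-- Over a field with `r`-th roots of unity a fixed-point-free isometry of order `r` has a singular half. -/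
theorem exists_singular_half [FiniteDimensional F V] {r : ℕ} (hr : r.Prime) (hr2 : r ≠ 2) (hrF : (r : F) ≠ 0)
    {ζ : F} (hζ : IsPrimitiveRoot ζ r) (Q : QuadraticForm F V) (hQ : Q.polarBilin.Nondegenerate) {l : ℕ}
    (hV : Module.finrank F V = 2 * l) {g : Module.End F V} (hiso : ∀ x, Q (g x) = Q x) (hg : g ^ r = 1)
    (hfp : ∀ x, g x = x → x = 0) : ∃ W : Submodule F V, (∀ w ∈ W, Q w = 0) ∧ Module.finrank F W = l := by
  classical
  obtain ⟨h, hh⟩ := hr.odd_of_ne_two hr2
  have hζ0 : ζ ≠ 0 := hζ.ne_zero hr.ne_zero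
  let S : Set ℕ → Set V := fun J => {v | ∃ j ∈ J, g v = ζ ^ j • v}
  have key : ∀ J : Set ℕ, (∀ i ∈ J, ∀ j ∈ J, ¬ r ∣ i + j) → ∀ w ∈ Submodule.span F (S J), Q w = 0 := by
    intro J hJ
    refine singular_span Q _ ?_ ?_
    · rintro x ⟨i, hi, hx⟩
      have h1 := hiso x
      rw [hx, QuadraticMap.map_smul, smul_eq_mul, ← pow_add] at h1
      by_contra h0
      exact hJ i hi i hi ((hζ.pow_eq_one_iff_dvd _).1 ((mul_left_eq_self₀.1 h1).resolve_right h0))
    · rintro x ⟨i, hi, hx⟩ y ⟨j, hj, hy⟩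
      have h1 := polar_inv Q hiso x y
      rw [hx, hy, QuadraticMap.polar_smul_left, QuadraticMap.polar_smul_right, smul_eq_mul, smul_eq_mul,
        ← mul_assoc, ← pow_add] at h1
      by_contra h0
      exact hJ i hi j hj ((hζ.pow_eq_one_iff_dvd _).1 ((mul_left_eq_self₀.1 h1).resolve_right h0))
  set W₁ := Submodule.span F (S {j | 1 ≤ j ∧ j ≤ h}) with hW₁
  set W₂ := Submodule.span F (S {j | h < j ∧ j < r}) with hW₂
  have hs₁ : ∀ w ∈ W₁, Q w = 0 := key _ fun i hi j hj hd => by
    simp only [Set.mem_setOf_eq] at hi hj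
    exact absurd (Nat.le_of_dvd (by omega) hd) (by omega)
  have hs₂ : ∀ w ∈ W₂, Q w = 0 := key _ fun i hi j hj hd => by
    simp only [Set.mem_setOf_eq] at hi hj
    obtain ⟨c, hc⟩ := hd
    rcases c with _ | _ | c
    · omega
    · omega
    · have : r * 2 ≤ r * (c + 1 + 1) := Nat.mul_le_mul_left _ (by omega)
      omega
  let comp : ℕ → V → V := fun j x => ∑ k ∈ Finset.range r, (ζ⁻¹ ^ j) ^ k • (g ^ k) x
  have hcomp : ∀ j x, g (comp j x) = ζ ^ j • comp j x := by
    intro j x
    let a : ℕ → V := fun k => (ζ⁻¹ ^ j) ^ k • (g ^ k) x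
    have h2 := Finset.sum_range_succ' a r
    rw [Finset.sum_range_succ] at h2
    have ha : a r = a 0 := by
      simp only [a, hg, pow_zero, ← pow_mul, mul_comm j r]
      rw [pow_mul, hζ.inv.pow_eq_one, one_pow, mul_zero, pow_zero]
    rw [ha] at h2
    have h3 := add_right_cancel h2
    show g (∑ k ∈ Finset.range r, a k) = ζ ^ j • ∑ k ∈ Finset.range r, a k
    conv_rhs => rw [h3]
    rw [map_sum, Finset.smul_sum]
    refine Finset.sum_congr rfl fun k _ => ?_
    simp only [a, map_smul, smul_smul, pow_succ' g k, Module.End.mul_apply]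
    congr 1
    rw [pow_succ, inv_pow ζ j, mul_comm ((ζ ^ j)⁻¹ ^ k), ← mul_assoc, mul_inv_cancel₀ (pow_ne_zero _ hζ0), one_mul]
  have htop : W₁ ⊔ W₂ = ⊤ := by
    rw [eq_top_iff]
    intro x _
    have hsum : ∑ j ∈ Finset.range r, comp j x = (r : F) • x := by
      simp only [comp]
      rw [Finset.sum_comm, Finset.sum_eq_single 0]
      · simp [Nat.cast_smul_eq_nsmul]
      · intro k hk hk0
        rw [← Finset.sum_smul]
        simp only [← pow_mul, mul_comm _ k]
        simp only [pow_mul]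
        have hne : ζ⁻¹ ^ k ≠ 1 := hζ.inv.pow_ne_one_of_pos_of_lt hk0 (Finset.mem_range.1 hk)
        rw [geom_sum_eq hne, ← pow_mul, mul_comm, pow_mul, hζ.inv.pow_eq_one, one_pow, sub_self, zero_div,
          zero_smul]
      · intro h0
        exact absurd (Finset.mem_range.2 hr.pos) h0
    have hx : x = (r : F)⁻¹ • ∑ j ∈ Finset.range r, comp j x := by rw [hsum, inv_smul_smul₀ hrF]
    rw [hx]
    refine Submodule.smul_mem _ _ (Submodule.sum_mem _ fun j hj => ?_)
    rw [Finset.mem_range] at hj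
    rcases Nat.eq_zero_or_pos j with rfl | hj0
    · rw [hfp (comp 0 x) (by rw [hcomp, pow_zero, one_smul])]
      exact zero_mem _
    by_cases hjh : j ≤ h
    · exact Submodule.mem_sup_left (Submodule.subset_span ⟨j, ⟨hj0, hjh⟩, hcomp j x⟩)
    · exact Submodule.mem_sup_right (Submodule.subset_span ⟨j, ⟨by omega, hj⟩, hcomp j x⟩)
  refine ⟨W₁, hs₁, ?_⟩
  have b1 := two_mul_finrank_singular_le Q hQ W₁ hs₁
  have b2 := two_mul_finrank_singular_le Q hQ W₂ hs₂
  have b3 := Submodule.finrank_sup_add_finrank_inf_eq W₁ W₂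
  rw [htop, finrank_top] at b3
  omega

/-- The type of a space with a fixed-point-free isometry of odd prime order. -/
theorem type_of_fixedFree [Fintype F] [FiniteDimensional F V] {r : ℕ} [hr : Fact r.Prime] (hr2 : r ≠ 2)
    (hrF : (r : F) ≠ 0) (Q : QuadraticForm F V) (hQ : Q.polarBilin.Nondegenerate) {l : ℕ} (hl : 0 < l)
    (hV : Module.finrank F V = 2 * l) {g : Module.End F V} (hiso : ∀ x, Q (g x) = Q x) (hg : g ^ r = 1)
    (hfp : ∀ x, g x = x → x = 0) {a b : F}
    (hab : ∀ x y : F, x ^ 2 + a * x * y + b * y ^ 2 = 0 → x = 0 ∧ y = 0) :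
    ((∃ e : (Fin l ⊕ Fin l → F) ≃ₗ[F] V, ∀ v, Q (e v) = qfPlus l F v) →
        (Fintype.card F : ZMod r) ^ l = 1) ∧
      ((∃ e : ((Fin (l - 1) ⊕ Fin (l - 1)) ⊕ Fin 2 → F) ≃ₗ[F] V, ∀ v, Q (e v) = qfMinus (l - 1) F a b v) →
        (Fintype.card F : ZMod r) ^ l = -1) := by
  classical
  haveI : Finite V := Module.finite_of_finite F
  obtain ⟨n, rfl⟩ : ∃ n, l = n + 1 := ⟨l - 1, by omega⟩
  have hit : ∀ (k : ℕ) (x : V), (g ^ k) x = (fun y => g y)^[k] x := fun k x => by
    induction k with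
    | zero => rfl
    | succ k ih => rw [pow_succ', Module.End.mul_apply, ih, Function.iterate_succ_apply']
  have hfree : ∀ P : V → Prop, (∀ x, P x → P (g x)) → r ∣ Nat.card {x // x ≠ 0 ∧ P x} := by
    intro P hP
    let f : {x // x ≠ 0 ∧ P x} → {x // x ≠ 0 ∧ P x} := fun x => ⟨g x, fun h0 => x.2.1 (by
      obtain ⟨k, hk⟩ : ∃ k, r = k + 1 := ⟨r - 1, by have := hr.out.pos; omega⟩
      have h1 := LinearMap.congr_fun hg x.1
      rw [hk, pow_succ, Module.End.mul_apply, h0, map_zero] at h1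
      exact h1.symm), hP _ x.2.2⟩
    refine dvd_card_of_free f (fun x => Subtype.ext ?_) fun x hx => x.2.1 (hfp _ (congrArg Subtype.val hx))
    have h1 : ∀ k, ((f^[k] x : {x // x ≠ 0 ∧ P x}) : V) = (g ^ k) x.1 := by
      intro k
      induction k with
      | zero => rfl
      | succ k ih =>
        rw [Function.iterate_succ_apply', pow_succ', Module.End.mul_apply, ← ih]
    rw [h1, hg]; rfl
  have hq : Nat.card F = Fintype.card F := Nat.card_eq_fintype_card
  -- all non-zero vectors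
  have hs2 : ((Fintype.card F : ZMod r) ^ (n + 1)) ^ 2 = 1 := by
    have h1 := hfree (fun _ => True) (fun _ _ => trivial)
    have h2 : Nat.card {x : V // x ≠ 0 ∧ True} + 1 = Nat.card V := by
      have h3 := card_ne_zero_zeros (0 : QuadraticForm F V)
      simp only [QuadraticMap.zero_apply, Nat.card_congr (Equiv.subtypeUnivEquiv fun _ : V => trivial)] at h3
      simpa using h3
    rw [Module.natCard_eq_pow_finrank (K := F) (V := V), hV, hq] at h2
    have h4 := congrArg (fun z : ℕ => (z : ZMod r)) h2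
    simp only [Nat.cast_add, Nat.cast_one, Nat.cast_pow, (ZMod.natCast_eq_zero_iff _ r).2 h1, zero_add] at h4
    rw [← pow_mul, mul_comm]
    exact h4.symm
  have hzero : (((Nat.card {v // Q v = 0} : ℕ) : ℤ) : ZMod r) = 1 := by
    rw [Int.cast_natCast, ← card_ne_zero_zeros, Nat.cast_add, Nat.cast_one,
      (ZMod.natCast_eq_zero_iff _ r).2 (hfree (fun x => Q x = 0) fun x hx => by rw [hiso]; exact hx), zero_add]
  set Z : ZMod r := (Fintype.card F : ZMod r) with hZ
  have h2ne : (2 : ZMod r) ≠ 0 := fun h => hr2 ((Nat.prime_dvd_prime_iff_eq hr.out Nat.prime_two).1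
    ((ZMod.natCast_eq_zero_iff 2 r).1 (by exact_mod_cast h)))
  constructor
  · rintro ⟨e, he⟩
    rw [card_zeros_congr (qfPlus (n + 1) F) Q e 1 one_ne_zero (fun v => by rw [he, one_mul]),
      card_zeros_qfPlus] at hzero
    push_cast [hq] at hzero
    rw [← hZ] at hzero
    have h1 : (Z ^ (n + 1) - 1) * (Z ^ (n + 1) + Z) = 0 := by linear_combination Z * hzero
    rcases mul_eq_zero.1 h1 with h | h
    · exact sub_eq_zero.1 h
    rw [add_eq_zero_iff_eq_neg] at h
    rcases sq_eq_one_iff.1 hs2 with h3 | h3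
    · exact h3
    · exfalso
      have hq1 : Z = 1 := by rw [h3] at h; exact (neg_inj.1 h).symm
      rw [hq1, one_pow] at h3
      exact h2ne (by linear_combination h3)
  · rintro ⟨e, he⟩
    replace he : ∀ v, Q (e v) = qfMinus n F a b v := he
    rw [card_zeros_congr (qfMinus n F a b) Q e 1 one_ne_zero (fun v => by rw [he, one_mul]),
      card_zeros_qfMinus hab] at hzero
    push_cast [hq] at hzero
    rw [← hZ] at hzero
    have h1 : (Z ^ (n + 1) + 1) * (Z ^ (n + 1) - Z) = 0 := by linear_combination Z * hzero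
    rcases sq_eq_one_iff.1 hs2 with h3 | h3
    swap
    · exact h3
    rcases mul_eq_zero.1 h1 with h | h
    · exact eq_neg_of_add_eq_zero_left h
    exfalso
    rw [sub_eq_zero, h3] at h
    -- `r ∣ q - 1`
    have hdvd : r ∣ Fintype.card Fˣ := by
      rw [Fintype.card_units, ← ZMod.natCast_eq_zero_iff, Nat.cast_sub Fintype.card_pos, Nat.cast_one,
        ← hZ, ← h, sub_self]
    obtain ⟨u, hu⟩ := exists_prime_orderOf_dvd_card r hdvd
    have hζ : IsPrimitiveRoot (u : F) r := by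
      rw [← hu]
      exact (IsPrimitiveRoot.orderOf u).map_of_injective (f := Units.coeHom F) Units.val_injective
    obtain ⟨W, hW, hWd⟩ := exists_singular_half hr.out hr2 hrF hζ Q hQ hV hiso hg hfp
    refine no_singular_half_minus hab n (W.map e.symm.toLinearMap) ?_ ?_
    · rintro _ ⟨w, hw, rfl⟩
      rw [LinearEquiv.coe_coe, ← he, LinearEquiv.apply_symm_apply]
      exact hW w hw
    · rw [LinearEquiv.finrank_map_eq, hWd]

/-- `Q'` embeds isometrically into `Q`. -/
def Emb {W : Type*} [AddCommGroup W] [Module F W] (Q' : QuadraticForm F W) (Q : QuadraticForm F V) : Prop :=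
  ∃ j : W →ₗ[F] V, ∀ v, Q (j v) = Q' v

theorem Emb.trans {W U : Type*} [AddCommGroup W] [Module F W] [AddCommGroup U] [Module F U]
    {Q'' : QuadraticForm F U} {Q' : QuadraticForm F W} {Q : QuadraticForm F V}
    (h : Emb Q'' Q') (h' : Emb Q' Q) : Emb Q'' Q := by
  obtain ⟨j, hj⟩ := h
  obtain ⟨j', hj'⟩ := h'
  exact ⟨j'.comp j, fun v => by rw [LinearMap.comp_apply, hj', hj]⟩

theorem sum_extend_zero {l m : ℕ} (h : l ≤ m) (x y : Fin l → F) :
    ∑ i : Fin m, Function.extend (Fin.castLE h) x 0 i * Function.extend (Fin.castLE h) y 0 i = ∑ i, x i * y i :=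
  (Fintype.sum_of_injective (Fin.castLE h) (Fin.castLE_injective h) _ _
    (fun i hi => by
      rw [Function.extend_apply' _ _ _ (fun ⟨c, hc⟩ => hi ⟨c, hc⟩), Pi.zero_apply, zero_mul])
    (fun i => by rw [(Fin.castLE_injective h).extend_apply, (Fin.castLE_injective h).extend_apply])).symm

theorem emb_plus_plus {l m : ℕ} (h : l ≤ m) : Emb (qfPlus l F) (qfPlus m F) := by
  let E := Function.ExtendByZero.linearMap F (Fin.castLE h)
  let j : (Fin l ⊕ Fin l → F) →ₗ[F] (Fin m ⊕ Fin m → F) :=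
    { toFun := fun v => Sum.elim (E (v ∘ Sum.inl)) (E (v ∘ Sum.inr))
      map_add' := fun v w => by
        rw [show (v + w) ∘ Sum.inl = v ∘ Sum.inl + w ∘ Sum.inl from rfl,
          show (v + w) ∘ Sum.inr = v ∘ Sum.inr + w ∘ Sum.inr from rfl, map_add, map_add]
        ext (i | i) <;> rfl
      map_smul' := fun c v => by
        rw [show (c • v) ∘ Sum.inl = c • (v ∘ Sum.inl) from rfl,
          show (c • v) ∘ Sum.inr = c • (v ∘ Sum.inr) from rfl, map_smul, map_smul]
        ext (i | i) <;> rfl }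
  exact ⟨j, fun v => by rw [qfPlus_apply, qfPlus_apply]; exact sum_extend_zero h _ _⟩

theorem emb_minus_minus {l m : ℕ} (h : l ≤ m) (a b : F) : Emb (qfMinus l F a b) (qfMinus m F a b) := by
  obtain ⟨j, hj⟩ := emb_plus_plus (F := F) h
  let j' : ((Fin l ⊕ Fin l) ⊕ Fin 2 → F) →ₗ[F] ((Fin m ⊕ Fin m) ⊕ Fin 2 → F) :=
    { toFun := fun v => Sum.elim (j (v ∘ Sum.inl)) (v ∘ Sum.inr)
      map_add' := fun v w => by
        rw [show (v + w) ∘ Sum.inl = v ∘ Sum.inl + w ∘ Sum.inl from rfl, map_add]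
        ext (i | i) <;> rfl
      map_smul' := fun c v => by
        rw [show (c • v) ∘ Sum.inl = c • (v ∘ Sum.inl) from rfl, map_smul]
        ext (i | i) <;> rfl }
  refine ⟨j', fun v => ?_⟩
  have h1 := hj (v ∘ Sum.inl)
  rw [qfPlus_apply, qfPlus_apply] at h1
  rw [qfMinus_apply, qfMinus_apply]
  exact congrArg (· + (v (Sum.inr 0) ^ 2 + a * v (Sum.inr 0) * v (Sum.inr 1) + b * v (Sum.inr 1) ^ 2)) h1

theorem emb_plus_minus (m : ℕ) (a b : F) : Emb (qfPlus m F) (qfMinus m F a b) := by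
  let j : (Fin m ⊕ Fin m → F) →ₗ[F] ((Fin m ⊕ Fin m) ⊕ Fin 2 → F) :=
    { toFun := fun v => Sum.elim v 0
      map_add' := fun v w => by ext (i | i) <;> simp
      map_smul' := fun c v => by ext (i | i) <;> simp }
  exact ⟨j, fun v => by simp [qfPlus_apply, qfMinus_apply, Cfsg.quadFormPlus, Cfsg.quadFormMinus, j]⟩

theorem emb_plus_odd (m : ℕ) : Emb (qfPlus m F) (qfOdd m F) := by
  let j : (Fin m ⊕ Fin m → F) →ₗ[F] (Unit ⊕ (Fin m ⊕ Fin m) → F) :=
    { toFun := fun v => Sum.elim 0 v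
      map_add' := fun v w => by ext (i | i) <;> simp
      map_smul' := fun c v => by ext (i | i) <;> simp }
  exact ⟨j, fun v => by simp [qfPlus_apply, qfOdd_apply, Cfsg.quadFormPlus, Cfsg.quadFormOdd, j]⟩

theorem emb_minus_plus (n : ℕ) (a b : F) : Emb (qfMinus n F a b) (qfPlus (n + 2) F) := by
  let π : (Fin n ⊕ Fin n) ⊕ Fin 2 → (((Fin n ⊕ Fin n) ⊕ Fin 2 → F) →ₗ[F] F) := fun i => LinearMap.proj i
  refine ⟨LinearMap.pi (Sum.elim
    (Fin.cons (π (.inr 0)) (Fin.cons (π (.inr 1)) fun i => π (.inl (.inl i))))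
    (Fin.cons (π (.inr 0) + a • π (.inr 1)) (Fin.cons (b • π (.inr 1)) fun i => π (.inl (.inr i))))), fun v => ?_⟩
  simp [qfPlus_apply, qfMinus_apply, Cfsg.quadFormPlus, Cfsg.quadFormMinus, π, Fin.sum_univ_succ]
  ring

theorem emb_minus_odd (h2 : (2 : F) ≠ 0) (n : ℕ) (a b : F) : Emb (qfMinus n F a b) (qfOdd (n + 1) F) := by
  let π : (Fin n ⊕ Fin n) ⊕ Fin 2 → (((Fin n ⊕ Fin n) ⊕ Fin 2 → F) →ₗ[F] F) := fun i => LinearMap.proj i
  refine ⟨LinearMap.pi (Sum.elim (fun _ => π (.inr 0) + (a / 2) • π (.inr 1)) (Sum.elim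
    (Fin.cons (π (.inr 1)) fun i => π (.inl (.inl i)))
    (Fin.cons ((b - a ^ 2 / 4) • π (.inr 1)) fun i => π (.inl (.inr i))))), fun v => ?_⟩
  simp [qfOdd_apply, qfMinus_apply, Cfsg.quadFormOdd, Cfsg.quadFormMinus, π, Fin.sum_univ_succ]
  rw [show (4 : F) = 2 * 2 by norm_num]
  field_simp
  ring

end Cfsg.Agent.OrthPrime
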