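import Cfsg.Agent.EqLemmas
import Cfsg.Agent.S2645

/-!
# Characteristic polynomials of `r`-torsion symplectic elements

`exists_polys_equiv`: they correspond to the trace polynomials, with `χ(1) = P(2)`.
-/

set_option autoImplicit false

namespace Cfsg.Agent.OrthPrime

open Polynomial Cfsg.Agent.FormClasses Cfsg.Agent.S2645

variable {F : Type*} [Field F]

/-- Characteristic polynomials of `r`-torsion elements of `Sp_2m`. -/
def SpSet (F : Type*) [Field F] (r m : ℕ) : Set F[X] :=
  {χ | ∃ h : ↥(Matrix.symplecticGroup (Fin m) F),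
    h ^ r = 1 ∧ (h : Matrix (Fin m ⊕ Fin m) (Fin m ⊕ Fin m) F).charpoly = χ}

theorem exists_polys_equiv [Fintype F] (p : ℕ) [Fact p.Prime] [CharP F p] (m r : ℕ) (hr : r.Prime) (hrp : r ≠ p) :
    ∃ e : polys F r m ≃ SpSet F r m, ∀ P, ((e P : F[X])).eval 1 = (P : F[X]).eval 2 := by
  classical
  haveI : Finite ↥(Matrix.symplecticGroup (Fin m) F) := Subtype.finite
  let E := AlgebraicClosure F
  let ρ : ↥(Matrix.symplecticGroup (Fin m) F) →* Matrix (Fin m ⊕ Fin m) (Fin m ⊕ Fin m) F :=
    (Matrix.symplecticGroup (Fin m) F).subtype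
  have hrange : Nat.card (Set.range fun g => (ρ g).charpoly) = Fintype.card F ^ m := by
    rw [← card_classes_eq_range p ρ (fun g h hg hh hc => sp_isConj p m g h hg hh hc)]
    exact Cfsg.Agent.S2385.result rfl p m
  let M := {P : F[X] // P.Monic ∧ P.natDegree = m}
  choose G hG using fun P : M => Cfsg.Agent.S2385.exists_realise m P.1 P.2.1 P.2.2
  let Ψ : M → Set.range fun g => (ρ g).charpoly := fun P => ⟨_, G P, rfl⟩
  have hΨ : Function.Injective Ψ := by
    intro P Q hPQ
    apply Subtype.ext
    apply Polynomial.map_injective (algebraMap F E) (RingHom.injective _)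
    apply Polynomial.funext
    intro x
    obtain ⟨t, ht0, hx⟩ := exists_trace_eq x
    have hc : (ρ (G P)).charpoly = (ρ (G Q)).charpoly := congrArg Subtype.val hPQ
    have h1 : aeval t (ρ (G P)).charpoly = _ := hG P t ht0
    rw [hc] at h1
    rw [eval_map, eval_map, ← aeval_def, ← aeval_def, ← hx]
    exact mul_left_cancel₀ (pow_ne_zero m ht0) (h1.symm.trans (hG Q t ht0))
  haveI : Finite M := Finite.of_equiv _ (Semisimple.monicEquiv (F := F) m).symm
  haveI : Finite (Set.range fun g => (ρ g).charpoly) := Set.finite_range _ |>.to_subtype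
  have hΨs : Function.Bijective Ψ := hΨ.bijective_of_nat_card_le (by
    rw [hrange, Nat.card_congr (Semisimple.monicEquiv (F := F) m), Nat.card_fun, Nat.card_fin,
      Nat.card_eq_fintype_card])
  have hcop : ∀ g : ↥(Matrix.symplecticGroup (Fin m) F), g ^ r = 1 → (orderOf g).Coprime p := by
    intro g hg
    exact Nat.Coprime.coprime_dvd_left (orderOf_dvd_of_pow_eq_one hg)
      ((Nat.coprime_primes hr Fact.out).2 hrp)
  have hcoeff : ∀ g : ↥(Matrix.symplecticGroup (Fin m) F), (ρ g).charpoly.coeff 0 ≠ 0 := by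
    intro g h0
    have h1 := Matrix.det_eq_sign_charpoly_coeff (ρ g)
    rw [h0, mul_zero, show (ρ g).det = 1 from SymplecticGroup.det_eq_one g.2] at h1
    exact one_ne_zero h1
  have hroots : ∀ (g : ↥(Matrix.symplecticGroup (Fin m) F)), g ^ r = 1 →
      ∀ t : E, aeval t (ρ g).charpoly = 0 → t ^ r = 1 := by
    intro g hg t ht
    have hM : ((ρ g).map (algebraMap F E)) ^ r = 1 := by
      rw [← Matrix.map_pow, ← map_pow, hg, map_one, Matrix.map_one _ (map_zero _) (map_one _)]
    have hroot : ((ρ g).map (algebraMap F E)).charpoly.IsRoot t := by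
      rw [Matrix.charpoly_map, IsRoot, eval_map, ← aeval_def, ht]
    rcases Nat.eq_zero_or_pos m with hm | hm
    · subst hm
      exfalso
      rw [Matrix.charpoly, Matrix.det_isEmpty] at ht
      simp at ht
    haveI : Nonempty (Fin m) := ⟨⟨0, hm⟩⟩
    have h2 := spectrum.pow_mem_pow ((ρ g).map (algebraMap F E)) r
      (Matrix.mem_spectrum_iff_isRoot_charpoly.2 hroot)
    rw [hM, spectrum.one_eq] at h2
    exact h2
  have hpolys : ∀ P : M, (∃ g : ↥(Matrix.symplecticGroup (Fin m) F), g ^ r = 1 ∧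
      (ρ g).charpoly = (ρ (G P)).charpoly) ↔ P.1 ∈ polys F r m := by
    intro P
    constructor
    · rintro ⟨g, hg, hc⟩
      refine ⟨P.2.1, P.2.2, fun x hx => ?_⟩
      obtain ⟨t, ht0, htx⟩ := exists_trace_eq x
      refine ⟨t, hroots g hg t ?_, htx⟩
      rw [hc]
      exact (hG P t ht0).trans (by rw [htx, hx, mul_zero])
    · intro hP
      set χ := (ρ (G P)).charpoly with hχ
      have hr1 : ∀ t : E, aeval t χ = 0 → t ^ r = 1 := by
        intro t ht
        have ht0 : t ≠ 0 := by
          rintro rfl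
          rw [aeval_def, eval₂_at_zero, map_eq_zero] at ht
          exact hcoeff _ ht
        have h1 := hG P t ht0
        have h2 : aeval t χ = t ^ m * aeval (t + t⁻¹) P.1 := h1
        rw [ht, eq_comm, mul_eq_zero] at h2
        obtain ⟨z, hz, hzx⟩ := hP.2.2 _ (h2.resolve_left (pow_ne_zero m ht0))
        have hz0 : z ≠ 0 := fun h => by simp [h, hr.ne_zero] at hz
        rcases eq_or_inv_of_trace_eq hz0 ht0 hzx with e | e
        · rw [← e, hz]
        · rw [← inv_inv t, ← e, inv_pow, hz, inv_one]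
      have hdvd : χ ∣ ((X : F[X]) ^ r - 1) ^ χ.natDegree := by
        rw [← Polynomial.map_dvd_map' (algebraMap F E)]
        have hsp : (χ.map (algebraMap F E)).Splits := IsAlgClosed.splits _
        conv_lhs => rw [hsp.eq_prod_roots_of_monic ((Matrix.charpoly_monic _).map _)]
        have hcard : (χ.map (algebraMap F E)).roots.card = χ.natDegree := by
          rw [← hsp.natDegree_eq_card_roots, natDegree_map]
        rw [Polynomial.map_pow, ← hcard, ← Multiset.prod_replicate, ← Multiset.map_const']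
        refine Multiset.prod_dvd_prod_of_dvd _ _ fun a ha => ?_
        rw [Polynomial.map_sub, Polynomial.map_pow, map_X, Polynomial.map_one, dvd_iff_isRoot, IsRoot,
          eval_sub, eval_pow, eval_X, eval_one, hr1 a, sub_self]
        rw [mem_roots', IsRoot, eval_map, ← aeval_def] at ha
        exact ha.2
      obtain ⟨s, hp, hs⟩ := FiniteField.card F p
      refine ⟨G P ^ Fintype.card F ^ χ.natDegree, ?_, ?_⟩
      · have h0 : (ρ (G P) ^ r - 1) ^ χ.natDegree = 0 := by
          obtain ⟨c, hc⟩ := hdvd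
          have h := congrArg (aeval (ρ (G P))) hc
          rw [map_mul, hχ, Matrix.aeval_self_charpoly, zero_mul] at h
          simpa [← hχ] using h
        have hle : χ.natDegree ≤ p ^ (s * χ.natDegree : ℕ) :=
          (Nat.le_mul_of_pos_left _ s.pos).trans (Nat.lt_pow_self (Fact.out : p.Prime).one_lt).le
        haveI : Nontrivial F := inferInstance
        rcases Nat.eq_zero_or_pos m with hm | hm
        · subst hm
          exact Subtype.ext (Subsingleton.elim _ _)
        haveI : Nonempty (Fin m) := ⟨⟨0, hm⟩⟩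
        have h1 := pow_eq_zero_of_le hle h0
        rw [sub_pow_char_pow_of_commute _ _ (Commute.one_right _), one_pow, sub_eq_zero, pow_mul p,
          ← hs] at h1
        rw [← pow_mul, mul_comm, pow_mul]
        apply Subtype.ext
        show ρ ((G P ^ r) ^ Fintype.card F ^ χ.natDegree) = 1
        rw [map_pow, map_pow, h1]
      · rw [map_pow]
        generalize χ.natDegree = a
        induction a with
        | zero => simp [← hχ]
        | succ a ih => rw [pow_succ, pow_mul, FiniteField.Matrix.charpoly_pow_card, ih]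
  let Φ : polys F r m → SpSet F r m := fun P => ⟨(ρ (G ⟨P.1, P.2.1, P.2.2.1⟩)).charpoly,
    (hpolys ⟨P.1, P.2.1, P.2.2.1⟩).2 P.2⟩
  have hb : Function.Bijective Φ := by
    refine ⟨fun P Q h => ?_, ?_⟩
    · have h1 := hΨ (a₁ := ⟨P.1, P.2.1, P.2.2.1⟩) (a₂ := ⟨Q.1, Q.2.1, Q.2.2.1⟩)
        (Subtype.ext (congrArg (fun x : SpSet F r m => x.1) h))
      exact Subtype.ext (congrArg (fun x : M => x.1) h1)
    · rintro ⟨χ, g, hg, rfl⟩
      obtain ⟨P, hP⟩ := hΨs.2 ⟨_, g, rfl⟩
      have hP' : (ρ (G P)).charpoly = (ρ g).charpoly := congrArg Subtype.val hP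
      exact ⟨⟨P.1, (hpolys P).1 ⟨g, hg, hP'.symm⟩⟩, Subtype.ext hP'⟩
  refine ⟨Equiv.ofBijective Φ hb, fun P => ?_⟩
  show (ρ (G ⟨P.1, P.2.1, P.2.2.1⟩)).charpoly.eval 1 = P.1.eval 2
  apply (algebraMap F E).injective
  have h := hG ⟨P.1, P.2.1, P.2.2.1⟩ 1 one_ne_zero
  rw [← aeval_algebraMap_apply_eq_algebraMap_eval, ← aeval_algebraMap_apply_eq_algebraMap_eval, map_one, map_ofNat]
  refine h.trans ?_
  rw [one_pow, one_mul, inv_one, one_add_one_eq_two]

end Cfsg.Agent.OrthPrime
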