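import Cfsg.Agent.EqLemmas
import Cfsg.Agent.Lib.OrthPrime.Type
import Cfsg.Agent.Lib.OrthPrime.SpTorsion
import Cfsg.Agent.Lib.Forms.Witt
import Cfsg.Agent.Lib.Forms.Symplectic

/-!
# Classes of elements of odd prime order in orthogonal groups

`card_torsion_orth`: they correspond to characteristic polynomials of symplectic elements of the same order, apart from
the fixed-point-free ones when the type of the space is the wrong one.
-/

set_option autoImplicit false

namespace Cfsg.Agent.OrthPrime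

open Polynomial Cfsg.Agent.Forms Cfsg.Agent.S2645

variable {F : Type*} [Field F]

/-- An alternating space with an isometry gives a symplectic matrix. -/
theorem sp_of_alt {W : Type*} [AddCommGroup W] [Module F W] [FiniteDimensional F W] {r : ℕ}
    (ω : LinearMap.BilinForm F W) (halt : ω.IsAlt) (hnd : ∀ x, (∀ y, ω x y = 0) → x = 0) (g : Module.End F W)
    (hinv : ∀ x y, ω (g x) (g y) = ω x y) (hg : g ^ r = 1) :
    ∃ l, Module.finrank F W = 2 * l ∧ g.charpoly ∈ SpSet F r l := by
  classical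
  obtain ⟨l, k, e, he⟩ := exists_symplectic_equiv ω halt
  obtain rfl : k = 0 := by
    by_contra hk
    have hz : e (Pi.single (.inr ⟨0, Nat.pos_of_ne_zero hk⟩) 1) = 0 := hnd _ fun y => by
      obtain ⟨z, rfl⟩ := e.surjective y
      simp [he, altStd, Pi.single_apply]
    rw [LinearEquiv.map_eq_zero_iff] at hz
    simpa using congrFun hz (.inr ⟨0, Nat.pos_of_ne_zero hk⟩)
  let E : (Fin l ⊕ Fin l → F) ≃ₗ[F] W :=
    (LinearEquiv.funCongrLeft F F (Equiv.sumEmpty (Fin l ⊕ Fin l) (Fin 0))).trans e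
  have hE : ∀ x y, ω (E x) (E y) = GLOrder.sympB l F x y := fun x y => by
    simp [E, he, altStd, GLOrder.sympB_apply, LinearEquiv.funCongrLeft_apply, LinearMap.funLeft]
  refine ⟨l, ?_, ?_⟩
  · rw [← E.finrank_eq, Module.finrank_fintype_fun_eq_card, Fintype.card_sum, Fintype.card_fin, two_mul]
  set H := LinearMap.toMatrix' (E.symm.conj g) with hH
  have hmv : ∀ u, H.mulVec u = E.symm (g (E u)) := fun u => by
    rw [hH, LinearMap.toMatrix'_mulVec]; simp [LinearEquiv.conj_apply]
  have hmem : H ∈ Matrix.symplecticGroup (Fin l) F :=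
    (GLOrder.mem_symplecticGroup_iff_preserves _).2 fun u v => by
      rw [hmv, hmv, ← hE, ← hE, LinearEquiv.apply_symm_apply, LinearEquiv.apply_symm_apply, hinv]
  refine ⟨⟨H, hmem⟩, ?_, ?_⟩
  · apply Subtype.ext
    show H ^ r = 1
    have hk : ∀ k u, (H ^ k).mulVec u = E.symm ((g ^ k) (E u)) := by
      intro k
      induction k with
      | zero => intro u; simp
      | succ k ih =>
        intro u
        rw [pow_succ, ← Matrix.mulVec_mulVec, ih, hmv, LinearEquiv.apply_symm_apply, pow_succ,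
          Module.End.mul_apply]
    apply Matrix.toLin'.injective
    refine LinearMap.ext fun u => ?_
    rw [Matrix.toLin'_apply, hk, hg]
    simp
  · show H.charpoly = _
    rw [hH, ← Matrix.charpoly_toLin', Matrix.toLin'_toMatrix', LinearEquiv.charpoly_conj]

theorem spset_pad {r l : ℕ} (k : ℕ) {χ : F[X]} (h : χ ∈ SpSet F r l) :
    (X - C 1) ^ (2 * k) * χ ∈ SpSet F r (l + k) := by
  classical
  obtain ⟨H, hH, rfl⟩ := h
  let W := (Fin k ⊕ Fin k → F) × (Fin l ⊕ Fin l → F)
  let ω : LinearMap.BilinForm F W :=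
    (GLOrder.sympB k F).compl₁₂ (LinearMap.fst F _ _) (LinearMap.fst F _ _) +
      (GLOrder.sympB l F).compl₁₂ (LinearMap.snd F _ _) (LinearMap.snd F _ _)
  have hω : ∀ x y : W, ω x y = GLOrder.sympB k F x.1 y.1 + GLOrder.sympB l F x.2 y.2 := fun x y => rfl
  let g : Module.End F W := LinearMap.prodMap 1 (Matrix.toLin' (H : Matrix (Fin l ⊕ Fin l) (Fin l ⊕ Fin l) F))
  have hg : ∀ x : W, g x = (x.1, (H : Matrix (Fin l ⊕ Fin l) (Fin l ⊕ Fin l) F).mulVec x.2) := fun x => rfl
  obtain ⟨n, hn, hmem⟩ := sp_of_alt (r := r) ω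
    (fun x => by show ω x x = 0; rw [hω, GLOrder.sympB_self, GLOrder.sympB_self, add_zero])
    (fun x hx => Prod.ext (GLOrder.sympB_nondeg _ fun y => by simpa [hω] using hx (y, 0))
      (GLOrder.sympB_nondeg _ fun y => by simpa [hω] using hx (0, y)))
    g (fun x y => by
      rw [hω, hω, hg, hg]
      show GLOrder.sympB k F x.1 y.1 + _ = _
      rw [(GLOrder.mem_symplecticGroup_iff_preserves _).1 H.2])
    (by
      refine LinearMap.ext fun x => ?_
      have hk : ∀ j, (g ^ j) x =
          (x.1, ((H ^ j : ↥(Matrix.symplecticGroup (Fin l) F)) : Matrix (Fin l ⊕ Fin l) (Fin l ⊕ Fin l) F).mulVec x.2) := by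
        intro j
        induction j with
        | zero => simp
        | succ j ih =>
          rw [pow_succ', Module.End.mul_apply, ih, hg]
          simp [pow_succ', Matrix.mulVec_mulVec]
      rw [hk, hH]
      simp)
  have hn' : n = l + k := by
    simp [W] at hn
    omega
  subst hn'
  have hc : g.charpoly = (X - C 1) ^ (2 * k) * (H : Matrix (Fin l ⊕ Fin l) (Fin l ⊕ Fin l) F).charpoly := by
    rw [LinearMap.charpoly_prodMap, LinearMap.charpoly_one, Matrix.charpoly_toLin',
      Module.finrank_fintype_fun_eq_card, Fintype.card_sum, Fintype.card_fin, ← two_mul, map_one]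
  rwa [hc] at hmem

section Space

variable {ι : Type} [Fintype ι] [DecidableEq ι] [Finite F] {r : ℕ}
  (Q : QuadraticForm F (ι → F)) (hQ : Q.polarBilin.Nondegenerate) (hrF : (r : F) ≠ 0) (hodd : Odd r)
include hQ hrF hodd

/-- The restriction of the form to the moved space. -/
theorem mov_nondeg {g : Module.End F (ι → F)} (hiso : ∀ x, Q (g x) = Q x) (hg : g ^ r = 1) :
    (Q.comp (movSub g).subtype).polarBilin.Nondegenerate := by
  rw [nondegenerate_polarBilin_iff]
  intro x hx
  apply Subtype.ext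
  refine (nondegenerate_polarBilin_iff Q).1 hQ _ fun y => ?_
  obtain ⟨f, hf, m, hm, rfl⟩ := Submodule.mem_sup.1 ((isCompl_fix_mov hrF hg).sup_eq_top ▸ Submodule.mem_top :
    y ∈ fixSub g ⊔ movSub g)
  have h1 : QuadraticMap.polar Q (x : ι → F) m = 0 := by
    have := hx ⟨m, hm⟩
    simpa [QuadraticMap.polar] using this
  have h2 : QuadraticMap.polar Q (x : ι → F) f = 0 := by
    obtain ⟨w, hw⟩ := x.2
    rw [← hw, LinearMap.sub_apply, Module.End.one_apply, QuadraticMap.polar_sub_left]
    nth_rewrite 1 [← mem_fixSub.1 hf]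
    rw [polar_inv Q hiso, sub_self]
  rw [QuadraticMap.polar_add_right, h1, h2, add_zero]

/-- The characteristic polynomial of an orthogonal element comes from the symplectic group. -/
theorem exists_spset {m : ℕ} (hn : Fintype.card ι = 2 * m ∨ Fintype.card ι = 2 * m + 1) {g : Module.End F (ι → F)}
    (hiso : ∀ x, Q (g x) = Q x) (hg : g ^ r = 1) :
    ∃ χ ∈ SpSet F r m, g.charpoly = (X - C 1) ^ (Fintype.card ι - 2 * m) * χ := by
  obtain ⟨H, G, N⟩ := skew_form (Q.comp (movSub g).subtype) (mov_nondeg Q hQ hrF hodd hiso hg) hodd (movEnd g)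
    (fun x => hiso _) (movEnd_pow hg) (movEnd_fixedFree hrF hg)
  let ω : LinearMap.BilinForm F (movSub g) :=
    (Q.comp (movSub g).subtype).polarBilin.compl₂ (skewPart r (movEnd g))
  obtain ⟨l, hl, hmem⟩ := sp_of_alt (r := r) ω (fun x => H.alt (fun _ => rfl) x) N (movEnd g) G.isom (movEnd_pow hg)
  have hd := Submodule.finrank_add_eq_of_isCompl (isCompl_fix_mov hrF hg)
  rw [hl, Module.finrank_fintype_fun_eq_card] at hd
  refine ⟨_, (Nat.add_sub_cancel' (show l ≤ m by omega)) ▸ spset_pad (m - l) hmem, ?_⟩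
  rw [(charpoly_split hrF hg).1, ← mul_assoc, ← pow_add]
  congr 2
  omega

/-- Elements with the same characteristic polynomial are conjugate. -/
theorem exists_conj {g g' : Module.End F (ι → F)} (hiso : ∀ x, Q (g x) = Q x) (hiso' : ∀ x, Q (g' x) = Q x)
    (hg : g ^ r = 1) (hg' : g' ^ r = 1) (hc : g.charpoly = g'.charpoly) :
    ∃ k : (ι → F) ≃ₗ[F] (ι → F), (∀ x, Q (k x) = Q x) ∧ ∀ x, k (g x) = g' (k x) := by
  obtain ⟨e, he, heg⟩ := exists_quad_equiv (Q.comp (movSub g).subtype) (mov_nondeg Q hQ hrF hodd hiso hg)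
    (Q.comp (movSub g').subtype) (mov_nondeg Q hQ hrF hodd hiso' hg') hrF hodd (g := movEnd g) (g' := movEnd g')
    (fun x => hiso _) (fun x => hiso' _) (movEnd_pow hg) (movEnd_pow hg') (movEnd_fixedFree hrF hg)
    (movEnd_fixedFree hrF hg') (movEnd_charpoly_eq hrF hg hg' hc)
  obtain ⟨k, hk, hkM⟩ := witt_quadratic Q hQ (movSub g) (movSub g') e fun x => he x
  refine ⟨k, hk, fun x => ?_⟩
  obtain ⟨f, hf, m, hm, rfl⟩ := Submodule.mem_sup.1 ((isCompl_fix_mov hrF hg).sup_eq_top ▸ Submodule.mem_top :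
    x ∈ fixSub g ⊔ movSub g)
  have hmov : k (g m) = g' (k m) := by
    rw [hkM ⟨m, hm⟩, show g m = ((movEnd g ⟨m, hm⟩ : movSub g) : ι → F) from rfl, hkM, ← heg ⟨m, hm⟩]
    rfl
  have hkf : k f ∈ fixSub g' := by
    obtain ⟨f', hf', m', hm', e'⟩ := Submodule.mem_sup.1 ((isCompl_fix_mov hrF hg').sup_eq_top ▸ Submodule.mem_top :
      k f ∈ fixSub g' ⊔ movSub g')
    suffices h0 : (⟨m', hm'⟩ : movSub g') = 0 by
      rw [← e', show m' = 0 from congrArg Subtype.val h0, add_zero]
      exact hf'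
    have horth : ∀ {h : Module.End F (ι → F)}, (∀ x, Q (h x) = Q x) → ∀ a ∈ fixSub h, ∀ b ∈ movSub h,
        QuadraticMap.polar Q a b = 0 := by
      rintro h hh a ha _ ⟨w, rfl⟩
      rw [LinearMap.sub_apply, Module.End.one_apply, QuadraticMap.polar_sub_right]
      nth_rewrite 1 [← mem_fixSub.1 ha]
      rw [polar_inv Q hh, sub_self]
    refine (nondegenerate_polarBilin_iff _).1 (mov_nondeg Q hQ hrF hodd hiso' hg') _ fun y => ?_
    show QuadraticMap.polar (Q.comp (movSub g').subtype) _ y = 0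
    obtain ⟨z, rfl⟩ := e.surjective y
    have h1 : QuadraticMap.polar Q (k f) (k z) = 0 :=
      (polar_inv Q (g := k.toLinearMap) hk f z).trans (horth hiso f hf z z.2)
    rw [hkM, ← e', QuadraticMap.polar_add_left, horth hiso' f' hf' _ (e z).2, zero_add] at h1
    simpa [QuadraticMap.polar] using h1
  rw [map_add g, mem_fixSub.1 hf, map_add k, map_add k, map_add g', mem_fixSub.1 hkf, hmov]

omit hodd [DecidableEq ι] [Finite F] in
/-- Extension of an isometry of an embedded space by the identity. -/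
theorem exists_extend {W : Type*} [AddCommGroup W] [Module F W] [FiniteDimensional F W] (R : QuadraticForm F W)
    (hR : R.polarBilin.Nondegenerate) (j : W →ₗ[F] (ι → F)) (hj : ∀ v, Q (j v) = R v) (h : Module.End F W)
    (hh : ∀ v, R (h v) = R v) (hpow : h ^ r = 1) :
    ∃ g : Module.End F (ι → F), (∀ x, Q (g x) = Q x) ∧ g ^ r = 1 ∧
      g.charpoly = (X - C 1) ^ (Fintype.card ι - Module.finrank F W) * h.charpoly := by
  have hp : ∀ u v, QuadraticMap.polar Q (j u) (j v) = QuadraticMap.polar R u v := fun u v => by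
    simp only [QuadraticMap.polar, ← map_add, hj]
  have hjinj : Function.Injective j := (injective_iff_map_eq_zero j).2 fun x hx =>
    (nondegenerate_polarBilin_iff R).1 hR x fun y => by rw [← hp, hx, QuadraticMap.polar_zero_left]
  let S := LinearMap.BilinForm.orthogonal Q.polarBilin (LinearMap.range j)
  have hc : IsCompl (LinearMap.range j) S := by
    rw [LinearMap.BilinForm.isCompl_orthogonal_iff_disjoint]
    · rw [Submodule.disjoint_def]
      rintro _ ⟨x, rfl⟩ hx
      rw [(nondegenerate_polarBilin_iff R).1 hR x fun y => ?_, map_zero]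
      rw [QuadraticMap.polar_comm, ← hp]
      exact hx _ ⟨y, rfl⟩
    · intro u v huv
      show QuadraticMap.polar Q v u = 0
      rw [QuadraticMap.polar_comm]; exact huv
  let E : (W × S) ≃ₗ[F] (ι → F) :=
    ((LinearEquiv.ofInjective j hjinj).prodCongr (LinearEquiv.refl F S)).trans (Submodule.prodEquivOfIsCompl _ _ hc)
  have hE : ∀ z, E z = j z.1 + (z.2 : ι → F) := fun z => by
    simp [E]
  let g : Module.End F (ι → F) := E.conj (h.prodMap 1)
  have hgE : ∀ z, g (E z) = E (h z.1, z.2) := fun z => by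
    simp [g, LinearEquiv.conj_apply_apply]
  refine ⟨g, fun x => ?_, ?_, ?_⟩
  · obtain ⟨z, rfl⟩ := E.surjective x
    have ho : ∀ a, QuadraticMap.polar Q (j a) (z.2 : ι → F) = 0 := fun a => z.2.2 _ ⟨a, rfl⟩
    rw [hgE, hE, hE, QuadraticMap.map_add (⇑Q), QuadraticMap.map_add (⇑Q), ho, ho, hj, hj, hh]
  · refine LinearMap.ext fun x => ?_
    obtain ⟨z, rfl⟩ := E.surjective x
    have hk : ∀ k, (g ^ k) (E z) = E ((h ^ k) z.1, z.2) := by
      intro k
      induction k with
      | zero => rfl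
      | succ k ih => rw [pow_succ', Module.End.mul_apply, ih, hgE, pow_succ', Module.End.mul_apply]
    rw [hk, hpow]
    rfl
  · rw [LinearEquiv.charpoly_conj, LinearMap.charpoly_prodMap, LinearMap.charpoly_one, mul_comm, map_one]
    congr 2
    have := E.finrank_eq
    rw [Module.finrank_prod, Module.finrank_fintype_fun_eq_card] at this
    omega

end Space

/-- The count. -/
theorem card_torsion_orth [Fintype F] (p : ℕ) [Fact p.Prime] [CharP F p] {r : ℕ} [hr : Fact r.Prime]
    (hr2 : r ≠ 2) (hrp : r ≠ p) {ι : Type} [Fintype ι] [DecidableEq ι] (Q : QuadraticForm F (ι → F))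
    (hQ : Q.polarBilin.Nondegenerate) (Qf : (ι → F) → F) (hQf : ⇑Q = Qf) {m : ℕ}
    (hn : Fintype.card ι = 2 * m ∨ Fintype.card ι = 2 * m + 1) (OK : Prop) [Decidable OK]
    (hOKodd : Fintype.card ι = 2 * m + 1 → OK) (hm : ¬ OK → 0 < m) {a b : F}
    (hab : ∀ x y : F, x ^ 2 + a * x * y + b * y ^ 2 = 0 → x = 0 ∧ y = 0)
    (hEmb : ∀ l, 0 < l → l ≤ m → (l < m ∨ OK) →
      ((Fintype.card F : ZMod r) ^ l = 1 → Emb (qfPlus l F) Q) ∧
        ((Fintype.card F : ZMod r) ^ l = -1 → Emb (qfMinus (l - 1) F a b) Q))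
    (hNec : ∀ g : Module.End F (ι → F), (∀ x, Q (g x) = Q x) → g ^ r = 1 → (∀ x, g x = x → x = 0) →
      0 < m → Fintype.card ι = 2 * m → OK) :
    Nat.card {C : ConjClasses ↥(Cfsg.isometryGroup F Qf) //
      ∃ g : ↥(Cfsg.isometryGroup F Qf), ConjClasses.mk g = C ∧ g ^ r = 1} =
      if OK then Nat.card (polys F r m) else Nat.card (polys F r (m - 1)) := by
  classical
  subst hQf
  have hrF : (r : F) ≠ 0 := fun h => hrp ((Nat.prime_dvd_prime_iff_eq Fact.out hr.out).1
    ((CharP.cast_eq_zero_iff F p r).1 h)).symm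
  have hodd : Odd r := hr.out.odd_of_ne_two hr2
  let lin : ↥(Cfsg.isometryGroup F ⇑Q) → Module.End F (ι → F) := fun g =>
    Matrix.toLin' ((g : GL ι F) : Matrix ι ι F)
  have hlin : ∀ g x, Q (lin g x) = Q x := fun g x => by
    simp only [lin, Matrix.toLin'_apply]
    exact (mem_isometryGroup _ _).1 g.2 x
  have hlpow : ∀ g, g ^ r = 1 → lin g ^ r = 1 := fun g hg => by
    simp only [lin, ← Matrix.toLin'_pow, ← Units.val_pow_eq_pow_val, ← SubmonoidClass.coe_pow, hg]
    exact Matrix.toLin'_one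
  have hchar : ∀ {g g'}, IsConj g g' → (lin g).charpoly = (lin g').charpoly := by
    intro g g' h
    obtain ⟨c, rfl⟩ := isConj_iff.1 h
    simp only [lin, Matrix.charpoly_toLin', Subgroup.coe_mul, Units.val_mul, Subgroup.coe_inv, Matrix.coe_units_inv,
      Matrix.charpoly_units_conj]
  let T := {χ : SpSet F r m // (χ : F[X]).eval 1 = 0 ∨ OK}
  have hT : ∀ g, g ^ r = 1 → ∃ χ : T,
      (lin g).charpoly = (X - C 1) ^ (Fintype.card ι - 2 * m) * (χ.1 : F[X]) := by
    intro g hg
    obtain ⟨χ, hχ, he⟩ := exists_spset Q hQ hrF hodd hn (hlin g) (hlpow g hg)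
    refine ⟨⟨⟨χ, hχ⟩, ?_⟩, he⟩
    show χ.eval 1 = 0 ∨ OK
    by_cases h1 : χ.eval 1 = 0
    · exact Or.inl h1
    refine Or.inr ?_
    rcases hn with hn | hn
    swap
    · exact hOKodd hn
    by_contra hOK
    refine hOK (hNec _ (hlin g) (hlpow g hg) (fun x hx => ?_) (hm hOK) hn)
    have hχ0 : ¬ χ.IsRoot 1 := h1
    have h2 := rootMultiplicity_charpoly hrF (hlpow g hg)
    rw [he, hn, Nat.sub_self, pow_zero, one_mul, rootMultiplicity_eq_zero hχ0] at h2
    have h3 := mem_fixSub.2 hx
    rw [Submodule.finrank_eq_zero.1 h2.symm] at h3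
    exact (Submodule.mem_bot F).1 h3
  choose f hf using hT
  let Φ : {C : ConjClasses ↥(Cfsg.isometryGroup F ⇑Q) //
      ∃ g : ↥(Cfsg.isometryGroup F ⇑Q), ConjClasses.mk g = C ∧ g ^ r = 1} → T :=
    fun C => f C.2.choose C.2.choose_spec.2
  have hΦ : Function.Bijective Φ := by
    refine ⟨fun C C' h => ?_, ?_⟩
    · have hc : (lin C.2.choose).charpoly = (lin C'.2.choose).charpoly := by
        rw [hf _ C.2.choose_spec.2, hf _ C'.2.choose_spec.2]
        exact congrArg (fun χ : T => (X - Polynomial.C 1) ^ (Fintype.card ι - 2 * m) * (χ.1 : F[X])) h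
      obtain ⟨k, hk, hkg⟩ := exists_conj Q hQ hrF hodd (hlin _) (hlin _) (hlpow _ C.2.choose_spec.2)
        (hlpow _ C'.2.choose_spec.2) hc
      apply Subtype.ext
      rw [← C.2.choose_spec.1, ← C'.2.choose_spec.1, ConjClasses.mk_eq_mk_iff_isConj, isConj_iff]
      let k' : ↥(Cfsg.isometryGroup F ⇑Q) := (isometryGroupEquiv ⇑Q).symm ⟨k, hk⟩
      have hk' : ∀ v, ((k' : GL ι F) : Matrix ι ι F).mulVec v = k v := fun v => by
        rw [← isometryGroupEquiv_apply ⇑Q k' v, MulEquiv.apply_symm_apply]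
      refine ⟨k', ?_⟩
      rw [mul_inv_eq_iff_eq_mul]
      apply Subtype.ext
      apply Units.ext
      apply Matrix.toLin'.injective
      refine LinearMap.ext fun v => ?_
      simp only [Subgroup.coe_mul, Units.val_mul, Matrix.toLin'_apply, ← Matrix.mulVec_mulVec, hk']
      exact hkg v
    · rintro ⟨⟨χ, H, hH, rfl⟩, hcond⟩
      set h : Module.End F (Fin m ⊕ Fin m → F) :=
        Matrix.toLin' (H : Matrix (Fin m ⊕ Fin m) (Fin m ⊕ Fin m) F) with hh
      have hhinv : ∀ x y, GLOrder.sympB m F (h x) (h y) = GLOrder.sympB m F x y := fun x y => by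
        simp only [hh, Matrix.toLin'_apply]
        exact (GLOrder.mem_symplecticGroup_iff_preserves _).1 H.2 x y
      have hhpow : h ^ r = 1 := by
        rw [hh, ← Matrix.toLin'_pow, ← SubmonoidClass.coe_pow, hH]
        exact Matrix.toLin'_one
      let ω := (GLOrder.sympB m F).compl₁₂ (movSub h).subtype (movSub h).subtype
      have hωnd : ∀ x, (∀ y, ω x y = 0) → x = 0 := by
        intro x hx
        apply Subtype.ext
        refine GLOrder.sympB_nondeg _ fun y => ?_
        obtain ⟨u, hu, v, hv, rfl⟩ := Submodule.mem_sup.1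
          ((isCompl_fix_mov hrF hhpow).sup_eq_top ▸ Submodule.mem_top : y ∈ fixSub h ⊔ movSub h)
        obtain ⟨w, hw⟩ := x.2
        rw [map_add, show GLOrder.sympB m F (x : Fin m ⊕ Fin m → F) v = 0 from hx ⟨v, hv⟩, add_zero, ← hw,
          LinearMap.sub_apply, Module.End.one_apply, map_sub, LinearMap.sub_apply]
        nth_rewrite 1 [← mem_fixSub.1 hu]
        rw [hhinv, sub_self]
      have hωinv : ∀ x y, ω (movEnd h x) (movEnd h y) = ω x y := fun x y => hhinv _ _
      have hωalt : ω.IsAlt := fun x => GLOrder.sympB_self _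
      obtain ⟨l, hl, -⟩ := sp_of_alt (r := r) ω hωalt hωnd (movEnd h) hωinv (movEnd_pow hhpow)
      have hd := Submodule.finrank_add_eq_of_isCompl (isCompl_fix_mov hrF hhpow)
      rw [hl, Module.finrank_fintype_fun_eq_card, Fintype.card_sum, Fintype.card_fin] at hd
      obtain ⟨R, hR, hRinv⟩ := exists_quad ω hωalt hωnd hodd hωinv (movEnd_pow hhpow)
        (movEnd_fixedFree hrF hhpow)
      obtain ⟨j, hj⟩ : ∃ j : movSub h →ₗ[F] (ι → F), ∀ v, Q (j v) = R v := by
        rcases Nat.eq_zero_or_pos l with rfl | hl0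
        · haveI : Subsingleton (movSub h) := Module.finrank_zero_iff.1 (by rw [hl])
          exact ⟨0, fun v => by rw [LinearMap.zero_apply, Subsingleton.elim v 0, QuadraticMap.map_zero,
            QuadraticMap.map_zero]⟩
        have hlOK : l < m ∨ OK := by
          rcases hcond with h1 | h1
          swap
          · exact Or.inr h1
          refine Or.inl ?_
          by_contra hlm
          have h2 := rootMultiplicity_charpoly hrF hhpow
          rw [hh, Matrix.charpoly_toLin', show Module.finrank F (fixSub h) = 0 by omega] at h2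
          rcases rootMultiplicity_eq_zero_iff.1 h2 h1 with h3
          exact (Matrix.charpoly_monic _).ne_zero h3
        obtain ⟨hplus, hminus⟩ := hEmb l hl0 (by omega) hlOK
        obtain ⟨ht1, ht2⟩ := type_of_fixedFree hr2 hrF R hR hl0 hl hRinv (movEnd_pow hhpow)
          (movEnd_fixedFree hrF hhpow) hab
        rcases classify_even R hR hl hab with ⟨e, he⟩ | ⟨-, e, he⟩
        · obtain ⟨j, hj⟩ := hplus (ht1 ⟨e, he⟩)
          exact ⟨j.comp e.symm.toLinearMap, fun v => by
            rw [LinearMap.comp_apply, hj, LinearEquiv.coe_coe, ← he, LinearEquiv.apply_symm_apply]⟩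
        · obtain ⟨j, hj⟩ := hminus (ht2 ⟨e, he⟩)
          exact ⟨j.comp e.symm.toLinearMap, fun v => by
            rw [LinearMap.comp_apply, hj, LinearEquiv.coe_coe, ← he, LinearEquiv.apply_symm_apply]⟩
      obtain ⟨g, hgQ, hgr, hgc⟩ := exists_extend Q hQ hrF R hR j hj (movEnd h) hRinv (movEnd_pow hhpow)
      have hginj : Function.Injective g := fun x y hxy => by
        obtain ⟨k, hk⟩ : ∃ k, r = k + 1 := ⟨r - 1, by have := hr.out.pos; omega⟩
        have h1 := congrArg (fun z => (g ^ k) z) hxy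
        rw [← Module.End.mul_apply, ← Module.End.mul_apply, ← pow_succ, ← hk, hgr] at h1
        exact h1
      let G : ↥(Cfsg.isometryGroup F ⇑Q) :=
        (isometryGroupEquiv ⇑Q).symm ⟨LinearEquiv.ofInjectiveEndo g hginj, hgQ⟩
      have hG : lin G = g := LinearMap.ext fun v => by
        show (((G : GL ι F) : Matrix ι ι F)).mulVec v = g v
        rw [← isometryGroupEquiv_apply ⇑Q G v, MulEquiv.apply_symm_apply]
        rfl
      have hGr : G ^ r = 1 := by
        apply Subtype.ext
        apply Units.ext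
        apply Matrix.toLin'.injective
        rw [SubmonoidClass.coe_pow, Units.val_pow_eq_pow_val, Matrix.toLin'_pow]
        show lin G ^ r = _
        rw [hG, hgr]
        exact Matrix.toLin'_one.symm
      refine ⟨⟨ConjClasses.mk G, G, rfl, hGr⟩, ?_⟩
      apply Subtype.ext
      apply Subtype.ext
      refine mul_left_cancel₀ (pow_ne_zero (Fintype.card ι - 2 * m) (X_sub_C_ne_zero (1 : F))) ?_
      show (X - C 1) ^ _ * ((f _ _).1 : F[X]) = _
      rw [← hf, hchar (ConjClasses.mk_eq_mk_iff_isConj.1 (Exists.choose_spec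
        (⟨G, rfl, hGr⟩ : ∃ g, ConjClasses.mk g = ConjClasses.mk G ∧ g ^ r = 1)).1), hG, hgc, hl]
      show _ = (X - C 1) ^ _ * (H : Matrix (Fin m ⊕ Fin m) (Fin m ⊕ Fin m) F).charpoly
      rw [← Matrix.charpoly_toLin', ← hh, (charpoly_split hrF hhpow).1, ← mul_assoc, ← pow_add]
      congr 2
      omega
  rw [Nat.card_eq_of_bijective Φ hΦ]
  obtain ⟨e, he⟩ := exists_polys_equiv (F := F) p m r hr.out hrp
  by_cases hOK : OK
  · rw [if_pos hOK, Nat.card_congr (Equiv.subtypeUnivEquiv fun χ : SpSet F r m => Or.inr hOK)]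
    exact (Nat.card_congr e).symm
  · rw [if_neg hOK]
    obtain ⟨k, rfl⟩ : ∃ k, m = k + 1 := ⟨m - 1, by have := hm hOK; omega⟩
    rw [Nat.add_sub_cancel]
    let ψ : polys F r k → {P : polys F r (k + 1) // (P : F[X]).eval 2 = 0} := fun P =>
      ⟨⟨(X - C 2) * P.1, (monic_X_sub_C 2).mul P.2.1, by
        rw [(monic_X_sub_C 2).natDegree_mul P.2.1, natDegree_X_sub_C, P.2.2.1, add_comm], fun x hx => by
        rw [map_mul, mul_eq_zero] at hx
        rcases hx with hx | hx
        · refine ⟨1, one_pow r, ?_⟩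
          rw [map_sub, aeval_X, aeval_C, sub_eq_zero, map_ofNat] at hx
          rw [hx, inv_one, one_add_one_eq_two]
        · exact P.2.2.2 x hx⟩, by simp⟩
    have hψ : Function.Bijective ψ := by
      refine ⟨fun P P' h => Subtype.ext (mul_left_cancel₀ (X_sub_C_ne_zero 2)
        (congrArg (fun x : {P : polys F r (k + 1) // (P : F[X]).eval 2 = 0} => (x.1 : F[X])) h)), ?_⟩
      rintro ⟨⟨P, hPm, hPd, hPr⟩, h0⟩
      obtain ⟨P', rfl⟩ := dvd_iff_isRoot.2 (show IsRoot P 2 from h0)
      have hP' : P'.Monic := (monic_X_sub_C 2).of_mul_monic_left hPm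
      refine ⟨⟨P', hP', ?_, fun x hx => hPr x (by rw [map_mul, hx, mul_zero])⟩, rfl⟩
      rw [(monic_X_sub_C 2).natDegree_mul hP', natDegree_X_sub_C] at hPd
      omega
    rw [Nat.card_eq_of_bijective ψ hψ]
    refine (Nat.card_congr ((e.subtypeEquiv fun P => ?_))).symm
    rw [he, or_iff_left hOK]

/-- Elements of order `r`: all but one of the classes of `r`-torsion elements. -/
theorem card_orderOf_classes {G : Type*} [Group G] [Finite G] {r : ℕ} (hr : r.Prime) :
    Nat.card {C : ConjClasses G // ∃ g : G, ConjClasses.mk g = C ∧ orderOf g = r} =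
      Nat.card {C : ConjClasses G // ∃ g : G, ConjClasses.mk g = C ∧ g ^ r = 1} - 1 := by
  haveI := Fact.mk hr
  have hset : {C : ConjClasses G | ∃ g : G, ConjClasses.mk g = C ∧ orderOf g = r} =
      {C : ConjClasses G | ∃ g : G, ConjClasses.mk g = C ∧ g ^ r = 1} \ {ConjClasses.mk 1} := by
    ext C
    simp only [Set.mem_ofPred_eq, Set.mem_sdiff, Set.mem_singleton_iff]
    constructor
    · rintro ⟨g, rfl, hg⟩
      refine ⟨⟨g, rfl, by rw [← hg, pow_orderOf_eq_one]⟩, fun h => ?_⟩
      rw [ConjClasses.mk_eq_mk_iff_isConj, isConj_one_left] at h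
      rw [h, orderOf_one] at hg
      exact hr.one_lt.ne hg
    · rintro ⟨⟨g, rfl, hg⟩, hne⟩
      exact ⟨g, rfl, orderOf_eq_prime hg fun h => hne (by rw [h])⟩
  show Nat.card ↥{C : ConjClasses G | ∃ g : G, ConjClasses.mk g = C ∧ orderOf g = r} = _
  rw [Nat.card_coe_set_eq, hset, Set.ncard_sdiff_singleton_of_mem (show ConjClasses.mk 1 ∈
    {C : ConjClasses G | ∃ g : G, ConjClasses.mk g = C ∧ g ^ r = 1} from ⟨1, rfl, one_pow r⟩), ← Nat.card_coe_set_eq]
  rfl

end Cfsg.Agent.OrthPrime
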