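import Cfsg.Agent.EqLemmas
import Cfsg.Agent.Lib.OrthPrime.Count

/-!
# The arithmetic of the class count formulas
-/

set_option autoImplicit false

namespace Cfsg.Agent.OrthPrime

open Cfsg.Agent.S2645

theorem choose_pred {k d u : ℕ} (hk : 0 < k) (hu : 0 < u) :
    ((k - 1) / d + u).choose u = (k / d + u).choose u - if d ∣ k then (k / d + u - 1).choose (u - 1) else 0 := by
  obtain ⟨n, rfl⟩ : ∃ n, k = n + 1 := ⟨k - 1, by omega⟩
  obtain ⟨v, rfl⟩ : ∃ v, u = v + 1 := ⟨u - 1, by omega⟩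
  rw [Nat.add_sub_cancel, Nat.add_sub_cancel, Nat.succ_div]
  split_ifs with h
  · rw [show n / d + 1 + (v + 1) = n / d + (v + 1) + 1 by omega, Nat.choose_succ_succ', Nat.add_sub_cancel,
      Nat.add_sub_cancel_left]
  · rw [add_zero, tsub_zero]

theorem neg_one_ne_one_zmod {r : ℕ} [hr : Fact r.Prime] (hr2 : r ≠ 2) : (-1 : ZMod r) ≠ 1 := by
  haveI : Fact (2 < r) := ⟨by have := hr.out.two_le; omega⟩
  exact ZMod.neg_one_ne_one

/-- The numbers of polynomials, and the powers of `q` modulo `r`. -/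
theorem params {F : Type*} [Field F] [Fintype F] (p : ℕ) [Fact p.Prime] [CharP F p] {r i t : ℕ}
    [hr : Fact r.Prime] (hr2 : r ≠ 2) (hrp : r ≠ p) (hi : i = orderOf (Fintype.card F : ZMod r))
    (ht : t * i = r - 1) :
    (Odd i → 0 < t / 2 ∧ (∀ k, Nat.card (polys F r k) = (k / i + t / 2).choose (t / 2)) ∧
      (∀ k, i ∣ k → (Fintype.card F : ZMod r) ^ k = 1) ∧ ∀ k, (Fintype.card F : ZMod r) ^ k ≠ -1) ∧
    (¬ Odd i → 0 < t ∧ ∃ j, i = 2 * j ∧ 0 < j ∧ (∀ k, Nat.card (polys F r k) = (k / j + t).choose t) ∧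
      ∀ k, j ∣ k → (Fintype.card F : ZMod r) ^ k = (-1) ^ (k / j)) := by
  have hr1 := hr.out.two_le
  have ht0 : 0 < t := Nat.pos_of_ne_zero fun h => by rw [h, zero_mul] at ht; omega
  have hi0 : 0 < i := Nat.pos_of_ne_zero fun h => by rw [h, mul_zero] at ht; omega
  set Z : ZMod r := (Fintype.card F : ZMod r)
  have hk : ∀ k : ℕ, Z ^ k = 1 ↔ i ∣ k := fun k => by rw [hi, orderOf_dvd_iff_pow_eq_one]
  obtain ⟨w, hw⟩ := hr.out.odd_of_ne_two hr2
  constructor
  · intro hodd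
    have hte : Even t := by
      have : Even (t * i) := ⟨w, by omega⟩
      exact (Nat.even_mul.1 this).resolve_right (Nat.not_even_iff_odd.2 hodd)
    refine ⟨by obtain ⟨c, rfl⟩ := hte; omega, fun k => card_polys p k hr2 hrp hi0 (fun k => ?_) ?_,
      fun k h => (hk k).2 h, fun k h => ?_⟩
    · rw [hk]
      exact (Nat.coprime_two_right.2 hodd).dvd_mul_left
    · rw [← ht, mul_left_comm, Nat.mul_div_cancel' (even_iff_two_dvd.1 hte), mul_comm]
    · apply neg_one_ne_one_zmod hr2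
      rw [← hodd.neg_one_pow (α := ZMod r), ← h, ← pow_mul, mul_comm, pow_mul, (hk i).2 dvd_rfl, one_pow]
  · intro heven
    obtain ⟨j, rfl⟩ := (Nat.not_odd_iff_even.1 heven).two_dvd
    have hZj : Z ^ j = -1 := by
      have h1 : (Z ^ j) ^ 2 = 1 := by rw [← pow_mul, mul_comm, hk]
      refine (sq_eq_one_iff.1 h1).resolve_left fun h => ?_
      have := Nat.le_of_dvd (by omega) ((hk j).1 h)
      omega
    refine ⟨ht0, j, rfl, by omega, fun k => card_polys p k hr2 hrp (by omega) (fun k => ?_) ?_, ?_⟩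
    · rw [hk]
      exact Nat.mul_dvd_mul_iff_left two_pos
    · rw [← ht]; ring
    · rintro k ⟨c, rfl⟩
      rw [pow_mul, hZj, Nat.mul_div_cancel_left _ (by omega)]

end Cfsg.Agent.OrthPrime
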