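import Cfsg.Agent.EqLemmas
import Cfsg.Agent.Lib.OrthPrime.Type
import Cfsg.Agent.Lib.Forms.Symplectic
import Mathlib.FieldTheory.Finite.Extension

/-!
# Blocks of fixed-point-free isometries of prime order

* `Fpf r Q g` : `g` is a fixed-point-free isometry of order dividing `r` of a non-degenerate space
* `dvd_finrank` : invariant subspaces have dimension divisible by the order `i` of `q` modulo `r`
* `exists_block`, `exists_blocks` : invariant non-degenerate subspaces of every dimension `c * B`
-/

set_option autoImplicit false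

namespace Cfsg.Agent.OrthPrime

open Polynomial Module

variable {F : Type*} [Field F] {V : Type*} [AddCommGroup V] [Module F V]

/-- A fixed-point-free isometry of order dividing `r` of a non-degenerate space. -/
structure Fpf (r : ℕ) (Q : QuadraticForm F V) (g : Module.End F V) : Prop where
  iso : ∀ x, Q (g x) = Q x
  pow : g ^ r = 1
  free : ∀ x, g x = x → x = 0
  nd : Q.polarBilin.Nondegenerate

/-- `g` maps `U` into itself. -/
def Invt (g : Module.End F V) (U : Submodule F V) : Prop := ∀ x ∈ U, g x ∈ U

theorem Invt.pow {g : Module.End F V} {U : Submodule F V} (h : Invt g U) (k : ℕ) : Invt (g ^ k) U := by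
  intro x hx
  induction k with
  | zero => exact hx
  | succ k ih => rw [pow_succ', Module.End.mul_apply]; exact h _ ih

theorem Invt.sup {g : Module.End F V} {U W : Submodule F V} (h : Invt g U) (h' : Invt g W) : Invt g (U ⊔ W) := by
  intro x hx
  obtain ⟨u, hu, w, hw, rfl⟩ := Submodule.mem_sup.1 hx
  rw [map_add]
  exact Submodule.add_mem_sup (h u hu) (h' w hw)

theorem Invt.aeval_mem {g : Module.End F V} {U : Submodule F V} (h : Invt g U) (P : F[X]) :
    Invt (aeval g P) U := by
  intro x hx
  rw [aeval_eq_sum_range, LinearMap.sum_apply]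
  exact U.sum_mem fun k _ => U.smul_mem _ (h.pow k x hx)

/-- The polar form of `Q` is non-degenerate on `U`. -/
def NDeg (Q : QuadraticForm F V) (U : Submodule F V) : Prop :=
  ∀ x ∈ U, (∀ y ∈ U, QuadraticMap.polar Q x y = 0) → x = 0

theorem NDeg.comp {Q : QuadraticForm F V} {U : Submodule F V} (h : NDeg Q U) :
    (Q.comp U.subtype).polarBilin.Nondegenerate :=
  (Forms.nondegenerate_polarBilin_iff _).2 fun x hx => Subtype.ext (h x.1 x.2 fun y hy => by
    have := hx ⟨y, hy⟩
    simpa [QuadraticMap.polar] using this)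

theorem ndeg_of_comp {Q : QuadraticForm F V} {U : Submodule F V} (h : (Q.comp U.subtype).polarBilin.Nondegenerate) :
    NDeg Q U := fun x hx hy => congrArg Subtype.val ((Forms.nondegenerate_polarBilin_iff _).1 h ⟨x, hx⟩
    fun y => by simpa [QuadraticMap.polar] using hy y.1 y.2)

theorem NDeg.sup {Q : QuadraticForm F V} {U W : Submodule F V} (hU : NDeg Q U) (hW : NDeg Q W)
    (ho : ∀ u ∈ U, ∀ w ∈ W, QuadraticMap.polar Q u w = 0) : NDeg Q (U ⊔ W) := by
  intro x hx hxy
  obtain ⟨u, hu, w, hw, rfl⟩ := Submodule.mem_sup.1 hx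
  have h1 : u = 0 := hU u hu fun y hy => by
    have := hxy y (Submodule.mem_sup_left hy)
    rwa [QuadraticMap.polar_add_left, QuadraticMap.polar_comm (⇑Q) w y, ho y hy w hw, add_zero] at this
  have h2 : w = 0 := hW w hw fun y hy => by
    have := hxy y (Submodule.mem_sup_right hy)
    rwa [QuadraticMap.polar_add_left, ho u hu y hy, zero_add] at this
  rw [h1, h2, add_zero]

theorem disjoint_of_orth {Q : QuadraticForm F V} {U W : Submodule F V} (hU : NDeg Q U)
    (ho : ∀ u ∈ U, ∀ w ∈ W, QuadraticMap.polar Q u w = 0) : Disjoint U W := by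
  rw [Submodule.disjoint_def]
  intro x hxU hxW
  exact hU x hxU fun y hy => by rw [QuadraticMap.polar_comm]; exact ho y hy x hxW

/-- The orthogonal complement. -/
def perp (Q : QuadraticForm F V) (U : Submodule F V) : Submodule F V :=
  LinearMap.BilinForm.orthogonal Q.polarBilin U

theorem mem_perp {Q : QuadraticForm F V} {U : Submodule F V} {x : V} :
    x ∈ perp Q U ↔ ∀ u ∈ U, QuadraticMap.polar Q u x = 0 := Iff.rfl

theorem isCompl_perp [FiniteDimensional F V] {Q : QuadraticForm F V} {U : Submodule F V} (hU : NDeg Q U) :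
    IsCompl U (perp Q U) := by
  rw [perp, LinearMap.BilinForm.isCompl_orthogonal_iff_disjoint]
  · exact disjoint_of_orth hU fun u hu w hw => hw u hu
  · intro u v huv
    show QuadraticMap.polar Q v u = 0
    rw [QuadraticMap.polar_comm]; exact huv

theorem ndeg_perp [FiniteDimensional F V] {Q : QuadraticForm F V} (hQ : Q.polarBilin.Nondegenerate)
    {U : Submodule F V} (hU : NDeg Q U) : NDeg Q (perp Q U) := by
  intro x hx hxy
  refine (Forms.nondegenerate_polarBilin_iff Q).1 hQ x fun y => ?_
  obtain ⟨u, hu, w, hw, rfl⟩ := Submodule.mem_sup.1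
    ((isCompl_perp hU).sup_eq_top ▸ Submodule.mem_top : y ∈ U ⊔ perp Q U)
  rw [QuadraticMap.polar_add_right, hxy w hw, add_zero, QuadraticMap.polar_comm]
  exact hx u hu

variable {r : ℕ} {Q : QuadraticForm F V} {g : Module.End F V}

theorem Fpf.g_pow_pred' (h : Fpf r Q g) (hr : 0 < r) (x : V) : g ((g ^ (r - 1)) x) = x := by
  rw [← Module.End.mul_apply, ← pow_succ', Nat.sub_add_cancel hr, h.pow]; rfl

theorem Fpf.polar_apply (h : Fpf r Q g) (hr : 0 < r) (x y : V) :
    QuadraticMap.polar Q (g x) y = QuadraticMap.polar Q x ((g ^ (r - 1)) y) := by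
  rw [← polar_inv Q h.iso x ((g ^ (r - 1)) y), h.g_pow_pred' hr]

theorem Fpf.polar_pow (h : Fpf r Q g) (hr : 0 < r) (k : ℕ) (x y : V) :
    QuadraticMap.polar Q ((g ^ k) x) y = QuadraticMap.polar Q x (((g ^ (r - 1)) ^ k) y) := by
  induction k generalizing x y with
  | zero => rfl
  | succ k ih => rw [pow_succ', Module.End.mul_apply, h.polar_apply hr, ih, pow_succ, Module.End.mul_apply]

theorem Fpf.polar_aeval (h : Fpf r Q g) (hr : 0 < r) (P : F[X]) (x y : V) :
    QuadraticMap.polar Q (aeval g P x) y = QuadraticMap.polar Q x (aeval (g ^ (r - 1)) P y) := by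
  induction P using Polynomial.induction_on' with
  | add P P' hP hP' => simp only [map_add, LinearMap.add_apply, QuadraticMap.polar_add_left,
      QuadraticMap.polar_add_right, hP, hP']
  | monomial k a =>
    simp only [aeval_monomial, Module.End.mul_apply, Module.algebraMap_end_apply,
      QuadraticMap.polar_smul_left, QuadraticMap.polar_smul_right, h.polar_pow hr]

theorem Fpf.perp_invt (h : Fpf r Q g) (hr : 0 < r) {U : Submodule F V} (hU : Invt g U) :
    Invt g (perp Q U) := fun x hx u hu => by
  show QuadraticMap.polar Q u (g x) = 0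
  rw [QuadraticMap.polar_comm, h.polar_apply hr, QuadraticMap.polar_comm]
  exact hx _ (hU.pow _ u hu)

theorem Fpf.restrict (h : Fpf r Q g) {U : Submodule F V} (hU : Invt g U) (hn : NDeg Q U) :
    Fpf r (Q.comp U.subtype) (g.restrict hU) where
  iso x := h.iso _
  pow := by
    have hk : ∀ k, ∀ x : U, (((g.restrict hU) ^ k) x : V) = (g ^ k) x := by
      intro k
      induction k with
      | zero => intro x; rfl
      | succ k ih => intro x; rw [pow_succ, pow_succ, Module.End.mul_apply, Module.End.mul_apply, ih]; rfl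
    exact LinearMap.ext fun x => Subtype.ext (by rw [hk, h.pow]; rfl)
  free x hx := Subtype.ext (h.free _ (congrArg Subtype.val hx))
  nd := hn.comp

section Order

variable [Fintype F] [FiniteDimensional F V] {i : ℕ} [hr : Fact r.Prime]
  (hi : ∀ k : ℕ, (Fintype.card F : ZMod r) ^ k = 1 ↔ i ∣ k) (hi0 : 0 < i)
include hi

/-- Invariant subspaces have dimension divisible by `i`. -/
theorem Fpf.dvd_finrank (h : Fpf r Q g) {U : Submodule F V} (hU : Invt g U) : i ∣ finrank F U := by
  classical
  haveI : Finite U := Module.finite_of_finite F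
  let α := {x : U // x ≠ 0}
  let f : α → α := fun x => ⟨⟨g x.1.1, hU _ x.1.2⟩, fun h0 => x.2 (Subtype.ext (by
    have h1 := congrArg Subtype.val h0
    have h2 := LinearMap.congr_fun h.pow x.1.1
    rw [← Nat.sub_add_cancel hr.out.pos, pow_succ, Module.End.mul_apply,
      show g x.1.1 = 0 from h1, map_zero] at h2
    exact h2.symm))⟩
  have hit : ∀ (k : ℕ) (x : α), ((f^[k] x).1 : V) = (g ^ k) x.1.1 := by
    intro k
    induction k with
    | zero => intro x; rfl
    | succ k ih =>
      intro x
      rw [Function.iterate_succ_apply', pow_succ', Module.End.mul_apply, ← ih]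
  have hdvd := dvd_card_of_free (r := r) f
    (fun x => Subtype.ext (Subtype.ext (by rw [hit, h.pow]; rfl)))
    (fun x hx => x.2 (Subtype.ext (h.free _ (congrArg (fun z : α => (z.1 : V)) hx))))
  have hcard : Nat.card α + 1 = Fintype.card F ^ finrank F U := by
    haveI : Fintype U := Fintype.ofFinite U
    rw [← Nat.card_eq_fintype_card (α := F), ← Module.natCard_eq_pow_finrank (K := F) (V := U),
      Nat.card_eq_fintype_card, Nat.card_eq_fintype_card, Fintype.card_subtype_compl]
    rw [Fintype.card_subtype_eq, Nat.sub_add_cancel Fintype.card_pos]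
  rw [← hi, ← Nat.cast_pow, ← hcard, Nat.cast_add, (ZMod.natCast_eq_zero_iff _ r).2 hdvd, zero_add, Nat.cast_one]

omit [FiniteDimensional F V] in
/-- Polynomials in `g` satisfy `y ^ q ^ k = (y at g ^ q ^ k)`. -/
theorem aeval_pow_card (g : Module.End F V) (P : F[X]) (k : ℕ) :
    aeval g P ^ (Fintype.card F ^ k) = aeval (g ^ (Fintype.card F ^ k)) P := by
  induction k with
  | zero => simp
  | succ k ih =>
    rw [pow_succ, pow_mul, ih, ← map_pow, ← FiniteField.expand_card, expand_aeval, ← pow_mul]

theorem pow_congr_mod {M : Type*} [Monoid M] {x : M} (hx : x ^ r = 1) {a b : ℕ}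
    (hab : (a : ZMod r) = b) : x ^ a = x ^ b := by
  rw [ZMod.natCast_eq_natCast_iff'] at hab
  rw [pow_eq_pow_mod a hx, hab, ← pow_eq_pow_mod b hx]

include hi0 in
/-- A factor of `X ^ r - 1` with a non-trivial kernel. -/
theorem exists_factor (h : Fpf r Q g) (hpos : 0 < finrank F V) :
    ∃ P : F[X], P.Monic ∧ P.natDegree ≤ i ∧ ∃ v : V, v ≠ 0 ∧ aeval g P v = 0 := by
  classical
  haveI : Nontrivial V := Module.finrank_pos_iff.1 hpos
  have hint : IsIntegral F g := LinearMap.isIntegral g
  obtain ⟨P, hPm, hPi, hPd⟩ := Polynomial.exists_monic_irreducible_factor (minpoly F g)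
    (minpoly.not_isUnit F g)
  have hXr : minpoly F g ∣ X ^ r - 1 := minpoly.dvd F g (by simp [h.pow])
  have hq : r ∣ Fintype.card F ^ i - 1 := by
    rw [← ZMod.natCast_eq_zero_iff, Nat.cast_sub (Nat.one_le_pow _ _ Fintype.card_pos), Nat.cast_pow,
      (hi i).2 dvd_rfl, Nat.cast_one, sub_self]
  have hdeg : P.natDegree ∣ i := by
    refine hPi.natDegree_dvd_of_dvd_X_pow_card_pow_sub_X ?_
    refine (hPd.trans hXr).trans ?_
    obtain ⟨c, hc⟩ := hq
    rw [Nat.card_eq_fintype_card, show Fintype.card F ^ i = r * c + 1 by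
      have := Nat.one_le_pow i _ (Fintype.card_pos (α := F))
      omega, pow_succ, pow_mul]
    calc (X ^ r - 1 : F[X]) ∣ (X ^ r) ^ c - 1 := sub_one_dvd_pow_sub_one _ c
      _ ∣ (X ^ r) ^ c * X - X := ⟨X, by ring⟩
  refine ⟨P, hPm, Nat.le_of_dvd hi0 hdeg, ?_⟩
  · by_contra hno
    push Not at hno
    obtain ⟨P', hP'⟩ := hPd
    have h0 : aeval g P' = 0 := LinearMap.ext fun v => by
      by_contra hne
      refine hno _ hne ?_
      rw [← Module.End.mul_apply, ← map_mul, ← hP', minpoly.aeval, LinearMap.zero_apply]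
    have hP'0 : P' ≠ 0 := fun h0' => minpoly.ne_zero hint (by rw [hP', h0', mul_zero])
    have h1 := natDegree_le_of_dvd (minpoly.dvd F g h0) hP'0
    rw [hP', hPm.natDegree_mul' hP'0] at h1
    have := hPi.natDegree_pos
    omega

end Order

/-- The cyclic subspace. -/
noncomputable def cyc (g : Module.End F V) (v : V) : Submodule F V :=
  LinearMap.range ((LinearMap.applyₗ v).comp (aeval g).toLinearMap)

theorem mem_cyc {g : Module.End F V} {v x : V} : x ∈ cyc g v ↔ ∃ P : F[X], aeval g P v = x := Iff.rfl

theorem self_mem_cyc (g : Module.End F V) (v : V) : v ∈ cyc g v := ⟨1, by simp⟩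

theorem cyc_invt (g : Module.End F V) (v : V) : Invt g (cyc g v) := by
  rintro _ ⟨P, rfl⟩
  exact ⟨X * P, by simp [Module.End.mul_apply]⟩

theorem finrank_cyc_le {g : Module.End F V} {P : F[X]} (hPm : P.Monic) {v : V} (hv : aeval g P v = 0) :
    finrank F (cyc g v) ≤ P.natDegree := by
  let L : (Fin P.natDegree → F) →ₗ[F] V := Fintype.linearCombination F fun k : Fin P.natDegree => (g ^ (k : ℕ)) v
  have hle : cyc g v ≤ LinearMap.range L := by
    rintro _ ⟨A, rfl⟩
    refine ⟨fun k => (A %ₘ P).coeff k, ?_⟩
    show L _ = aeval g A v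
    conv_rhs => rw [← modByMonic_add_div A P, map_add, LinearMap.add_apply, mul_comm P, map_mul,
      Module.End.mul_apply, hv, map_zero, add_zero]
    rw [Fintype.linearCombination_apply]
    by_cases hP1 : P = 1
    · subst hP1
      rw [modByMonic_one, map_zero, LinearMap.zero_apply]
      exact Finset.sum_eq_zero fun k _ => by simp
    rw [aeval_eq_sum_range' (natDegree_modByMonic_lt A hPm hP1) g, LinearMap.sum_apply,
      ← Fin.sum_univ_eq_sum_range]
    exact Finset.sum_congr rfl fun k _ => rfl
  exact (Submodule.finrank_mono hle).trans ((LinearMap.finrank_range_le L).trans (by simp))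

section Order

variable [Fintype F] [FiniteDimensional F V] {i : ℕ} [hr : Fact r.Prime]
  (hi : ∀ k : ℕ, (Fintype.card F : ZMod r) ^ k = 1 ↔ i ∣ k) (hi0 : 0 < i) (hr2 : r ≠ 2)
include hi hi0 hr2

/-- An invariant non-degenerate block of dimension `c`. -/
theorem exists_block (h : Fpf r Q g) (hpos : 0 < finrank F V) :
    ∃ U : Submodule F V, Invt g U ∧ NDeg Q U ∧ finrank F U = if Even i then i else 2 * i := by
  classical
  obtain ⟨P, hPm, hPd, v, hv, hPv⟩ := exists_factor hi hi0 h hpos
  have hr0 := hr.out.pos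
  have hnd := (Forms.nondegenerate_polarBilin_iff Q).1 h.nd
  set f := aeval g P with hf
  have hq1 : ((Fintype.card F ^ i : ℕ) : ZMod r) = ((1 : ℕ) : ZMod r) := by
    rw [Nat.cast_pow, (hi i).2 dvd_rfl, Nat.cast_one]
  have hfrob : f ^ (Fintype.card F ^ i) = f := by
    rw [hf, aeval_pow_card hi, pow_congr_mod hi h.pow hq1, pow_one]
  have hone : ∀ w : V, w ≠ 0 → ∀ h' : Module.End F V, aeval h' P w = 0 → Invt g (cyc h' w) →
      finrank F (cyc h' w) = i := by
    intro w hw h' hw' hinv
    refine le_antisymm ((finrank_cyc_le hPm hw').trans hPd) (Nat.le_of_dvd ?_ (h.dvd_finrank hi hinv))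
    exact Module.finrank_pos_iff_exists_ne_zero.2
      ⟨⟨w, self_mem_cyc h' w⟩, fun h => hw (congrArg Subtype.val h)⟩
  -- either `C` is non-degenerate, or it is totally isotropic
  have hdich : ∀ {C : Submodule F V}, Invt g C → finrank F C = i →
      NDeg Q C ∨ ∀ x ∈ C, ∀ y ∈ C, QuadraticMap.polar Q x y = 0 := by
    intro C hC hCd
    by_cases hCn : NDeg Q C
    · exact Or.inl hCn
    refine Or.inr ?_
    simp only [NDeg, not_forall] at hCn
    obtain ⟨x, hx, hxy, hx0⟩ := hCn
    have hR : Invt g (C ⊓ perp Q C) := fun y hy => ⟨hC _ hy.1, h.perp_invt hr0 hC _ hy.2⟩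
    have hpos' : 0 < finrank F ↥(C ⊓ perp Q C) := Module.finrank_pos_iff_exists_ne_zero.2
      ⟨⟨x, hx, fun u hu => by
        show QuadraticMap.polar Q u x = 0
        rw [QuadraticMap.polar_comm]; exact hxy u hu⟩, fun h' => hx0 (congrArg Subtype.val h')⟩
    have heq : C ⊓ perp Q C = C := Submodule.eq_of_le_of_finrank_le inf_le_left
      (by rw [hCd]; exact Nat.le_of_dvd hpos' (h.dvd_finrank hi hR))
    intro a ha b hb
    rw [← heq] at hb
    exact hb.2 a ha
  by_cases hev : Even i
  · rw [if_pos hev]
    obtain ⟨j, rfl⟩ := hev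
    have hZj : ((Fintype.card F ^ j : ℕ) : ZMod r) = ((r - 1 : ℕ) : ZMod r) := by
      rw [Nat.cast_pow, Nat.cast_sub hr.out.one_le, ZMod.natCast_self, Nat.cast_one, zero_sub]
      have h1 : ((Fintype.card F : ZMod r) ^ j) ^ 2 = 1 := by rw [← pow_mul, hi]; exact ⟨1, by omega⟩
      refine (sq_eq_one_iff.1 h1).resolve_left fun h2 => ?_
      have := Nat.le_of_dvd (by omega) ((hi j).1 h2)
      omega
    have hinvf : f ^ (Fintype.card F ^ j) = aeval (g ^ (r - 1)) P := by
      rw [hf, aeval_pow_card hi, pow_congr_mod hi h.pow hZj]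
    have hqj : 0 < Fintype.card F ^ j := Nat.pow_pos Fintype.card_pos
    have hkill : ∀ x, f x = 0 → aeval (g ^ (r - 1)) P x = 0 := fun x hx => by
      rw [← hinvf, ← Nat.sub_add_cancel hqj, pow_succ, Module.End.mul_apply, hx, map_zero]
    have hdisj : Disjoint (LinearMap.ker f) (LinearMap.range f) := by
      rw [Submodule.disjoint_def]
      rintro _ hx ⟨z, rfl⟩
      rw [LinearMap.mem_ker] at hx
      have h1 := LinearMap.congr_fun hfrob z
      rw [← Nat.sub_add_cancel (show 2 ≤ Fintype.card F ^ (j + j) from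
        le_trans Fintype.one_lt_card (Nat.le_self_pow (by omega) _)), pow_add, sq, Module.End.mul_apply,
        Module.End.mul_apply, hx, map_zero] at h1
      exact h1.symm
    have htop : LinearMap.ker f ⊔ LinearMap.range f = ⊤ := by
      refine Submodule.eq_top_of_disjoint _ _ ?_ hdisj
      rw [add_comm, LinearMap.finrank_range_add_finrank_ker]
    have hK : NDeg Q (LinearMap.ker f) := fun x hx hxy => hnd x fun y => by
      obtain ⟨a, ha, _, ⟨z, rfl⟩, rfl⟩ := Submodule.mem_sup.1 (htop ▸ Submodule.mem_top :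
        y ∈ LinearMap.ker f ⊔ LinearMap.range f)
      rw [QuadraticMap.polar_add_right, hxy a ha, zero_add, QuadraticMap.polar_comm, hf,
        h.polar_aeval hr0, hkill x hx, QuadraticMap.polar_zero_right]
    by_contra hno
    push Not at hno
    have hiso : ∀ w, f w = 0 → QuadraticMap.polar Q w (g w) = 0 := by
      intro w hw
      by_cases hw0 : w = 0
      · rw [hw0, QuadraticMap.polar_zero_left]
      have hd := hone w hw0 g hw (cyc_invt g w)
      rcases hdich (cyc_invt g w) hd with h1 | h1
      · exact absurd hd (hno _ (cyc_invt g w) h1)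
      · exact h1 w (self_mem_cyc g w) (g w) (cyc_invt g w w (self_mem_cyc g w))
    have hKg : Invt g (LinearMap.ker f) := fun x hx => by
      rw [LinearMap.mem_ker] at hx ⊢
      have hc : f * g = g * f := by
        rw [hf]
        simpa [map_mul] using congrArg (aeval g) (mul_comm P (X : F[X]))
      rw [← Module.End.mul_apply, hc, Module.End.mul_apply, hx, map_zero]
    have hanti : g (g v) + v = 0 := by
      have hm : g v + (g ^ (r - 1)) v = 0 := by
        refine hK _ (Submodule.add_mem _ (hKg v hPv) (hKg.pow _ v hPv)) fun y hy => ?_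
        have h1 := hiso (y + v) (by rw [map_add, show f y = 0 from hy, hPv, add_zero])
        rw [map_add, QuadraticMap.polar_add_left, QuadraticMap.polar_add_right, QuadraticMap.polar_add_right,
          hiso y hy, hiso v hPv, zero_add, add_zero, QuadraticMap.polar_comm (⇑Q) v (g y),
          h.polar_apply hr0] at h1
        rw [QuadraticMap.polar_comm, QuadraticMap.polar_add_right]
        exact h1
      have := congrArg g hm
      rwa [map_add, h.g_pow_pred' hr0, map_zero] at this
    have h2 : g (g v) = -v := eq_neg_of_add_eq_zero_left hanti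
    have h4 : (g ^ 4) v = v := by
      simp only [pow_succ', pow_zero, mul_one, Module.End.mul_apply]
      rw [h2, map_neg, map_neg, h2, neg_neg]
    refine hv (h.free v ?_)
    have hco : Nat.Coprime 4 r := by
      rw [show 4 = 2 ^ 2 by norm_num]
      exact Nat.Coprime.pow_left 2 ((Nat.coprime_primes Nat.prime_two hr.out).2 (Ne.symm hr2))
    have hit : ∀ k, (fun x => g x)^[k] v = (g ^ k) v := by
      intro k
      induction k with
      | zero => rfl
      | succ k ih => rw [Function.iterate_succ_apply', ih, pow_succ', Module.End.mul_apply]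
    have hfix : Function.IsPeriodicPt (fun x => g x) 4 v := by
      show (fun x => g x)^[4] v = v
      rw [hit]; exact h4
    have hfix' : Function.IsPeriodicPt (fun x => g x) r v := by
      show (fun x => g x)^[r] v = v
      rw [hit, h.pow]
      rfl
    have := hfix.gcd hfix'
    rw [hco.gcd_eq_one] at this
    exact this
  · rw [if_neg hev]
    have hiso : ∀ {C : Submodule F V}, Invt g C → finrank F C = i →
        ∀ x ∈ C, ∀ y ∈ C, QuadraticMap.polar Q x y = 0 := by
      intro C hC hCd
      refine (hdich hC hCd).resolve_left fun hn => hev ?_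
      haveI : Finite V := Module.finite_of_finite F
      obtain ⟨H, G, N⟩ := skew_form _ hn.comp (hr.out.odd_of_ne_two hr2) _ (h.restrict hC hn).iso
        (h.restrict hC hn).pow (h.restrict hC hn).free
      let ω : LinearMap.BilinForm F C :=
        (Q.comp C.subtype).polarBilin.compl₂ (skewPart r (g.restrict hC))
      have h0 := Forms.even_finrank_sub_ker ω fun x => H.alt (fun _ => rfl) x
      have hker : LinearMap.ker ω = ⊥ := by
        rw [eq_bot_iff]
        exact fun x hx => (Submodule.mem_bot F).2 (N x fun y => LinearMap.congr_fun hx y)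
      rw [hker, finrank_bot, Nat.sub_zero, hCd] at h0
      exact h0
    set g' := g ^ (r - 1) with hg'
    set f' := aeval g' P with hf'
    have hg'g : g' ^ (r - 1) = g := by
      rw [hg', ← pow_mul]
      refine (pow_congr_mod hi h.pow ?_).trans (pow_one g)
      rw [Nat.cast_mul, Nat.cast_sub hr.out.one_le, ZMod.natCast_self, Nat.cast_one, zero_sub, neg_mul_neg, one_mul]
    -- a partner of `v`
    have hadj : ∀ x y, QuadraticMap.polar Q (f' x) y = QuadraticMap.polar Q x (f y) := fun x y => by
      rw [QuadraticMap.polar_comm (⇑Q) x, hf, h.polar_aeval hr0, QuadraticMap.polar_comm]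
    have hfrob' : f' ^ (Fintype.card F ^ i) = f' := by
      rw [hf', aeval_pow_card hi, pow_congr_mod hi (show g' ^ r = 1 by rw [hg', ← pow_mul, mul_comm, pow_mul, h.pow, one_pow]) hq1, pow_one]
    obtain ⟨t, ht, htv⟩ : ∃ t, f' t = 0 ∧ QuadraticMap.polar Q v t ≠ 0 := by
      by_contra hno
      push Not at hno
      refine hv (hnd v fun y => ?_)
      have hn2 : 2 ≤ Fintype.card F ^ i := le_trans Fintype.one_lt_card (Nat.le_self_pow (by omega) _)
      have h1 : f' (y - (f' ^ (Fintype.card F ^ i - 1)) y) = 0 := by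
        rw [map_sub, ← Module.End.mul_apply, ← pow_succ', Nat.sub_add_cancel (by omega), hfrob', sub_self]
      have h2 := hno _ h1
      rw [QuadraticMap.polar_sub_right, QuadraticMap.polar_comm (⇑Q) v ((f' ^ _) y),
        show Fintype.card F ^ i - 1 = (Fintype.card F ^ i - 2) + 1 by omega, pow_succ', Module.End.mul_apply,
        hadj, hPv, QuadraticMap.polar_zero_right, sub_zero] at h2
      exact h2
    have ht0 : t ≠ 0 := fun h0 => htv (by rw [h0, QuadraticMap.polar_zero_right])
    have hTinv : Invt g (cyc g' t) := fun x hx => by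
      rw [← hg'g]; exact (cyc_invt g' t).pow _ x hx
    have hSd := hone v hv g hPv (cyc_invt g v)
    have hTd := hone t ht0 g' ht hTinv
    set S := cyc g v
    set T := cyc g' t
    have hSi := hiso (cyc_invt g v) hSd
    have hTi := hiso hTinv hTd
    have hST : ∀ s ∈ S, (∀ y ∈ T, QuadraticMap.polar Q s y = 0) → s = 0 := by
      intro s hs hsy
      by_contra hs0
      have hR : Invt g (S ⊓ perp Q T) := fun y hy => ⟨cyc_invt g v _ hy.1, h.perp_invt hr0 hTinv _ hy.2⟩
      have hpos' : 0 < finrank F ↥(S ⊓ perp Q T) := Module.finrank_pos_iff_exists_ne_zero.2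
        ⟨⟨s, hs, fun u hu => by
          show QuadraticMap.polar Q u s = 0
          rw [QuadraticMap.polar_comm]; exact hsy u hu⟩, fun h' => hs0 (congrArg Subtype.val h')⟩
      have heq : S ⊓ perp Q T = S := Submodule.eq_of_le_of_finrank_le inf_le_left
        (by rw [hSd]; exact Nat.le_of_dvd hpos' (h.dvd_finrank hi hR))
      have hv' := self_mem_cyc g v
      change v ∈ S at hv'
      rw [← heq] at hv'
      refine htv ?_
      rw [QuadraticMap.polar_comm]
      exact hv'.2 t (self_mem_cyc g' t)
    have hTS : ∀ u ∈ T, (∀ y ∈ S, QuadraticMap.polar Q u y = 0) → u = 0 := by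
      intro u hu huy
      by_contra hu0
      have hR : Invt g (T ⊓ perp Q S) := fun y hy => ⟨hTinv _ hy.1, h.perp_invt hr0 (cyc_invt g v) _ hy.2⟩
      have hpos' : 0 < finrank F ↥(T ⊓ perp Q S) := Module.finrank_pos_iff_exists_ne_zero.2
        ⟨⟨u, hu, fun s hs => by
          show QuadraticMap.polar Q s u = 0
          rw [QuadraticMap.polar_comm]; exact huy s hs⟩, fun h' => hu0 (congrArg Subtype.val h')⟩
      have heq : T ⊓ perp Q S = T := Submodule.eq_of_le_of_finrank_le inf_le_left
        (by rw [hTd]; exact Nat.le_of_dvd hpos' (h.dvd_finrank hi hR))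
      have ht' := self_mem_cyc g' t
      change t ∈ T at ht'
      rw [← heq] at ht'
      exact htv (ht'.2 v (self_mem_cyc g v))
    refine ⟨S ⊔ T, (cyc_invt g v).sup hTinv, fun x hx hxy => ?_, ?_⟩
    · obtain ⟨s, hs, u, hu, rfl⟩ := Submodule.mem_sup.1 hx
      have hu0 : u = 0 := hTS u hu fun y hy => by
        have := hxy y (Submodule.mem_sup_left hy)
        rwa [QuadraticMap.polar_add_left, hSi s hs y hy, zero_add] at this
      have hs0 : s = 0 := hST s hs fun y hy => by
        have := hxy y (Submodule.mem_sup_right hy)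
        rwa [hu0, add_zero] at this
      rw [hs0, hu0, add_zero]
    · have hd := Submodule.finrank_sup_add_finrank_inf_eq S T
      rw [show S ⊓ T = ⊥ from eq_bot_iff.2 fun x hx => (Submodule.mem_bot F).2
        (hST x hx.1 fun y hy => hTi x hx.2 y hy), finrank_bot, hSd, hTd] at hd
      omega

/-- Invariant non-degenerate subspaces of every dimension `c * B`. -/
theorem exists_blocks (h : Fpf r Q g) {A : ℕ} (hA : finrank F V = (if Even i then i else 2 * i) * A) :
    ∀ B ≤ A, ∃ U : Submodule F V, Invt g U ∧ NDeg Q U ∧ finrank F U = (if Even i then i else 2 * i) * B := by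
  intro B hB
  induction B with
  | zero => exact ⟨⊥, fun x hx => by rw [(Submodule.mem_bot F).1 hx, map_zero]; exact zero_mem _,
      fun x hx _ => (Submodule.mem_bot F).1 hx, by rw [finrank_bot, mul_zero]⟩
  | succ B ih =>
    obtain ⟨U, hUi, hUn, hUd⟩ := ih (by omega)
    have hW := ndeg_perp h.nd hUn
    have hWi := h.perp_invt hr.out.pos hUi
    have hd := Submodule.finrank_add_eq_of_isCompl (isCompl_perp hUn)
    have hc : 0 < (if Even i then i else 2 * i) := by split_ifs <;> omega
    obtain ⟨U', hU'i, hU'n, hU'd⟩ := exists_block hi hi0 hr2 (h.restrict hWi hW) (by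
      rw [hUd, hA] at hd
      have : (if Even i then i else 2 * i) * (B + 1) ≤ (if Even i then i else 2 * i) * A :=
        Nat.mul_le_mul_left _ hB
      rw [Nat.mul_succ] at this
      omega)
    have ho : ∀ u ∈ U, ∀ w ∈ U'.map (perp Q U).subtype, QuadraticMap.polar Q u w = 0 := by
      rintro u hu _ ⟨w, -, rfl⟩
      exact w.2 u hu
    have hn' : NDeg Q (U'.map (perp Q U).subtype) := by
      rintro _ ⟨w, hw, rfl⟩ hy
      exact congrArg Subtype.val (hU'n w hw fun y hy' => by
        have := hy y.1 ⟨y, hy', rfl⟩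
        simpa [QuadraticMap.polar] using this)
    refine ⟨U ⊔ U'.map (perp Q U).subtype, hUi.sup ?_, hUn.sup hn' ho, ?_⟩
    · rintro _ ⟨w, hw, rfl⟩
      exact ⟨_, hU'i w hw, rfl⟩
    · have h1 := Submodule.finrank_sup_add_finrank_inf_eq U (U'.map (perp Q U).subtype)
      rw [(disjoint_of_orth hUn ho).eq_bot, finrank_bot, hUd, Submodule.finrank_map_subtype_eq, hU'd] at h1
      rw [Nat.mul_succ]
      omega

end Order

end Cfsg.Agent.OrthPrime
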