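import Cfsg.Agent.EqLemmas
import Cfsg.Agent.Lib.OrthPrime.Blocks
import Cfsg.Agent.Lib.Forms.Witt

/-!
# When does every element of odd prime order fix a member of a class of non-degenerate subspaces?

* `Block`, `Has` : blocks of fixed-point-free isometries and their presence in a subspace
* `Block.isometric` : blocks of equal dimension are isometric
* `fix_of_split`, `split_of_fix`, `fix_criterion`
-/

set_option autoImplicit false

namespace Cfsg.Agent.OrthPrime

open Module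

variable {F : Type*} [Field F] {V : Type*} [AddCommGroup V] [Module F V]

/-- The size of a block. -/
def bsize (i : ℕ) : ℕ := if Even i then i else 2 * i

theorem bsize_pos {i : ℕ} (h : 0 < i) : 0 < bsize i := by unfold bsize; split_ifs <;> omega

theorem bsize_dvd {i n : ℕ} (h : i ∣ n) (hn : Even n) : bsize i ∣ n := by
  unfold bsize
  split_ifs with hi
  · exact h
  · exact Nat.Coprime.mul_dvd_of_dvd_of_dvd (Nat.coprime_two_left.2 (Nat.not_even_iff_odd.1 hi)) (even_iff_two_dvd.1 hn) h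

theorem even_bsize (i : ℕ) : Even (bsize i) := by
  unfold bsize
  split_ifs with hi
  · exact hi
  · exact even_two_mul i

/-- A subspace of dimension `bsize i * B` with a fixed-point-free isometry of order dividing `r`. -/
def Block (r i : ℕ) (Q : QuadraticForm F V) (U : Submodule F V) (B : ℕ) : Prop :=
  finrank F U = bsize i * B ∧ ∃ g : Module.End F U, Fpf r (Q.comp U.subtype) g

/-- `W` contains a block. -/
def Has (r i : ℕ) (Q : QuadraticForm F V) (W : Submodule F V) (B : ℕ) : Prop :=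
  ∃ U ≤ W, Block r i Q U B

theorem Block.ndeg {r i : ℕ} {Q : QuadraticForm F V} {U : Submodule F V} {B : ℕ} (h : Block r i Q U B) :
    NDeg Q U := by
  obtain ⟨-, g, hg⟩ := h
  exact ndeg_of_comp hg.nd

theorem Block.transfer [FiniteDimensional F V] {r i : ℕ} {Q : QuadraticForm F V}
    {W : Type*} [AddCommGroup W] [Module F W] {Q' : QuadraticForm F W} {U : Submodule F W} {B : ℕ}
    (h : Block r i Q' U B) (e : U →ₗ[F] V) (he : ∀ u, Q (e u) = Q' (u : W)) (hinj : Function.Injective e) :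
    Block r i Q (LinearMap.range e) B := by
  obtain ⟨hd, g, hg⟩ := h
  refine ⟨by rw [LinearMap.finrank_range_of_inj hinj, hd], ?_⟩
  let E := LinearEquiv.ofInjective e hinj
  have hE : ∀ u, ((E u : LinearMap.range e) : V) = e u := fun _ => rfl
  refine ⟨E.conj g, fun x => ?_, ?_, fun x hx => ?_, ?_⟩
  · obtain ⟨u, rfl⟩ := E.surjective x
    rw [LinearEquiv.conj_apply_apply, LinearEquiv.symm_apply_apply]
    simp only [QuadraticMap.comp_apply, Submodule.coe_subtype, hE, he]
    exact hg.iso u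
  · have hk : ∀ k u, (E.conj g ^ k) (E u) = E ((g ^ k) u) := by
      intro k
      induction k with
      | zero => intro u; rfl
      | succ k ih =>
        intro u
        rw [pow_succ, pow_succ, Module.End.mul_apply, Module.End.mul_apply, LinearEquiv.conj_apply_apply,
          LinearEquiv.symm_apply_apply, ih]
    refine LinearMap.ext fun x => ?_
    obtain ⟨u, rfl⟩ := E.surjective x
    rw [hk, hg.pow]
    rfl
  · obtain ⟨u, rfl⟩ := E.surjective x
    rw [LinearEquiv.conj_apply_apply, LinearEquiv.symm_apply_apply, E.injective.eq_iff] at hx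
    rw [hg.free u hx, map_zero]
  · rw [Forms.nondegenerate_polarBilin_iff]
    intro x hx
    obtain ⟨u, rfl⟩ := E.surjective x
    rw [(Forms.nondegenerate_polarBilin_iff _).1 hg.nd u fun v => ?_, map_zero]
    have h1 := hx (E v)
    simp only [QuadraticMap.polar, QuadraticMap.comp_apply, Submodule.coe_subtype, ← map_add, hE, he] at h1 ⊢
    exact h1

variable [Fintype F] [FiniteDimensional F V] {r i : ℕ} [hr : Fact r.Prime] (hrF : (r : F) ≠ 0)
  (hi : ∀ k : ℕ, (Fintype.card F : ZMod r) ^ k = 1 ↔ i ∣ k) (hi0 : 0 < i) (hr2 : r ≠ 2)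
  {Q : QuadraticForm F V}

section
include hrF hr2

/-- Two fixed-point-free spaces of the same dimension are isometric. -/
theorem Fpf.isometric {W : Type*} [AddCommGroup W] [Module F W] [FiniteDimensional F W]
    {Q' : QuadraticForm F W} {g : Module.End F V} {g' : Module.End F W} (h : Fpf r Q g) (h' : Fpf r Q' g')
    (hd : finrank F V = finrank F W) : ∃ e : V ≃ₗ[F] W, ∀ x, Q' (e x) = Q x := by
  classical
  obtain ⟨ζ, -, hab⟩ := Forms.exists_no_root (F := F)
  obtain ⟨H, G, N⟩ := skew_form Q h.nd (hr.out.odd_of_ne_two hr2) g h.iso h.pow h.free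
  have hev : Even (finrank F V) := by
    let ω : LinearMap.BilinForm F V := Q.polarBilin.compl₂ (skewPart r g)
    have h0 := Forms.even_finrank_sub_ker ω fun x => H.alt (fun _ => rfl) x
    have hker : LinearMap.ker ω = ⊥ :=
      eq_bot_iff.2 fun x hx => (Submodule.mem_bot F).2 (N x fun y => LinearMap.congr_fun hx y)
    rwa [hker, finrank_bot, Nat.sub_zero] at h0
  obtain ⟨l, hl⟩ := hev
  rw [← two_mul] at hl
  rcases Nat.eq_zero_or_pos l with rfl | hl0
  · haveI : Subsingleton V := Module.finrank_zero_iff.1 hl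
    haveI : Subsingleton W := Module.finrank_zero_iff.1 (hd ▸ hl)
    exact ⟨LinearEquiv.ofSubsingleton V W, fun x => by
      rw [Subsingleton.elim x 0, map_zero, QuadraticMap.map_zero, QuadraticMap.map_zero]⟩
  have hl' : finrank F W = 2 * l := hd ▸ hl
  have t := type_of_fixedFree hr2 hrF Q h.nd hl0 hl h.iso h.pow h.free hab
  have t' := type_of_fixedFree hr2 hrF Q' h'.nd hl0 hl' h'.iso h'.pow h'.free hab
  have h11 : (-1 : ZMod r) ≠ 1 := by
    haveI : Fact (2 < r) := ⟨by have := hr.out.two_le; omega⟩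
    exact ZMod.neg_one_ne_one
  rcases Forms.classify_even Q h.nd hl hab with ⟨e, he⟩ | ⟨-, e, he⟩ <;>
    rcases Forms.classify_even Q' h'.nd hl' hab with ⟨e', he'⟩ | ⟨-, e', he'⟩
  · exact ⟨e.symm.trans e', fun x => by rw [LinearEquiv.trans_apply, he', ← he, LinearEquiv.apply_symm_apply]⟩
  · exact absurd ((t'.2 ⟨e', he'⟩).symm.trans (t.1 ⟨e, he⟩)) h11
  · exact absurd ((t.2 ⟨e, he⟩).symm.trans (t'.1 ⟨e', he'⟩)) h11
  · exact ⟨e.symm.trans e', fun x => by rw [LinearEquiv.trans_apply, he', ← he, LinearEquiv.apply_symm_apply]⟩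

theorem Block.isometric {U U' : Submodule F V} {B : ℕ} (h : Block r i Q U B) (h' : Block r i Q U' B) :
    ∃ e : U ≃ₗ[F] U', ∀ x : U, Q (e x : V) = Q (x : V) := by
  obtain ⟨hd, g, hg⟩ := h
  obtain ⟨hd', g', hg'⟩ := h'
  exact hg.isometric hrF hr2 hg' (hd.trans hd'.symm)

end

include hrF hi hr2

omit hrF in
theorem Fpf.bsize_dvd_finrank {g : Module.End F V} (h : Fpf r Q g) : bsize i ∣ finrank F V := by
  obtain ⟨H, G, N⟩ := skew_form Q h.nd (hr.out.odd_of_ne_two hr2) g h.iso h.pow h.free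
  let ω : LinearMap.BilinForm F V := Q.polarBilin.compl₂ (skewPart r g)
  have h0 := Forms.even_finrank_sub_ker ω fun x => H.alt (fun _ => rfl) x
  have hker : LinearMap.ker ω = ⊥ :=
    eq_bot_iff.2 fun x hx => (Submodule.mem_bot F).2 (N x fun y => LinearMap.congr_fun hx y)
  rw [hker, finrank_bot, Nat.sub_zero] at h0
  refine bsize_dvd ?_ h0
  have h1 := h.dvd_finrank hi (U := ⊤) fun _ _ => Submodule.mem_top
  rwa [finrank_top] at h1

theorem mov_ndeg (hQ : Q.polarBilin.Nondegenerate) {x : Module.End F V} (hiso : ∀ v, Q (x v) = Q v)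
    (hx : x ^ r = 1) : NDeg Q (movSub x) ∧ ∀ f ∈ fixSub x, ∀ m ∈ movSub x, QuadraticMap.polar Q f m = 0 := by
  have ho : ∀ f ∈ fixSub x, ∀ m ∈ movSub x, QuadraticMap.polar Q f m = 0 := by
    rintro f hf _ ⟨w, rfl⟩
    rw [LinearMap.sub_apply, Module.End.one_apply, QuadraticMap.polar_sub_right]
    nth_rewrite 1 [← mem_fixSub.1 hf]
    rw [polar_inv Q hiso, sub_self]
  refine ⟨fun v hv hvy => (Forms.nondegenerate_polarBilin_iff Q).1 hQ v fun y => ?_, ho⟩
  obtain ⟨f, hf, m, hm, rfl⟩ := Submodule.mem_sup.1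
    ((isCompl_fix_mov hrF hx).sup_eq_top ▸ Submodule.mem_top : y ∈ fixSub x ⊔ movSub x)
  rw [QuadraticMap.polar_add_right, hvy m hm, add_zero, QuadraticMap.polar_comm]
  exact ho f hf v hv

include hi0

/-- The moved space of an isometry of order `r` is a block. -/
theorem exists_block_mov (hQ : Q.polarBilin.Nondegenerate) {x : Module.End F V} (hiso : ∀ v, Q (x v) = Q v)
    (hx : x ^ r = 1) : ∃ A, Block r i Q (movSub x) A := by
  have h : Fpf r (Q.comp (movSub x).subtype) (movEnd x) :=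
    ⟨fun v => hiso _, movEnd_pow hx, movEnd_fixedFree hrF hx, (mov_ndeg hrF hi hr2 hQ hiso hx).1.comp⟩
  obtain ⟨A, hA⟩ := h.bsize_dvd_finrank hi hr2
  exact ⟨A, hA, _, h⟩

theorem Has.mono {W : Submodule F V} {A B : ℕ} (h : Has r i Q W A) (hB : B ≤ A) : Has r i Q W B := by
  obtain ⟨U, hUW, hU, g, hg⟩ := h
  obtain ⟨U', hi', hn', hd'⟩ := exists_blocks hi hi0 hr2 hg hU B hB
  let e : U' →ₗ[F] V := U.subtype.comp U'.subtype
  exact ⟨LinearMap.range e, by rintro _ ⟨u, rfl⟩; exact hUW u.1.2,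
    Block.transfer (Q := Q) (Q' := Q.comp U.subtype) ⟨hd', _, hg.restrict hi' hn'⟩ e (fun u => rfl)
      (fun a b hab => Subtype.ext (Subtype.ext hab))⟩

/-- An element whose blocks can be divided between `W` and its complement fixes an image of `W`. -/
theorem fix_of_split (hQ : Q.polarBilin.Nondegenerate) {x : Module.End F V} (hiso : ∀ v, Q (x v) = Q v)
    (hx : x ^ r = 1) {W : Submodule F V} (hW : NDeg Q W) {A B : ℕ} (hA : Block r i Q (movSub x) A)
    (hBA : B ≤ A) (h1 : Has r i Q W B) (h2 : Has r i Q (perp Q W) (A - B)) :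
    ∃ k : V ≃ₗ[F] V, (∀ v, Q (k v) = Q v) ∧ Invt x (W.map k.symm.toLinearMap) := by
  obtain ⟨U₁, hU₁W, hU₁⟩ := h1
  obtain ⟨U₂, hU₂W, hU₂⟩ := h2
  obtain ⟨hMn, hfo⟩ := mov_ndeg hrF hi hr2 hQ hiso hx
  have hfr : Fpf r (Q.comp (movSub x).subtype) (movEnd x) :=
    ⟨fun v => hiso _, movEnd_pow hx, movEnd_fixedFree hrF hx, hMn.comp⟩
  obtain ⟨P₀, hP₀i, hP₀n, hP₀d⟩ := exists_blocks hi hi0 hr2 hfr hA.1 B hBA
  let e₀ : P₀ →ₗ[F] V := (movSub x).subtype.comp P₀.subtype
  have hP : Block r i Q (LinearMap.range e₀) B :=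
    Block.transfer (Q' := Q.comp (movSub x).subtype) ⟨hP₀d, _, hfr.restrict hP₀i hP₀n⟩ e₀ (fun u => rfl)
      (fun a b hab => Subtype.ext (Subtype.ext hab))
  let e₁ : perp (Q.comp (movSub x).subtype) P₀ →ₗ[F] V :=
    (movSub x).subtype.comp (perp (Q.comp (movSub x).subtype) P₀).subtype
  have hP'd : finrank F (perp (Q.comp (movSub x).subtype) P₀) = bsize i * (A - B) := by
    have := Submodule.finrank_add_eq_of_isCompl (isCompl_perp hP₀n)
    rw [hA.1, hP₀d] at this
    rw [Nat.mul_sub]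
    change bsize i * B + _ = _ at this
    omega
  have hP' : Block r i Q (LinearMap.range e₁) (A - B) :=
    Block.transfer (Q' := Q.comp (movSub x).subtype)
      ⟨hP'd, _, hfr.restrict (hfr.perp_invt hr.out.pos hP₀i) (ndeg_perp hfr.nd hP₀n)⟩ e₁ (fun u => rfl)
      (fun a b hab => Subtype.ext (Subtype.ext hab))
  set P := LinearMap.range e₀
  set P' := LinearMap.range e₁
  have hPM : P ≤ movSub x := by rintro _ ⟨u, rfl⟩; exact u.1.2
  have hP'M : P' ≤ movSub x := by rintro _ ⟨u, rfl⟩; exact u.1.2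
  have hPP : ∀ a ∈ P, ∀ b ∈ P', QuadraticMap.polar Q a b = 0 := by
    rintro _ ⟨a, rfl⟩ _ ⟨b, rfl⟩
    have := b.2 a.1 a.2
    simpa [QuadraticMap.polar, QuadraticMap.polarBilin, e₀, e₁] using this
  have hM : ∀ m ∈ movSub x, ∃ a ∈ P, ∃ b ∈ P', a + b = m := by
    intro m hm
    obtain ⟨a, ha, b, hb, hab⟩ := Submodule.mem_sup.1 ((isCompl_perp hP₀n).sup_eq_top ▸ Submodule.mem_top :
      (⟨m, hm⟩ : movSub x) ∈ P₀ ⊔ perp (Q.comp (movSub x).subtype) P₀)
    exact ⟨_, ⟨⟨a, ha⟩, rfl⟩, _, ⟨⟨b, hb⟩, rfl⟩, congrArg Subtype.val hab⟩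
  obtain ⟨φ₁, hφ₁⟩ := hP.isometric hrF hr2 hU₁
  obtain ⟨φ₂, hφ₂⟩ := hP'.isometric hrF hr2 hU₂
  let π₁ := P.projectionOnto (perp Q P) (isCompl_perp hP.ndeg)
  let π₂ := P'.projectionOnto (perp Q P') (isCompl_perp hP'.ndeg)
  let T : movSub x →ₗ[F] V :=
    (U₁.subtype.comp (φ₁.toLinearMap.comp (π₁.comp (movSub x).subtype))) +
      (U₂.subtype.comp (φ₂.toLinearMap.comp (π₂.comp (movSub x).subtype)))
  have hT : ∀ (a : P) (b : P') (h : (a : V) + b ∈ movSub x),
      T ⟨(a : V) + b, h⟩ = (φ₁ a : V) + (φ₂ b : V) := by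
    intro a b h
    have ha : π₁ ((a : V) + b) = a := by
      rw [map_add, Submodule.projectionOnto_apply_left,
        (Submodule.projectionOnto_apply_eq_zero_iff (isCompl_perp hP.ndeg)).2
          (show (b : V) ∈ perp Q P from fun u hu => hPP u hu b b.2), add_zero]
    have hb : π₂ ((a : V) + b) = b := by
      rw [map_add, Submodule.projectionOnto_apply_left,
        (Submodule.projectionOnto_apply_eq_zero_iff (isCompl_perp hP'.ndeg)).2 (show (a : V) ∈ perp Q P' from
        fun u hu => by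
          show QuadraticMap.polar Q u a = 0
          rw [QuadraticMap.polar_comm]; exact hPP a a.2 u hu), zero_add]
    simp [T, ha, hb]
  have hTQ : ∀ m : movSub x, Q (T m) = Q (m : V) := by
    rintro ⟨m, hm⟩
    obtain ⟨a, ha, b, hb, rfl⟩ := hM m hm
    rw [hT ⟨a, ha⟩ ⟨b, hb⟩ hm, QuadraticMap.map_add (⇑Q), hφ₁, hφ₂]
    show Q a + Q b + _ = Q (a + b)
    rw [QuadraticMap.map_add (⇑Q) a b, hPP a ha b hb]
    congr 1
    exact hU₂W (φ₂ ⟨b, hb⟩).2 _ (hU₁W (φ₁ ⟨a, ha⟩).2)
  have hTinj : Function.Injective T := (injective_iff_map_eq_zero T).2 fun m hm => by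
    apply Subtype.ext
    refine hMn m m.2 fun y hy => ?_
    have := congrArg (fun z => QuadraticMap.polar Q z (T ⟨y, hy⟩)) hm
    simp only [QuadraticMap.polar_zero_left] at this
    rw [← this]
    simp only [QuadraticMap.polar, ← map_add, hTQ]
    rfl
  obtain ⟨k, hk, hkT⟩ := Forms.witt_quadratic Q hQ (movSub x) (LinearMap.range T)
    (LinearEquiv.ofInjective T hTinj) fun m => hTQ m
  refine ⟨k, hk, ?_⟩
  rintro _ ⟨w, hw, rfl⟩
  set z := k.symm w with hz
  obtain ⟨f, hf, m, hm, hfm⟩ := Submodule.mem_sup.1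
    ((isCompl_fix_mov hrF hx).sup_eq_top ▸ Submodule.mem_top : z ∈ fixSub x ⊔ movSub x)
  obtain ⟨a, ha, b, hb, rfl⟩ := hM m hm
  have hkm : ∀ (a : P) (b : P'), k ((a : V) + b) = (φ₁ a : V) + (φ₂ b : V) := fun a b => by
    have hmem : (a : V) + b ∈ movSub x := add_mem (hPM a.2) (hP'M b.2)
    rw [show k ((a : V) + b) = T ⟨_, hmem⟩ from hkT ⟨_, hmem⟩, hT]
  have hkb : ∀ b' : P', QuadraticMap.polar Q (b' : V) z = 0 := fun b' => by
    have h1 := hkm 0 b'
    rw [Submodule.coe_zero, zero_add, map_zero, Submodule.coe_zero, zero_add] at h1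
    rw [← polar_inv Q (g := k.toLinearMap) hk, LinearEquiv.coe_coe, h1, hz, LinearEquiv.apply_symm_apply,
      QuadraticMap.polar_comm]
    exact hU₂W (φ₂ b').2 w hw
  have hb0 : b = 0 := by
    refine hP'.ndeg b hb fun y hy => ?_
    have h1 := hkb ⟨y, hy⟩
    rw [← hfm, QuadraticMap.polar_add_right, QuadraticMap.polar_add_right, QuadraticMap.polar_comm (⇑Q) y a,
      hPP a ha y hy, QuadraticMap.polar_comm (⇑Q) y f, hfo f hf y (hP'M hy),
      zero_add, zero_add, QuadraticMap.polar_comm] at h1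
    exact h1
  have hka : ∀ a : P, (a : V) ∈ W.map k.symm.toLinearMap := fun a => ⟨(φ₁ a : V), hU₁W (φ₁ a).2, by
    have h1 := hkm a 0
    rw [Submodule.coe_zero, add_zero, map_zero, Submodule.coe_zero, add_zero] at h1
    rw [LinearEquiv.coe_coe, ← h1, LinearEquiv.symm_apply_apply]⟩
  have hxa : x a ∈ P := by
    obtain ⟨a', rfl⟩ := ha
    exact ⟨⟨_, hP₀i a'.1 a'.2⟩, rfl⟩
  show x z ∈ _
  have he : x z = z + (x a - a) := by
    rw [← hfm, hb0, add_zero, map_add, mem_fixSub.1 hf]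
    abel
  rw [he]
  exact add_mem ⟨w, hw, rfl⟩ (sub_mem (hka ⟨_, hxa⟩) (hka ⟨_, ha⟩))

/-- A fixed subspace divides the blocks. -/
theorem split_of_fix (hQ : Q.polarBilin.Nondegenerate) {x : Module.End F V} (hiso : ∀ v, Q (x v) = Q v)
    (hx : x ^ r = 1) {W : Submodule F V} (hW : NDeg Q W) (hxW : Invt x W) {A : ℕ}
    (hA : Block r i Q (movSub x) A) :
    ∃ B ≤ A, Has r i Q W B ∧ Has r i Q (perp Q W) (A - B) := by
  have hperp : Invt x (perp Q W) := fun v hv u hu => by
    show QuadraticMap.polar Q u (x v) = 0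
    have hu' : x ((x ^ (r - 1)) u) = u := by
      rw [← Module.End.mul_apply, ← pow_succ', Nat.sub_add_cancel hr.out.pos, hx]; rfl
    rw [← hu', polar_inv Q hiso]
    exact hv _ (hxW.pow _ u hu)
  have key : ∀ {S : Submodule F V}, NDeg Q S → Invt x S → ∃ B, Block r i Q (S.map (x - 1)) B := by
    intro S hS hxS
    have hk : ∀ (k : ℕ) (v : S), (((x.restrict hxS) ^ k) v : V) = (x ^ k) v := by
      intro k
      induction k with
      | zero => intro v; rfl
      | succ k ih => intro v; rw [pow_succ, pow_succ, Module.End.mul_apply, Module.End.mul_apply, ih]; rfl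
    have hp : (x.restrict hxS) ^ r = 1 := LinearMap.ext fun v => Subtype.ext (by rw [hk, hx]; rfl)
    obtain ⟨B, hB⟩ := exists_block_mov hrF hi hi0 hr2 hS.comp (x := x.restrict hxS) (fun v => hiso _) hp
    refine ⟨B, ?_⟩
    have hr' : LinearMap.range (S.subtype.comp (movSub (x.restrict hxS)).subtype) = S.map (x - 1) := by
      ext v
      constructor
      · rintro ⟨⟨_, u, rfl⟩, rfl⟩
        exact ⟨u, u.2, rfl⟩
      · rintro ⟨u, hu, rfl⟩
        exact ⟨⟨_, ⟨u, hu⟩, rfl⟩, rfl⟩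
    rw [← hr']
    exact hB.transfer _ (fun u => rfl) (fun a b hab => Subtype.ext (Subtype.ext hab))
  obtain ⟨B, hB⟩ := key hW hxW
  obtain ⟨B', hB'⟩ := key (ndeg_perp hQ hW) hperp
  have h1 : W.map (x - 1) ≤ W := by
    rintro _ ⟨u, hu, rfl⟩; exact sub_mem (hxW u hu) hu
  have h2 : (perp Q W).map (x - 1) ≤ perp Q W := by
    rintro _ ⟨u, hu, rfl⟩; exact sub_mem (hperp u hu) hu
  have hsum : movSub x = W.map (x - 1) ⊔ (perp Q W).map (x - 1) := by
    rw [← Submodule.map_sup, (isCompl_perp hW).sup_eq_top, Submodule.map_top]; rfl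
  have hd := Submodule.finrank_sup_add_finrank_inf_eq (W.map (x - 1)) ((perp Q W).map (x - 1))
  rw [← hsum, hA.1, hB.1, hB'.1, (Disjoint.mono h1 h2 (isCompl_perp hW).disjoint).eq_bot, finrank_bot,
    add_zero, ← mul_add] at hd
  have hAB : A = B + B' := Nat.eq_of_mul_eq_mul_left (bsize_pos hi0) hd
  exact ⟨B, by omega, ⟨_, h1, hB⟩, ⟨_, h2, by rwa [show A - B = B' by omega]⟩⟩

/-- The criterion. -/
theorem fix_criterion (hQ : Q.polarBilin.Nondegenerate) (P : Submodule F V → Prop)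
    (hPk : ∀ W, P W → ∀ k : V ≃ₗ[F] V, (∀ v, Q (k v) = Q v) → P (W.map k.toLinearMap))
    (hPn : ∀ W, P W → NDeg Q W) (hne : ∃ W, P W) {M M₁ M₂ : ℕ}
    (hM : ∀ B, Has r i Q (⊤ : Submodule F V) B ↔ B ≤ M)
    (hM₁ : ∀ W, P W → ∀ B, Has r i Q W B ↔ B ≤ M₁)
    (hM₂ : ∀ W, P W → ∀ B, Has r i Q (perp Q W) B ↔ B ≤ M₂) :
    (∀ x : Module.End F V, (∀ v, Q (x v) = Q v) → x ^ r = 1 → x ≠ 1 → ∃ W, P W ∧ Invt x W) ↔
      (M = 0 ∨ M ≤ M₁ + M₂) := by
  constructor
  · intro hall
    by_contra hc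
    push Not at hc
    obtain ⟨U, -, hU⟩ := (hM M).2 le_rfl
    obtain ⟨hUd, g, hg⟩ := hU
    have hUn : NDeg Q U := ndeg_of_comp hg.nd
    set x : Module.End F V := (U.subtype.comp g).comp (U.projectionOnto _ (isCompl_perp hUn)) +
      (perp Q U).subtype.comp ((perp Q U).projectionOnto _ (isCompl_perp hUn).symm) with hx
    have hxu : ∀ (u : U) (w : perp Q U), x ((u : V) + w) = (g u : V) + w := fun u w => by
      simp [hx, (Submodule.projectionOnto_apply_eq_zero_iff (isCompl_perp hUn)).2 w.2,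
        (Submodule.projectionOnto_apply_eq_zero_iff (isCompl_perp hUn).symm).2 u.2]
    have hdec : ∀ v : V, ∃ (u : U) (w : perp Q U), (u : V) + w = v := fun v => by
      obtain ⟨u, hu, w, hw, h⟩ := Submodule.mem_sup.1
        ((isCompl_perp hUn).sup_eq_top ▸ Submodule.mem_top : v ∈ U ⊔ perp Q U)
      exact ⟨⟨u, hu⟩, ⟨w, hw⟩, h⟩
    have hiso : ∀ v, Q (x v) = Q v := fun v => by
      obtain ⟨u, w, rfl⟩ := hdec v
      rw [hxu, QuadraticMap.map_add (⇑Q), QuadraticMap.map_add (⇑Q), show QuadraticMap.polar Q (g u : V) w = 0 from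
        w.2 _ (g u).2, show QuadraticMap.polar Q (u : V) w = 0 from w.2 _ u.2, show Q (g u : V) = Q (u : V) from hg.iso u]
    have hxk : ∀ (k : ℕ) (u : U) (w : perp Q U), (x ^ k) ((u : V) + w) = ((g ^ k) u : V) + w := fun k u w => by
      induction k with
      | zero => rfl
      | succ k ih => rw [pow_succ', Module.End.mul_apply, ih, hxu, pow_succ', Module.End.mul_apply]
    have hxr : x ^ r = 1 := LinearMap.ext fun v => by
      obtain ⟨u, w, rfl⟩ := hdec v
      rw [hxk, hg.pow]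
      rfl
    have hmov : movSub x = U := by
      refine le_antisymm ?_ fun u hu => ?_
      · rintro _ ⟨v, rfl⟩
        obtain ⟨a, w, rfl⟩ := hdec v
        rw [LinearMap.sub_apply, Module.End.one_apply, hxu, add_sub_add_right_eq_sub]
        exact sub_mem (g a).2 a.2
      · have hinj : Function.Injective (g - 1 : Module.End F U) := (injective_iff_map_eq_zero _).2 fun z hz =>
          hg.free z (sub_eq_zero.1 (by simpa using hz))
        obtain ⟨a, ha⟩ := LinearMap.injective_iff_surjective.1 hinj ⟨u, hu⟩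
        refine ⟨a, ?_⟩
        have := hxu a 0
        rw [Submodule.coe_zero, add_zero, add_zero] at this
        rw [LinearMap.sub_apply, Module.End.one_apply, this]
        exact congrArg Subtype.val ha
    have hx1 : x ≠ 1 := fun h => hc.1 (by
      have hb : movSub x = ⊥ := by rw [h, movSub, sub_self, LinearMap.range_zero]
      rw [hmov] at hb
      rw [hb, finrank_bot] at hUd
      rcases mul_eq_zero.1 hUd.symm with h' | h'
      · exact absurd h' (bsize_pos hi0).ne'
      · exact h')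
    obtain ⟨W, hW, hxW⟩ := hall x hiso hxr hx1
    obtain ⟨B, hB, h1, h2⟩ := split_of_fix hrF hi hi0 hr2 hQ hiso hxr (hPn W hW) hxW
      (A := M) (hmov ▸ ⟨hUd, g, hg⟩)
    have := (hM₁ W hW B).1 h1
    have := (hM₂ W hW (M - B)).1 h2
    omega
  · intro hM' x hiso hxr hx1
    obtain ⟨A, hA⟩ := exists_block_mov hrF hi hi0 hr2 hQ hiso hxr
    have hAM : A ≤ M := (hM A).1 ⟨_, le_top, hA⟩
    have hAM' : A ≤ M₁ + M₂ := by
      rcases hM' with h0 | h0 <;> omega
    obtain ⟨W, hW⟩ := hne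
    obtain ⟨k, hk, hki⟩ := fix_of_split hrF hi hi0 hr2 hQ hiso hxr (hPn W hW) hA (Nat.min_le_left A M₁)
      ((hM₁ W hW _).2 (Nat.min_le_right A M₁)) ((hM₂ W hW _).2 (by omega))
    refine ⟨_, hPk W hW k.symm (fun v => ?_), hki⟩
    conv_rhs => rw [← k.apply_symm_apply v, hk]

end Cfsg.Agent.OrthPrime
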