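import Cfsg.Agent.EqLemmas
import Cfsg.Agent.Lib.OrthPrime.Blocks
import Cfsg.Agent.Lib.Forms.Classify

/-!
# Types of orthogonal direct sums

* `Half Q W` : `W` has a singular subspace of half its dimension
* `half_sup`, `half_perp`, `half_of_not` : `+ ⊕ + = +`, `+ ⊕ - = -`, `- ⊕ - = +`
-/

set_option autoImplicit false

namespace Cfsg.Agent.OrthPrime

open Module

variable {F : Type*} [Field F] {V : Type*} [AddCommGroup V] [Module F V]

/-- `W` has a singular subspace of half its dimension. -/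
def Half (Q : QuadraticForm F V) (W : Submodule F V) : Prop :=
  ∃ U ≤ W, (∀ u ∈ U, Q u = 0) ∧ 2 * finrank F U = finrank F W

theorem half_range {W : Type*} [AddCommGroup W] [Module F W] {Q : QuadraticForm F V} {R : QuadraticForm F W}
    (e : W →ₗ[F] V) (he : Function.Injective e) (heQ : ∀ w, Q (e w) = R w) (S : Submodule F W) :
    Half Q (S.map e) ↔ Half R S := by
  constructor
  · rintro ⟨U, hU, hUs, hUd⟩
    refine ⟨U.comap e, fun x hx => ?_, fun x hx => by rw [← heQ]; exact hUs _ hx, ?_⟩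
    · obtain ⟨y, hy, hyx⟩ := hU hx
      rwa [← he hyx]
    · rw [← (Submodule.equivMapOfInjective e he S).finrank_eq] at hUd
      rw [← hUd, (Submodule.equivMapOfInjective e he (U.comap e)).finrank_eq, Submodule.map_comap_eq,
        inf_eq_right.2 (le_trans hU (by rintro _ ⟨y, -, rfl⟩; exact LinearMap.mem_range_self e y))]
  · rintro ⟨U, hU, hUs, hUd⟩
    refine ⟨U.map e, Submodule.map_mono hU, ?_, ?_⟩
    · rintro _ ⟨x, hx, rfl⟩; rw [heQ]; exact hUs x hx
    · rw [← (Submodule.equivMapOfInjective e he U).finrank_eq, ← (Submodule.equivMapOfInjective e he S).finrank_eq, hUd]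

theorem half_qfPlus (h : ℕ) : Half (Forms.qfPlus h F) (⊤ : Submodule F (Fin h ⊕ Fin h → F)) := by
  let L : (Fin h → F) →ₗ[F] (Fin h ⊕ Fin h → F) :=
    { toFun := fun x => Sum.elim x 0
      map_add' := fun x y => by ext (i | i) <;> simp
      map_smul' := fun c x => by ext (i | i) <;> simp }
  refine ⟨LinearMap.range L, le_top, ?_, ?_⟩
  · rintro _ ⟨x, rfl⟩
    simp [Forms.qfPlus_apply, Cfsg.quadFormPlus, L]
  · rw [LinearMap.finrank_range_of_inj (fun x y hxy => funext fun i => congrFun hxy (Sum.inl i)), finrank_top]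
    simp [two_mul]

theorem not_half_qfMinus [Finite F] {a b : F} (hab : ∀ x y : F, x ^ 2 + a * x * y + b * y ^ 2 = 0 → x = 0 ∧ y = 0)
    (n : ℕ) : ¬ Half (Forms.qfMinus n F a b) (⊤ : Submodule F ((Fin n ⊕ Fin n) ⊕ Fin 2 → F)) := by
  rintro ⟨U, -, hUs, hUd⟩
  refine no_singular_half_minus hab n U hUs ?_
  rw [finrank_top] at hUd
  simp at hUd
  omega

theorem polar_eq_zero {Q : QuadraticForm F V} {U : Submodule F V} (hU : ∀ u ∈ U, Q u = 0) {x y : V}
    (hx : x ∈ U) (hy : y ∈ U) : QuadraticMap.polar Q x y = 0 := by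
  simp [QuadraticMap.polar, hU _ (U.add_mem hx hy), hU x hx, hU y hy]

variable [FiniteDimensional F V] {Q : QuadraticForm F V}

theorem half_sup {W W' : Submodule F V} (hW : NDeg Q W)
    (ho : ∀ u ∈ W, ∀ w ∈ W', QuadraticMap.polar Q u w = 0) (h : Half Q W) (h' : Half Q W') :
    Half Q (W ⊔ W') := by
  obtain ⟨U, hU, hUs, hUd⟩ := h
  obtain ⟨U', hU', hUs', hUd'⟩ := h'
  have hd := disjoint_of_orth hW ho
  refine ⟨U ⊔ U', sup_le_sup hU hU', fun x hx => ?_, ?_⟩
  · obtain ⟨u, hu, w, hw, rfl⟩ := Submodule.mem_sup.1 hx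
    rw [QuadraticMap.map_add (⇑Q), hUs u hu, hUs' w hw, ho u (hU hu) w (hU' hw), add_zero, add_zero]
  · have h1 := Submodule.finrank_sup_add_finrank_inf_eq U U'
    have h2 := Submodule.finrank_sup_add_finrank_inf_eq W W'
    rw [(hd.mono hU hU').eq_bot, finrank_bot] at h1
    rw [hd.eq_bot, finrank_bot] at h2
    omega

theorem half_perp (hQ : Q.polarBilin.Nondegenerate) {W : Submodule F V} (hW : NDeg Q W)
    (hV : Half Q (⊤ : Submodule F V)) (h : Half Q W) : Half Q (perp Q W) := by
  obtain ⟨U, -, hUs, hUd⟩ := hV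
  obtain ⟨S, hSW, hSs, hSd⟩ := h
  rw [finrank_top] at hUd
  have hperp : ∀ X : Submodule F V, finrank F (perp Q X) = finrank F V - finrank F X := fun X => by
    exact LinearMap.BilinForm.finrank_orthogonal hQ X
  have hUU : perp Q U = U := by
    refine (Submodule.eq_of_le_of_finrank_le (show U ≤ perp Q U from fun x hx u hu => polar_eq_zero hUs hu hx) ?_).symm
    rw [hperp]; omega
  -- enlarge `S` to a singular half of `V`
  have hU2d : finrank F (perp Q S) + finrank F S = finrank F V := by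
    rw [hperp]; have := Submodule.finrank_le S; omega
  set T := U ⊓ perp Q S with hT
  have hTd : finrank F ↥(T ⊔ S) = finrank F U := by
    have h1 : perp Q (U ⊔ S) = T := by
      rw [hT]
      ext x
      constructor
      · intro hx
        refine ⟨?_, fun s hs => hx s (Submodule.mem_sup_right hs)⟩
        rw [← hUU]
        exact fun u hu => hx u (Submodule.mem_sup_left hu)
      · rintro ⟨hxU, hxS⟩ y hy
        obtain ⟨u, hu, s, hs, rfl⟩ := Submodule.mem_sup.1 hy
        show QuadraticMap.polar Q (u + s) x = 0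
        rw [QuadraticMap.polar_add_left, polar_eq_zero hUs hu hxU, zero_add]
        exact hxS s hs
    have h2 : T ⊓ S = U ⊓ S := le_antisymm (inf_le_inf_right _ inf_le_left) fun x hx =>
      ⟨⟨hx.1, fun s hs => polar_eq_zero hSs hs hx.2⟩, hx.2⟩
    have h3 := Submodule.finrank_sup_add_finrank_inf_eq T S
    have h4 := Submodule.finrank_sup_add_finrank_inf_eq U S
    have h5 := hperp (U ⊔ S)
    rw [h1] at h5
    rw [h2] at h3
    have := Submodule.finrank_le (U ⊔ S)
    omega
  have hs : ∀ x ∈ T ⊔ S, Q x = 0 := by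
    intro x hx
    obtain ⟨u, hu, s, hs, rfl⟩ := Submodule.mem_sup.1 hx
    rw [QuadraticMap.map_add (⇑Q), hUs u hu.1, hSs s hs, QuadraticMap.polar_comm, show QuadraticMap.polar Q s u = 0 from
      hu.2 s hs, add_zero, add_zero]
  refine ⟨(T ⊔ S) ⊓ perp Q W, inf_le_right, fun x hx => hs x hx.1, ?_⟩
  have hsp : T ⊔ S = S ⊔ ((T ⊔ S) ⊓ perp Q W) := by
    refine le_antisymm (fun x hx => ?_) (sup_le le_sup_right inf_le_left)
    obtain ⟨w, hw, z, hz, rfl⟩ := Submodule.mem_sup.1
      ((isCompl_perp hW).sup_eq_top ▸ Submodule.mem_top : x ∈ W ⊔ perp Q W)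
    have hwS : w ∈ S := by
      have hSp : S = W ⊓ perp Q S := Submodule.eq_of_le_of_finrank_le
        (fun s hs' => ⟨hSW hs', fun u hu => polar_eq_zero hSs hu hs'⟩) (by
          have h8 : finrank F ↥(W ⊓ perp Q S) + finrank F S = finrank F W := by
            have h9 : W ⊓ perp Q S ⊔ perp Q W ≤ perp Q S := sup_le inf_le_right fun y hy u hu => hy u (hSW hu)
            have h10 : perp Q S ≤ W ⊓ perp Q S ⊔ perp Q W := fun y hy => by
              obtain ⟨a, ha, b, hb, rfl⟩ := Submodule.mem_sup.1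
                ((isCompl_perp hW).sup_eq_top ▸ Submodule.mem_top : y ∈ W ⊔ perp Q W)
              refine Submodule.add_mem_sup ⟨ha, fun u hu => ?_⟩ hb
              have h11 : QuadraticMap.polar Q u (a + b) = 0 := hy u hu
              rwa [QuadraticMap.polar_add_right, show QuadraticMap.polar Q u b = 0 from hb u (hSW hu), add_zero] at h11
            have h11 := le_antisymm h9 h10
            have h12 := Submodule.finrank_sup_add_finrank_inf_eq (W ⊓ perp Q S) (perp Q W)
            rw [h11, ((isCompl_perp hW).disjoint.mono_left inf_le_left).eq_bot, finrank_bot] at h12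
            have h13 := Submodule.finrank_add_eq_of_isCompl (isCompl_perp hW)
            omega
          omega)
      rw [hSp]
      refine ⟨hw, fun u hu => ?_⟩
      have h1 : QuadraticMap.polar Q u (w + z) = 0 := polar_eq_zero hs (Submodule.mem_sup_right hu) hx
      rwa [QuadraticMap.polar_add_right, show QuadraticMap.polar Q u z = 0 from hz u (hSW hu), add_zero] at h1
    refine Submodule.add_mem_sup hwS ⟨?_, hz⟩
    have := (T ⊔ S).sub_mem hx (Submodule.mem_sup_right hwS)
    rwa [add_sub_cancel_left] at this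
  have h1 := Submodule.finrank_sup_add_finrank_inf_eq S ((T ⊔ S) ⊓ perp Q W)
  rw [← hsp, (((isCompl_perp hW).disjoint).mono hSW inf_le_right).eq_bot, finrank_bot, hTd] at h1
  have h2 := Submodule.finrank_add_eq_of_isCompl (isCompl_perp hW)
  omega

theorem half_of_not [Finite F] (hQ : Q.polarBilin.Nondegenerate) {W : Submodule F V} (hW : NDeg Q W) {h h' : ℕ}
    (hd : finrank F W = 2 * h) (hd' : finrank F (perp Q W) = 2 * h') (hn : ¬ Half Q W)
    (hn' : ¬ Half Q (perp Q W)) : Half Q (⊤ : Submodule F V) := by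
  classical
  obtain ⟨ζ, -, hab⟩ := Forms.exists_no_root (F := F)
  have key : ∀ {S : Submodule F V}, NDeg Q S → ¬ Half Q S → ∀ {k : ℕ}, finrank F S = 2 * k →
      ∃ (n : ℕ) (e : ((Fin n ⊕ Fin n) ⊕ Fin 2 → F) →ₗ[F] V), k = n + 1 ∧ Function.Injective e ∧
        (∀ v, e v ∈ S) ∧ ∀ v, Q (e v) = Forms.qfMinus n F 1 ζ v := by
    intro S hS hSh k hk
    rcases Forms.classify_even (Q.comp S.subtype) hS.comp hk hab with ⟨e, he⟩ | ⟨h1, e, he⟩
    · exfalso
      refine hSh ?_
      have := (half_range (Q := Q) (S.subtype.comp e.toLinearMap) (S.subtype_injective.comp e.injective)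
        (fun w => he w) ⊤).2 (half_qfPlus k)
      rwa [Submodule.map_top, LinearMap.range_comp, LinearEquiv.range, Submodule.map_top, Submodule.range_subtype] at this
    · exact ⟨k - 1, S.subtype.comp e.toLinearMap, by omega, S.subtype_injective.comp e.injective,
        fun v => (e v).2, fun v => he v⟩
  obtain ⟨n, e, rfl, hei, heW, he⟩ := key hW hn hd
  obtain ⟨n', e', rfl, hei', heW', he'⟩ := key (ndeg_perp hQ hW) hn' hd'
  -- the anti-isometry of the two planes
  have hbin : ∀ x y : F, x ^ 2 + 1 * x * y + ζ * y ^ 2 = 0 → x = 0 ∧ y = 0 := hab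
  obtain ⟨ψ, hψ⟩ : ∃ ψ : (F × F) ≃ₗ[F] (F × F), ∀ z, Forms.qfBin 1 ζ (ψ z) = -Forms.qfBin 1 ζ z := by
    have hd0 := Forms.disc_ne_zero_of_anisotropic hab
    have hR : ∀ z, (-Forms.qfBin (1 : F) ζ) z = 0 → z = 0 := fun z hz => by
      rw [QuadraticMap.neg_apply, neg_eq_zero, Forms.qfBin_apply] at hz
      exact Prod.ext (hab _ _ hz).1 (hab _ _ hz).2
    obtain ⟨a', b', hab', e₀, he₀⟩ := Forms.anisotropic_plane (-Forms.qfBin (1 : F) ζ) hR (by simp)
    obtain ⟨φ, hφ⟩ := Forms.qfBin_equiv_of_anisotropic hab hab'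
    refine ⟨e₀.symm.trans φ, fun z => ?_⟩
    obtain ⟨w, rfl⟩ := e₀.surjective z
    rw [LinearEquiv.trans_apply, LinearEquiv.symm_apply_apply, hφ, ← he₀]
    rfl
  let mk : ∀ n : ℕ, ((Fin n → F) × F × F) →ₗ[F] ((Fin n ⊕ Fin n) ⊕ Fin 2 → F) := fun n =>
    { toFun := fun z => Sum.elim (Sum.elim z.1 0) ![z.2.1, z.2.2]
      map_add' := fun z w => by ext ((i | i) | i) <;> (try simp) <;> fin_cases i <;> simp
      map_smul' := fun c z => by ext ((i | i) | i) <;> (try simp) <;> fin_cases i <;> simp }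
  let L : ((Fin n → F) × (Fin n' → F)) × F × F →ₗ[F] V :=
    e.comp ((mk n).comp ((LinearMap.fst F (Fin n → F) (Fin n' → F)).prodMap LinearMap.id)) +
      e'.comp ((mk n').comp ((LinearMap.snd F (Fin n → F) (Fin n' → F)).prodMap ψ.toLinearMap))
  have hL : ∀ z, L z = e (mk n (z.1.1, z.2)) + e' (mk n' (z.1.2, ψ z.2)) := fun z => rfl
  have hmk : ∀ (n : ℕ) (x : Fin n → F) (z : F × F), Forms.qfMinus n F 1 ζ (mk n (x, z)) = Forms.qfBin 1 ζ z := by
    intro n x z
    simp [Forms.qfMinus_apply, Cfsg.quadFormMinus, mk, Forms.qfBin_apply]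
  refine ⟨LinearMap.range L, le_top, ?_, ?_⟩
  · rintro _ ⟨z, rfl⟩
    rw [hL, QuadraticMap.map_add (⇑Q), he, he', hmk, hmk, hψ,
      show QuadraticMap.polar Q _ _ = 0 from heW' (mk n' (z.1.2, ψ z.2)) _ (heW (mk n (z.1.1, z.2)))]
    ring
  · have hLinj : Function.Injective L := (injective_iff_map_eq_zero L).2 fun z hz => by
      rw [hL] at hz
      have h1 : e (mk n (z.1.1, z.2)) = 0 := by
        refine Submodule.disjoint_def.1 (isCompl_perp hW).disjoint _ (heW _) ?_
        rw [eq_neg_of_add_eq_zero_left hz]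
        exact neg_mem (heW' _)
      rw [h1, zero_add] at hz
      have a1 := hei (h1.trans (map_zero e).symm)
      have a2 := hei' (hz.trans (map_zero e').symm)
      refine Prod.ext (Prod.ext (funext fun i => congrFun a1 (.inl (.inl i))) (funext fun i => congrFun a2 (.inl (.inl i))))
        (Prod.ext (congrFun a1 (.inr 0)) (congrFun a1 (.inr 1)))
    rw [LinearMap.finrank_range_of_inj hLinj, finrank_top]
    have := Submodule.finrank_add_eq_of_isCompl (isCompl_perp hW)
    simp
    omega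

end Cfsg.Agent.OrthPrime
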