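import Cfsg.Agent.EqLemmas
import Cfsg.Agent.Lib.OrthPrime.Cap
import Cfsg.Agent.Lib.OrthPrime.HalfType
import Cfsg.Agent.Lib.OrthPrime.Arith
import Cfsg.Agent.Lib.Orth.Derange

/-!
# The largest block of a non-degenerate space

`capP`, `capM` : the number of blocks in spaces of plus and minus type; `has_half`, `has_not_half`, `has_odd`
-/

set_option autoImplicit false

namespace Cfsg.Agent.OrthPrime

open Module

/-- Blocks in a space of plus type and dimension `k`. -/
def capP (i k : ℕ) : ℕ := if bsize i ∣ k ∧ Odd ((i + 1) * (k / bsize i)) then k / bsize i - 1 else k / bsize i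

/-- Blocks in a space of minus type and dimension `k`. -/
def capM (i k : ℕ) : ℕ := if bsize i ∣ k ∧ Even ((i + 1) * (k / bsize i)) then k / bsize i - 1 else k / bsize i

theorem le_div_iff_cases {c B k : ℕ} (hc : 0 < c) : B ≤ k / c ↔ c * B < k ∨ c * B = k := by
  rw [Nat.le_div_iff_mul_le hc, mul_comm]; omega

theorem le_capP {i k B : ℕ} (hi : 0 < i) :
    B ≤ capP i k ↔ bsize i * B < k ∨ (bsize i * B = k ∧ Even ((i + 1) * B)) := by
  have hc := bsize_pos hi
  unfold capP
  split_ifs with h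
  · obtain ⟨⟨e, rfl⟩, ho⟩ := h
    rw [Nat.mul_div_cancel_left _ hc] at ho ⊢
    have he : 0 < e := Nat.pos_of_ne_zero fun h0 => by simp [h0] at ho
    constructor
    · intro hB
      exact Or.inl (Nat.mul_lt_mul_of_pos_left (by omega) hc)
    · rintro (hB | ⟨hB, hev⟩)
      · have := Nat.lt_of_mul_lt_mul_left hB; omega
      · rw [Nat.eq_of_mul_eq_mul_left hc hB] at hev
        exact absurd hev (Nat.not_even_iff_odd.2 ho)
  · rw [le_div_iff_cases hc]
    refine or_congr_right ⟨fun hB => ⟨hB, ?_⟩, And.left⟩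
    subst hB
    rw [not_and, Nat.mul_div_cancel_left _ hc] at h
    exact Nat.not_odd_iff_even.1 (h (dvd_mul_right _ _))

theorem le_capM {i k B : ℕ} (hi : 0 < i) (hk : 0 < k) :
    B ≤ capM i k ↔ bsize i * B < k ∨ (bsize i * B = k ∧ Odd ((i + 1) * B)) := by
  have hc := bsize_pos hi
  unfold capM
  split_ifs with h
  · obtain ⟨⟨e, rfl⟩, ho⟩ := h
    rw [Nat.mul_div_cancel_left _ hc] at ho ⊢
    have he : 0 < e := Nat.pos_of_ne_zero fun h0 => by simp [h0] at hk
    constructor
    · intro hB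
      exact Or.inl (Nat.mul_lt_mul_of_pos_left (by omega) hc)
    · rintro (hB | ⟨hB, hev⟩)
      · have := Nat.lt_of_mul_lt_mul_left hB; omega
      · rw [Nat.eq_of_mul_eq_mul_left hc hB] at hev
        exact absurd ho (Nat.not_even_iff_odd.2 hev)
  · rw [le_div_iff_cases hc]
    refine or_congr_right ⟨fun hB => ⟨hB, ?_⟩, And.left⟩
    subst hB
    rw [not_and, Nat.mul_div_cancel_left _ hc] at h
    exact Nat.not_even_iff_odd.1 (h (dvd_mul_right _ _))

variable {F : Type*} [Field F] {V : Type*} [AddCommGroup V] [Module F V]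

theorem Emb.injective {W : Type*} [AddCommGroup W] [Module F W] {Q' : QuadraticForm F W} {Q : QuadraticForm F V}
    (hQ' : Q'.polarBilin.Nondegenerate) (j : W →ₗ[F] V) (hj : ∀ v, Q (j v) = Q' v) : Function.Injective j :=
  (injective_iff_map_eq_zero j).2 fun x hx => (Forms.nondegenerate_polarBilin_iff Q').1 hQ' x fun y => by
    have : QuadraticMap.polar Q' x y = QuadraticMap.polar Q (j x) (j y) := by
      simp only [QuadraticMap.polar, ← map_add, hj]
    rw [this, hx, QuadraticMap.polar_zero_left]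

/-- `Has` inside a subspace. -/
theorem has_comp [FiniteDimensional F V] {r i : ℕ} {Q : QuadraticForm F V} {W : Submodule F V} {B : ℕ} :
    Has r i Q W B ↔ Has r i (Q.comp W.subtype) (⊤ : Submodule F W) B := by
  constructor
  · rintro ⟨U, hU, hb⟩
    exact ⟨_, le_top, hb.transfer (Q := Q.comp W.subtype) (Submodule.inclusion hU) (fun u => rfl)
      (Submodule.inclusion_injective hU)⟩
  · rintro ⟨U, -, hb⟩
    exact ⟨_, by rintro _ ⟨u, rfl⟩; exact u.1.2, hb.transfer (Q := Q) (W.subtype.comp U.subtype) (fun u => rfl)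
      (W.subtype_injective.comp U.subtype_injective)⟩

theorem half_comp {Q : QuadraticForm F V} {W : Submodule F V} :
    Half Q W ↔ Half (Q.comp W.subtype) (⊤ : Submodule F W) := by
  have := half_range (Q := Q) (R := Q.comp W.subtype) W.subtype W.subtype_injective (fun _ => rfl) ⊤
  rwa [Submodule.map_top, Submodule.range_subtype] at this

variable [Fintype F] [FiniteDimensional F V] {r i : ℕ} [hr : Fact r.Prime] (hrF : (r : F) ≠ 0)
  (hi : ∀ k : ℕ, (Fintype.card F : ZMod r) ^ k = 1 ↔ i ∣ k) (hi0 : 0 < i) (hr2 : r ≠ 2)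
  {Q : QuadraticForm F V}

section
include hi hi0

/-- `q ^ (bsize / 2)`. -/
theorem pow_half_bsize (hr2 : r ≠ 2) (B : ℕ) :
    (Fintype.card F : ZMod r) ^ (bsize i / 2 * B) = (-1) ^ ((i + 1) * B) := by
  rw [pow_mul, pow_mul]
  congr 1
  unfold bsize
  split_ifs with h
  · obtain ⟨j, rfl⟩ := h
    rw [show (j + j) / 2 = j by omega, show ((-1 : ZMod r)) ^ (j + j + 1) = -1 from
      (show Odd (j + j + 1) from ⟨j, by ring⟩).neg_one_pow]
    have h1 : ((Fintype.card F : ZMod r) ^ j) ^ 2 = 1 := by rw [← pow_mul, hi]; exact ⟨1, by omega⟩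
    refine (sq_eq_one_iff.1 h1).resolve_left fun h2 => ?_
    have := Nat.le_of_dvd (by omega) ((hi j).1 h2)
    omega
  · rw [show 2 * i / 2 = i by omega, (hi i).2 dvd_rfl, (show Even (i + 1) from
      (Nat.not_even_iff_odd.1 h).add_one).neg_one_pow]

end

include hrF hi hi0 hr2

/-- A standard block embeds. -/
theorem has_of_emb {ι : Type} [Fintype ι] [DecidableEq ι] {Q' : QuadraticForm F (ι → F)}
    (hQ' : Q'.polarBilin.Nondegenerate) {B : ℕ} (hd : Fintype.card ι = bsize i * B)
    (g : Module.End F (ι → F)) (hiso : ∀ x, Q' (g x) = Q' x) (hg : g ^ r = 1) (hfree : ∀ x, g x = x → x = 0)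
    (he : Emb Q' Q) : Has r i Q (⊤ : Submodule F V) B := by
  obtain ⟨j, hj⟩ := he
  have hn : NDeg Q' (⊤ : Submodule F (ι → F)) := fun x _ hx =>
    (Forms.nondegenerate_polarBilin_iff Q').1 hQ' x fun y => hx y Submodule.mem_top
  have hb : Block r i Q' (⊤ : Submodule F (ι → F)) B :=
    ⟨by rw [finrank_top, Module.finrank_fintype_fun_eq_card, hd], _,
      Fpf.restrict ⟨hiso, hg, hfree, hQ'⟩ (fun _ _ => Submodule.mem_top) hn⟩
  exact ⟨_, le_top, hb.transfer (j.comp (Submodule.subtype _)) (fun u => hj u)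
    ((Emb.injective hQ' j hj).comp Subtype.val_injective)⟩

omit hrF in
theorem has_zero : Has r i Q (⊤ : Submodule F V) 0 := by
  refine ⟨⊥, bot_le, by rw [finrank_bot, mul_zero], 1, fun _ => rfl, one_pow r, fun x _ => Subsingleton.elim _ _, ?_⟩
  exact (Forms.nondegenerate_polarBilin_iff _).2 fun x _ => Subsingleton.elim _ _

omit hrF in
/-- Standard blocks. -/
theorem exists_std {B : ℕ} (hB : 0 < B) {a b : F}
    (hab : ∀ x y : F, x ^ 2 + a * x * y + b * y ^ 2 = 0 → x = 0 ∧ y = 0) :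
    (Even ((i + 1) * B) → ∃ g : Module.End F (Fin (bsize i / 2 * B) ⊕ Fin (bsize i / 2 * B) → F),
      (∀ x, Forms.qfPlus _ F (g x) = Forms.qfPlus _ F x) ∧ g ^ r = 1 ∧ ∀ x, g x = x → x = 0) ∧
    (Odd ((i + 1) * B) → ∃ g : Module.End F ((Fin (bsize i / 2 * B - 1) ⊕ Fin (bsize i / 2 * B - 1)) ⊕ Fin 2 → F),
      (∀ x, Forms.qfMinus _ F a b (g x) = Forms.qfMinus _ F a b x) ∧ g ^ r = 1 ∧ ∀ x, g x = x → x = 0) := by
  have hd0 : 0 < bsize i / 2 * B := Nat.mul_pos (by
    obtain ⟨e, he⟩ := even_bsize i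
    have := bsize_pos hi0
    omega) hB
  haveI : NeZero (bsize i / 2 * B) := ⟨hd0.ne'⟩
  have hp := pow_half_bsize hi hi0 hr2 B
  have h1 : 1 ≤ Fintype.card F ^ (bsize i / 2 * B) := Nat.one_le_pow _ _ Fintype.card_pos
  constructor
  · intro he
    rw [he.neg_one_pow] at hp
    obtain ⟨T, hT, hTr, hTf⟩ := Orth.exists_fpf_plus (F := F) (bsize i / 2 * B) (r := r)
      (by rw [← ZMod.natCast_eq_zero_iff, Nat.cast_sub h1, Nat.cast_pow, hp, Nat.cast_one, sub_self])
    exact ⟨T, fun x => by rw [Forms.qfPlus_apply, Forms.qfPlus_apply, hT], hTr, hTf⟩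
  · intro ho
    rw [ho.neg_one_pow] at hp
    obtain ⟨T, hT, hTr, hTf⟩ := Orth.exists_fpf_minus (F := F) (bsize i / 2 * B) (r := r) hr2
      (by rw [← ZMod.natCast_eq_zero_iff, Nat.cast_add, Nat.cast_pow, hp, Nat.cast_one, neg_add_cancel]) hab
    exact ⟨T, fun x => by rw [Forms.qfMinus_apply, Forms.qfMinus_apply, hT], hTr, hTf⟩

/-- A full block has the type of its size. -/
theorem type_of_full (hQ : Q.polarBilin.Nondegenerate) {B h : ℕ} (hd : finrank F V = 2 * h) (hh : 0 < h)
    (hB : Has r i Q (⊤ : Submodule F V) B) (hf : bsize i * B = 2 * h) :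
    Half Q (⊤ : Submodule F V) ↔ Even ((i + 1) * B) := by
  classical
  obtain ⟨ζ, -, hab⟩ := Forms.exists_no_root (F := F)
  obtain ⟨U, -, hUd, g, hg⟩ := hB
  obtain rfl : U = ⊤ := Submodule.eq_top_of_finrank_eq (by rw [hUd, hf, hd])
  obtain ⟨ht1, ht2⟩ := type_of_fixedFree hr2 hrF _ hg.nd hh (by rw [finrank_top, hd]) hg.iso hg.pow hg.free hab
  have hp := pow_half_bsize hi hi0 hr2 B
  rw [show bsize i / 2 * B = h by
    rw [← Nat.mul_div_cancel' (even_iff_two_dvd.1 (even_bsize i)), mul_assoc] at hf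
    omega] at hp
  rcases Forms.classify_even Q hQ hd hab with ⟨e, he⟩ | ⟨-, e, he⟩
  · refine iff_of_true ?_ ?_
    · have := (half_range (Q := Q) e.toLinearMap e.injective (fun w => he w) ⊤).2 (half_qfPlus h)
      rwa [Submodule.map_top, LinearEquiv.range] at this
    · have h1 := ht1 ⟨e.trans Submodule.topEquiv.symm, fun v => he v⟩
      rw [hp] at h1
      exact (neg_one_pow_eq_one_iff_even (neg_one_ne_one_zmod hr2)).1 h1
  · refine iff_of_false ?_ ?_
    · intro hH
      refine not_half_qfMinus hab (h - 1) ((half_range (Q := Q) e.toLinearMap e.injective (fun w => he w) ⊤).1 ?_)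
      rwa [Submodule.map_top, LinearEquiv.range]
    · intro hev
      have h1 := ht2 ⟨e.trans Submodule.topEquiv.symm, fun v => he v⟩
      rw [hp, hev.neg_one_pow] at h1
      exact neg_one_ne_one_zmod hr2 h1.symm

theorem has_top_even (hQ : Q.polarBilin.Nondegenerate) {h : ℕ} (hd : finrank F V = 2 * h) :
    (Half Q (⊤ : Submodule F V) → ∀ B, Has r i Q (⊤ : Submodule F V) B ↔ B ≤ capP i (2 * h)) ∧
      (¬ Half Q (⊤ : Submodule F V) → 0 < h ∧ ∀ B, Has r i Q (⊤ : Submodule F V) B ↔ B ≤ capM i (2 * h)) := by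
  classical
  obtain ⟨ζ, -, hab⟩ := Forms.exists_no_root (F := F)
  have hc : bsize i = 2 * (bsize i / 2) := (Nat.mul_div_cancel' (even_iff_two_dvd.1 (even_bsize i))).symm
  have hle : ∀ B, Has r i Q (⊤ : Submodule F V) B → bsize i * B ≤ 2 * h := fun B hB => by
    obtain ⟨U, -, hUd, -⟩ := hB
    rw [← hUd, ← hd]; exact Submodule.finrank_le U
  have hlt : ∀ B, 0 < B → 0 < bsize i / 2 * B := fun B hB => Nat.mul_pos (by
    have := bsize_pos hi0; omega) hB
  rcases Forms.classify_even Q hQ hd hab with ⟨e, he⟩ | ⟨h1, e, he⟩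
  · have hH : Half Q (⊤ : Submodule F V) := by
      have := (half_range (Q := Q) e.toLinearMap e.injective (fun w => he w) ⊤).2 (half_qfPlus h)
      rwa [Submodule.map_top, LinearEquiv.range] at this
    refine ⟨fun _ B => ?_, fun hn => absurd hH hn⟩
    rw [le_capP hi0]
    constructor
    · intro hB
      rcases (hle B hB).eq_or_lt with heq | hlt'
      · rcases Nat.eq_zero_or_pos h with rfl | hh
        · refine Or.inr ⟨heq, ?_⟩
          rcases mul_eq_zero.1 (heq.trans (mul_zero 2)) with h0 | h0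
          · exact absurd h0 (bsize_pos hi0).ne'
          · simp [h0]
        · exact Or.inr ⟨heq, (type_of_full hrF hi hi0 hr2 hQ hd hh hB heq).1 hH⟩
      · exact Or.inl hlt'
    · intro hB
      rcases Nat.eq_zero_or_pos B with rfl | hB0
      · exact has_zero hi hi0 hr2
      have hsz : bsize i / 2 * B ≤ h ∧ (Odd ((i + 1) * B) → bsize i / 2 * B < h) := by
        rw [hc, mul_assoc] at hB
        rcases hB with hB | ⟨hB, hev⟩
        · exact ⟨by omega, fun _ => by omega⟩
        · exact ⟨by omega, fun ho => absurd hev (Nat.not_even_iff_odd.2 ho)⟩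
      have heV : Emb (Forms.qfPlus h F) Q := ⟨e.toLinearMap, he⟩
      obtain ⟨hs1, hs2⟩ := exists_std hi hi0 hr2 hB0 hab
      rcases Nat.even_or_odd ((i + 1) * B) with hev | hod
      · obtain ⟨g, hiso, hg, hfree⟩ := hs1 hev
        refine has_of_emb hrF hi hi0 hr2 (Forms.qfPlus_nondegenerate _) ?_ g hiso hg hfree
          ((emb_plus_plus hsz.1).trans heV)
        simp; conv_rhs => rw [hc, mul_assoc, two_mul]
      · obtain ⟨g, hiso, hg, hfree⟩ := hs2 hod
        have := hlt B hB0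
        have := hsz.2 hod
        refine has_of_emb hrF hi hi0 hr2 (Forms.qfMinus_nondegenerate (Forms.disc_ne_zero_of_anisotropic hab) _) ?_
          g hiso hg hfree (((emb_minus_plus _ _ _).trans (emb_plus_plus (by omega))).trans heV)
        have hcB : bsize i * B = 2 * (bsize i / 2 * B) := by rw [← mul_assoc, ← hc]
        simp; omega
  · have hH : ¬ Half Q (⊤ : Submodule F V) := fun hH => by
      refine not_half_qfMinus hab (h - 1) ((half_range (Q := Q) e.toLinearMap e.injective (fun w => he w) ⊤).1 ?_)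
      rwa [Submodule.map_top, LinearEquiv.range]
    refine ⟨fun h' => absurd h' hH, fun _ => ⟨h1, fun B => ?_⟩⟩
    rw [le_capM hi0 (by omega)]
    constructor
    · intro hB
      rcases (hle B hB).eq_or_lt with heq | hlt'
      · exact Or.inr ⟨heq, Nat.not_even_iff_odd.1 fun hev =>
          hH ((type_of_full hrF hi hi0 hr2 hQ hd h1 hB heq).2 hev)⟩
      · exact Or.inl hlt'
    · intro hB
      rcases Nat.eq_zero_or_pos B with rfl | hB0
      · exact has_zero hi hi0 hr2
      have hsz : bsize i / 2 * B ≤ h ∧ (Even ((i + 1) * B) → bsize i / 2 * B < h) := by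
        rw [hc, mul_assoc] at hB
        rcases hB with hB | ⟨hB, hev⟩
        · exact ⟨by omega, fun _ => by omega⟩
        · exact ⟨by omega, fun ho => absurd ho (Nat.not_even_iff_odd.2 hev)⟩
      have heV : Emb (Forms.qfMinus (h - 1) F 1 ζ) Q := ⟨e.toLinearMap, he⟩
      obtain ⟨hs1, hs2⟩ := exists_std hi hi0 hr2 hB0 hab
      rcases Nat.even_or_odd ((i + 1) * B) with hev | hod
      · obtain ⟨g, hiso, hg, hfree⟩ := hs1 hev
        have := hsz.2 hev
        refine has_of_emb hrF hi hi0 hr2 (Forms.qfPlus_nondegenerate _) ?_ g hiso hg hfree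
          (((emb_plus_minus _ 1 ζ).trans (emb_minus_minus (by omega) 1 ζ)).trans heV)
        simp; conv_rhs => rw [hc, mul_assoc, two_mul]
      · obtain ⟨g, hiso, hg, hfree⟩ := hs2 hod
        have := hlt B hB0
        refine has_of_emb hrF hi hi0 hr2 (Forms.qfMinus_nondegenerate (Forms.disc_ne_zero_of_anisotropic hab) _) ?_
          g hiso hg hfree ((emb_minus_minus (by omega) 1 ζ).trans heV)
        have hcB : bsize i * B = 2 * (bsize i / 2 * B) := by rw [← mul_assoc, ← hc]
        simp; omega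

theorem has_top_odd (hQ : Q.polarBilin.Nondegenerate) {h : ℕ} (hd : finrank F V = 2 * h + 1) :
    ∀ B, Has r i Q (⊤ : Submodule F V) B ↔ B ≤ (2 * h + 1) / bsize i := by
  classical
  obtain ⟨ζ, -, hab⟩ := Forms.exists_no_root (F := F)
  have hc : bsize i = 2 * (bsize i / 2) := (Nat.mul_div_cancel' (even_iff_two_dvd.1 (even_bsize i))).symm
  intro B
  rw [Nat.le_div_iff_mul_le (bsize_pos hi0), mul_comm]
  constructor
  · rintro ⟨U, -, hUd, -⟩
    rw [← hUd, ← hd]; exact Submodule.finrank_le U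
  intro hB
  rcases Nat.eq_zero_or_pos B with rfl | hB0
  · exact has_zero hi hi0 hr2
  rw [hc, mul_assoc] at hB
  rcases Forms.classify Q hQ with ⟨m, e, -⟩ | ⟨m, a, b, e, -, -⟩ | ⟨m, γ, e, hγ, h2, he⟩
  · have := e.finrank_eq; simp [hd] at this; omega
  · have := e.finrank_eq; simp [hd] at this; omega
  obtain rfl : h = m := by have := e.finrank_eq; simp [hd] at this; omega
  -- scaled standard blocks
  have hsc : ∀ d, Emb (Forms.qfPlus d F) (γ • Forms.qfPlus d F) := fun d =>
    ⟨LinearMap.pi (Sum.elim (fun k => γ⁻¹ • (LinearMap.proj (Sum.inl k) : (Fin d ⊕ Fin d → F) →ₗ[F] F))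
      (fun k => (LinearMap.proj (Sum.inr k) : (Fin d ⊕ Fin d → F) →ₗ[F] F))), fun v => by
      simp [Forms.qfPlus_apply, Cfsg.quadFormPlus, Finset.mul_sum, ← mul_assoc, mul_inv_cancel₀ hγ]⟩
  have hscm : ∀ n, Emb (Forms.qfMinus n F 1 ζ) (γ • Forms.qfMinus n F 1 ζ) := fun n => by
    have hnd := (Forms.nondegenerate_polarBilin_iff _).1
      (Forms.qfMinus_nondegenerate (Forms.disc_ne_zero_of_anisotropic hab) n)
    have hR : (γ • Forms.qfMinus n F 1 ζ).polarBilin.Nondegenerate :=
      (Forms.nondegenerate_polarBilin_iff _).2 fun x hx => hnd x fun y => by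
        have := hx y
        simpa [QuadraticMap.polar, ← mul_sub, hγ] using this
    rcases Forms.classify_even (γ • Forms.qfMinus n F 1 ζ) hR (m := n + 1) (by simp; omega) hab with
      ⟨e, he⟩ | ⟨-, e, he⟩
    · exfalso
      obtain ⟨U, -, hUs, hUd⟩ := half_qfPlus (F := F) (n + 1)
      refine not_half_qfMinus hab n ⟨U.map e.toLinearMap, le_top, ?_, ?_⟩
      · rintro _ ⟨u, hu, rfl⟩
        have := (he u).trans (hUs u hu)
        simpa [hγ] using this
      · rw [LinearEquiv.finrank_map_eq, hUd, finrank_top, finrank_top, e.finrank_eq]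
    · exact ⟨e.toLinearMap, he⟩
  have hodd : ∀ {W : Type} [AddCommGroup W] [Module F W] (R : QuadraticForm F W), Emb R (Forms.qfOdd h F) →
      Emb (γ • R) Q := fun R ⟨j, hj⟩ => ⟨e.toLinearMap.comp j, fun v => by
    rw [LinearMap.comp_apply, LinearEquiv.coe_coe, he, hj]; rfl⟩
  obtain ⟨hs1, hs2⟩ := exists_std hi hi0 hr2 hB0 hab
  rcases Nat.even_or_odd ((i + 1) * B) with hev | hod
  · obtain ⟨g, hiso, hg, hfree⟩ := hs1 hev
    obtain ⟨j, hj⟩ := (emb_plus_plus (F := F) (show bsize i / 2 * B ≤ h by omega)).trans (emb_plus_odd h)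
    obtain ⟨k, hk⟩ := hsc (bsize i / 2 * B)
    refine has_of_emb hrF hi hi0 hr2 (Forms.qfPlus_nondegenerate _) ?_ g hiso hg hfree
      ⟨(e.toLinearMap.comp j).comp k, fun v => by
        rw [LinearMap.comp_apply, LinearMap.comp_apply, LinearEquiv.coe_coe, he, hj]; exact hk v⟩
    simp; conv_rhs => rw [hc, mul_assoc, two_mul]
  · obtain ⟨g, hiso, hg, hfree⟩ := hs2 hod
    have hpos : 0 < bsize i / 2 * B := Nat.mul_pos (by have := bsize_pos hi0; omega) hB0
    obtain ⟨h', rfl⟩ : ∃ h', h = h' + 1 := ⟨h - 1, by omega⟩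
    obtain ⟨j, hj⟩ := (emb_minus_minus (F := F) (show bsize i / 2 * B - 1 ≤ h' by omega) 1 ζ).trans
      (emb_minus_odd h2 h' 1 ζ)
    obtain ⟨k, hk⟩ := hscm (bsize i / 2 * B - 1)
    refine has_of_emb hrF hi hi0 hr2 (Forms.qfMinus_nondegenerate (Forms.disc_ne_zero_of_anisotropic hab) _) ?_
      g hiso hg hfree ⟨(e.toLinearMap.comp j).comp k, fun v => by
        rw [LinearMap.comp_apply, LinearMap.comp_apply, LinearEquiv.coe_coe, he, hj]; exact hk v⟩
    have hcB : bsize i * B = 2 * (bsize i / 2 * B) := by rw [← mul_assoc, ← hc]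
    simp; omega

theorem has_half {W : Submodule F V} (hW : NDeg Q W) {h : ℕ} (hd : finrank F W = 2 * h) (hh : Half Q W) (B : ℕ) :
    Has r i Q W B ↔ B ≤ capP i (2 * h) := by
  rw [has_comp]
  exact (has_top_even hrF hi hi0 hr2 hW.comp hd).1 (half_comp.1 hh) B

theorem has_not_half {W : Submodule F V} (hW : NDeg Q W) {h : ℕ} (hd : finrank F W = 2 * h) (hh : ¬ Half Q W) (B : ℕ) :
    Has r i Q W B ↔ B ≤ capM i (2 * h) := by
  rw [has_comp]
  exact ((has_top_even hrF hi hi0 hr2 hW.comp hd).2 fun h' => hh (half_comp.2 h')).2 B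

theorem has_odd {W : Submodule F V} (hW : NDeg Q W) {h : ℕ} (hd : finrank F W = 2 * h + 1) (B : ℕ) :
    Has r i Q W B ↔ B ≤ (2 * h + 1) / bsize i := by
  rw [has_comp]
  exact has_top_odd hrF hi hi0 hr2 hW.comp hd B

end Cfsg.Agent.OrthPrime
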