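import Cfsg.Agent.EqLemmas
import Cfsg.Agent.Lib.OrthPrime.Eval

/-!
# Arithmetic of block counts
-/

set_option autoImplicit false

namespace Cfsg.Agent.OrthPrime

theorem decomp {i : ℕ} (hi : 0 < i) (n : ℕ) :
    ∃ a k, n = bsize i * a + k ∧ k < bsize i ∧ n / bsize i = a ∧ n % bsize i = k :=
  ⟨n / bsize i, n % bsize i, (Nat.div_add_mod n _).symm, Nat.mod_lt _ (bsize_pos hi), rfl, rfl⟩

theorem add_dvd_iff {i a k : ℕ} (hk : k < bsize i) : bsize i ∣ bsize i * a + k ↔ k = 0 := by
  rw [Nat.dvd_add_right (dvd_mul_right _ _)]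
  exact ⟨fun h => Nat.eq_zero_of_dvd_of_lt h hk, fun h => h ▸ dvd_zero _⟩

theorem add_div {i a k : ℕ} (hk : k < bsize i) : (bsize i * a + k) / bsize i = a := by
  rw [Nat.mul_add_div (by omega), Nat.div_eq_of_lt hk, add_zero]

theorem capP_add {i a k : ℕ} (hk : k < bsize i) :
    capP i (bsize i * a + k) = if k = 0 ∧ i % 2 = 0 ∧ a % 2 = 1 then a - 1 else a := by
  have hio : Odd ((i + 1) * a) ↔ i % 2 = 0 ∧ a % 2 = 1 := by
    rw [Nat.odd_mul, Nat.odd_iff, Nat.odd_iff]; omega
  simp only [capP, add_dvd_iff hk, add_div hk, hio]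

theorem capM_add {i a k : ℕ} (hk : k < bsize i) :
    capM i (bsize i * a + k) = if k = 0 ∧ (i % 2 = 1 ∨ a % 2 = 0) then a - 1 else a := by
  have hio : Even ((i + 1) * a) ↔ (i % 2 = 1 ∨ a % 2 = 0) := by
    rw [Nat.even_mul, Nat.even_iff, Nat.even_iff]; omega
  simp only [capM, add_dvd_iff hk, add_div hk, hio]

/-- The two ways to split `n = a c + k` at `m = b c + l`. -/
theorem decomp_sub {i a b k l : ℕ} (hk : k < bsize i) (hl : l < bsize i)
    (h : bsize i * b + l ≤ bsize i * a + k) :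
    ∃ a' k', bsize i * a + k - (bsize i * b + l) = bsize i * a' + k' ∧ k' < bsize i ∧ b ≤ a ∧
      ((l ≤ k ∧ a' + b = a ∧ k' + l = k) ∨ (k < l ∧ a' + b + 1 = a ∧ k' + l = bsize i + k)) := by
  have hba : b ≤ a := by
    by_contra hba
    have := Nat.mul_le_mul_left (bsize i) (show a + 1 ≤ b by omega)
    rw [Nat.mul_add, Nat.mul_one] at this
    omega
  rcases Nat.lt_or_ge k l with hkl | hkl
  · have hlt : b < a := by
      refine lt_of_le_of_ne hba fun he => ?_
      subst he; omega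
    refine ⟨a - b - 1, bsize i + k - l, ?_, by omega, hba, Or.inr ⟨hkl, by omega, by omega⟩⟩
    have : bsize i * a = bsize i * b + bsize i * (a - b - 1) + bsize i := by
      conv_lhs => rw [show a = b + (a - b - 1) + 1 by omega]
      rw [Nat.mul_add, Nat.mul_add, Nat.mul_one]
    omega
  · refine ⟨a - b, k - l, ?_, by omega, hba, Or.inl ⟨hkl, by omega, by omega⟩⟩
    have : bsize i * a = bsize i * b + bsize i * (a - b) := by rw [← Nat.mul_add]; congr 1; omega
    omega

theorem le_iff_pos {i b l : ℕ} (hl : l < bsize i) : bsize i ≤ bsize i * b + l ↔ 0 < b := by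
  constructor
  · intro h
    rcases Nat.eq_zero_or_pos b with rfl | hb
    · omega
    · exact hb
  · intro hb
    have := Nat.le_mul_of_pos_right (bsize i) hb
    omega

end Cfsg.Agent.OrthPrime
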