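import Cfsg.Agent.EqLemmas
import Cfsg.Agent.Lib.OrthPrime.Eval
import Cfsg.Agent.Lib.Forms.Count
import Mathlib.NumberTheory.Padics.PadicVal.Basic

/-!
# The `r`-part of orthogonal groups and orbits of non-degenerate subspaces

* `val_card` : the `r`-valuation of `|O(V)|` depends only on the number of blocks
* `cap_lt_of_dvd` : `r ∣ |O(V) : Stab W|` forces a loss of blocks in `W⊥` and in `W`
-/

set_option autoImplicit false

namespace Cfsg.Agent.OrthPrime

open Module Cfsg.Agent.Forms

variable {F : Type*} [Field F] {V : Type*} [AddCommGroup V] [Module F V]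

section
variable [Fintype F] {r i : ℕ} [hr : Fact r.Prime] (hrF : (r : F) ≠ 0)
  (hi : ∀ k : ℕ, (Fintype.card F : ZMod r) ^ k = 1 ↔ i ∣ k) (hi0 : 0 < i) (hr2 : r ≠ 2)

/-- The valuation of `∏_{j ≤ m} (q ^ 2j - 1)`. -/
noncomputable def vprod (F : Type*) [Fintype F] (r m : ℕ) : ℕ :=
  padicValNat r (∏ j ∈ Finset.range m, (Nat.card F ^ (2 * (j + 1)) - 1))

omit hr in
theorem pow_sub_one_ne {k : ℕ} (hk : 0 < k) : Nat.card F ^ k - 1 ≠ 0 := by
  have h : 2 ≤ Nat.card F ^ k := (show 2 ≤ Nat.card F by rw [Nat.card_eq_fintype_card]; exact Fintype.one_lt_card).trans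
    (Nat.le_self_pow hk.ne' _)
  omega

theorem prod_ne (m : ℕ) : (∏ j ∈ Finset.range m, (Nat.card F ^ (2 * (j + 1)) - 1)) ≠ 0 :=
  Finset.prod_ne_zero_iff.2 fun j _ => pow_sub_one_ne (by omega)

theorem vprod_succ (m : ℕ) :
    vprod F r (m + 1) = vprod F r m + padicValNat r (Nat.card F ^ (2 * (m + 1)) - 1) := by
  unfold vprod
  rw [Finset.prod_range_succ, padicValNat.mul (prod_ne m) (pow_sub_one_ne (by omega))]

include hi hi0

theorem dvd_pow_sub_one {k : ℕ} : r ∣ Nat.card F ^ k - 1 ↔ i ∣ k := by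
  rw [Nat.card_eq_fintype_card, ← ZMod.natCast_eq_zero_iff, Nat.cast_sub (Nat.one_le_pow _ _ Fintype.card_pos),
    sub_eq_zero, Nat.cast_pow, Nat.cast_one, hi]

theorem dvd_two_mul_iff (k : ℕ) : i ∣ 2 * k ↔ bsize i / 2 ∣ k := by
  unfold bsize
  split_ifs with h
  · obtain ⟨j, rfl⟩ := h
    rw [show (j + j) / 2 = j by omega, ← two_mul, Nat.mul_dvd_mul_iff_left two_pos]
  · rw [show 2 * i / 2 = i by omega]
    exact (Nat.coprime_two_right.2 (Nat.not_even_iff_odd.1 h)).dvd_mul_left

theorem vprod_eq (m : ℕ) : vprod F r m = vprod F r (m / (bsize i / 2) * (bsize i / 2)) := by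
  induction m with
  | zero => simp
  | succ m ih =>
    by_cases h : bsize i / 2 ∣ m + 1
    · rw [Nat.div_mul_cancel h]
    · rw [Nat.succ_div, if_neg h, add_zero, vprod_succ, ← ih,
        padicValNat.eq_zero_of_not_dvd (fun hd => h ((dvd_two_mul_iff hi hi0 _).1 ((dvd_pow_sub_one hi hi0).1 hd))),
        add_zero]

theorem vprod_congr {m m' : ℕ} (h : m / (bsize i / 2) = m' / (bsize i / 2)) : vprod F r m = vprod F r m' := by
  rw [vprod_eq hi hi0 m, h, ← vprod_eq hi hi0 m']

end

variable [Fintype F] [FiniteDimensional F V] {r i : ℕ} [hr : Fact r.Prime] (hrF : (r : F) ≠ 0)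
  (hi : ∀ k : ℕ, (Fintype.card F : ZMod r) ^ k = 1 ↔ i ∣ k) (hi0 : 0 < i) (hr2 : r ≠ 2)
  {Q : QuadraticForm F V}
include hrF hi hi0 hr2

omit hi hi0 in
theorem not_dvd_unit (N : ℕ) : ¬ r ∣ 2 * Nat.card F ^ N := by
  intro h
  rcases (Nat.Prime.dvd_mul hr.out).1 h with h | h
  · exact hr2 ((Nat.prime_dvd_prime_iff_eq hr.out Nat.prime_two).1 h)
  · have h' := hr.out.dvd_of_dvd_pow h
    rw [Nat.card_eq_fintype_card] at h'
    obtain ⟨c, hc⟩ := h'
    have h0 : ((Fintype.card F : ℕ) : F) = 0 := FiniteField.cast_card_eq_zero F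
    rw [hc, Nat.cast_mul, mul_eq_zero] at h0
    rcases h0 with h0 | h0
    · exact hrF h0
    · obtain ⟨p, hp⟩ := CharP.exists F
      obtain ⟨s, hpp, hs⟩ := FiniteField.card F p
      have h1 : p ∣ c := (CharP.cast_eq_zero_iff F p c).1 h0
      have h2 : r ∣ Fintype.card F := ⟨c, hc⟩
      rw [hs] at h2
      have h3 := (Nat.prime_dvd_prime_iff_eq hr.out hpp).1 (hr.out.dvd_of_dvd_pow h2)
      exact hrF (by rw [h3]; exact CharP.cast_eq_zero F p)

/-- The valuation of the order of the orthogonal group. -/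
theorem val_card (hQ : Q.polarBilin.Nondegenerate) {M : ℕ}
    (hM : ∀ B, Has r i Q (⊤ : Submodule F V) B ↔ B ≤ M) :
    padicValNat r (Nat.card (preservingFun (F := F) (⇑Q))) = vprod F r (M * (bsize i / 2)) := by
  classical
  have hc2 : bsize i = 2 * (bsize i / 2) := (Nat.mul_div_cancel' (even_iff_two_dvd.1 (even_bsize i))).symm
  have hd0 : 0 < bsize i / 2 := by have := bsize_pos hi0; omega
  have hM' : ∀ {N : ℕ}, (∀ B, Has r i Q (⊤ : Submodule F V) B ↔ B ≤ N) → M = N := fun h =>
    le_antisymm ((h M).1 ((hM M).2 le_rfl)) ((hM _).1 ((h _).2 le_rfl))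
  rcases classify Q hQ with ⟨m, e, he⟩ | ⟨m, a, b, e, hab, he⟩ | ⟨m, γ, e, hγ, h2, he⟩
  · have hd : finrank F V = 2 * m := by rw [← e.finrank_eq]; simp [two_mul]
    have hH : Half Q (⊤ : Submodule F V) := by
      have := (half_range (Q := Q) e.toLinearMap e.injective (fun w => he w) ⊤).2 (half_qfPlus m)
      rwa [Submodule.map_top, LinearEquiv.range] at this
    rw [hM' ((has_top_even hrF hi hi0 hr2 hQ hd).1 hH),
      ← Nat.card_congr (preservingFunCongr _ _ e 1 one_ne_zero fun v => by rw [he, one_mul]).toEquiv]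
    rcases m with _ | n
    · have h1 : Nat.card (preservingFun (F := F) (⇑(qfPlus 0 F))) = 1 := by
        rw [Nat.card_eq_one_iff_unique]
        exact ⟨⟨fun g g' => Subtype.ext (LinearEquiv.ext fun v => Subsingleton.elim _ _)⟩, One.instNonempty⟩
      have h0 : capP i (2 * 0) = 0 := by simp [capP]
      rw [h1, h0]
      simp [vprod]
    · rw [card_preservingFun_qfPlus, padicValNat.mul (mul_ne_zero (mul_ne_zero two_ne_zero
          (pow_ne_zero _ Nat.card_pos.ne')) (pow_sub_one_ne (by omega))) (prod_ne n),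
        padicValNat.mul (mul_ne_zero two_ne_zero (pow_ne_zero _ Nat.card_pos.ne')) (pow_sub_one_ne (by omega)),
        padicValNat.eq_zero_of_not_dvd (not_dvd_unit hrF hr2 _), zero_add]
      show padicValNat r _ + vprod F r n = _
      by_cases hin : i ∣ n + 1
      · -- then `q ^ (n+1) + 1` is prime to `r`
        have h3 : vprod F r (n + 1) = padicValNat r (Nat.card F ^ (n + 1) - 1) + vprod F r n := by
          rw [vprod_succ, add_comm]
          congr 1
          have h1 : 1 ≤ Nat.card F ^ (n + 1) := Nat.one_le_pow _ _ Nat.card_pos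
          rw [show Nat.card F ^ (2 * (n + 1)) - 1 = (Nat.card F ^ (n + 1) - 1) * (Nat.card F ^ (n + 1) + 1) by
            rw [mul_comm _ (Nat.card F ^ (n + 1) + 1), ← Nat.sq_sub_sq, ← pow_mul, one_pow, mul_comm]]
          rw [padicValNat.mul (pow_sub_one_ne (by omega)) (by omega), padicValNat.eq_zero_of_not_dvd (n := _ + 1) ?_,
            add_zero]
          intro hd'
          have h4 := (dvd_pow_sub_one hi hi0).2 hin
          have h5 : r ∣ (Nat.card F ^ (n + 1) + 1) - (Nat.card F ^ (n + 1) - 1) := Nat.dvd_sub hd' h4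
          rw [show Nat.card F ^ (n + 1) + 1 - (Nat.card F ^ (n + 1) - 1) = 2 by omega] at h5
          exact hr2 ((Nat.prime_dvd_prime_iff_eq hr.out Nat.prime_two).1 h5)
        rw [← h3]
        refine vprod_congr hi hi0 ?_
        rw [Nat.mul_div_cancel _ hd0]
        have hdd : bsize i / 2 ∣ n + 1 := (dvd_two_mul_iff hi hi0 _).1 (dvd_mul_of_dvd_right hin 2)
        have hc' : bsize i ∣ 2 * (n + 1) := bsize_dvd (dvd_mul_of_dvd_right hin 2) (even_two_mul _)
        have he' : Even ((i + 1) * (2 * (n + 1) / bsize i)) := by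
          rcases Nat.even_or_odd i with hev | hod
          · obtain ⟨s, hs⟩ := hin
            rw [show bsize i = i from if_pos hev, hs, ← mul_left_comm, Nat.mul_div_cancel_left _ hi0]
            exact (even_two_mul s).mul_left _
          · exact hod.add_one.mul_right _
        rw [capP, if_neg (fun h => Nat.not_even_iff_odd.2 h.2 he'), hc2, Nat.mul_div_mul_left _ _ two_pos, ← hc2]
      · rw [padicValNat.eq_zero_of_not_dvd (fun hd' => hin ((dvd_pow_sub_one hi hi0).1 hd')), zero_add]
        refine vprod_congr hi hi0 ?_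
        rw [Nat.mul_div_cancel _ hd0, capP]
        have h6 : 2 * (n + 1) / bsize i = (n + 1) / (bsize i / 2) := by
          rw [hc2, Nat.mul_div_mul_left _ _ two_pos, ← hc2]
        rw [h6, Nat.succ_div]
        have h7 : bsize i ∣ 2 * (n + 1) ↔ bsize i / 2 ∣ n + 1 := by
          conv_lhs => rw [hc2, Nat.mul_dvd_mul_iff_left two_pos]
        by_cases hdd : bsize i / 2 ∣ n + 1
        · have ho : Odd ((i + 1) * (2 * (n + 1) / bsize i)) := by
            refine Nat.not_even_iff_odd.1 fun hev => hin ?_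
            rw [h6] at hev
            have hp := pow_half_bsize hi hi0 hr2 ((n + 1) / (bsize i / 2))
            rw [Nat.mul_div_cancel' hdd, hev.neg_one_pow] at hp
            exact (hi _).1 hp
          rw [h6, Nat.succ_div] at ho
          rw [if_pos hdd] at ho ⊢
          rw [if_pos ⟨h7.2 hdd, ho⟩, Nat.add_sub_cancel]
        · rw [if_neg hdd, add_zero, if_neg (fun h => hdd (h7.1 h.1))]
  · have hd : finrank F V = 2 * (m + 1) := by rw [← e.finrank_eq]; simp; omega
    have hH : ¬ Half Q (⊤ : Submodule F V) := fun hH => by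
      refine not_half_qfMinus hab m ((half_range (Q := Q) e.toLinearMap e.injective (fun w => he w) ⊤).1 ?_)
      rwa [Submodule.map_top, LinearEquiv.range]
    rw [hM' ((has_top_even hrF hi hi0 hr2 hQ hd).2 hH).2,
      ← Nat.card_congr (preservingFunCongr _ _ e 1 one_ne_zero fun v => by rw [he, one_mul]).toEquiv,
      card_preservingFun_qfMinus hab, padicValNat.mul (mul_ne_zero (mul_ne_zero two_ne_zero
          (pow_ne_zero _ Nat.card_pos.ne')) (by omega)) (prod_ne m),
      padicValNat.mul (mul_ne_zero two_ne_zero (pow_ne_zero _ Nat.card_pos.ne')) (by omega),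
      padicValNat.eq_zero_of_not_dvd (not_dvd_unit hrF hr2 _), zero_add]
    show padicValNat r _ + vprod F r m = _
    have h7 : bsize i ∣ 2 * (m + 1) ↔ bsize i / 2 ∣ m + 1 := by
      conv_lhs => rw [hc2, Nat.mul_dvd_mul_iff_left two_pos]
    have h6 : 2 * (m + 1) / bsize i = (m + 1) / (bsize i / 2) := by
      rw [hc2, Nat.mul_div_mul_left _ _ two_pos, ← hc2]
    have h1 : 1 ≤ Nat.card F ^ (m + 1) := Nat.one_le_pow _ _ Nat.card_pos
    by_cases hin : (Fintype.card F : ZMod r) ^ (m + 1) = -1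
    · have h3 : vprod F r (m + 1) = padicValNat r (Nat.card F ^ (m + 1) + 1) + vprod F r m := by
        rw [vprod_succ, add_comm]
        congr 1
        rw [show Nat.card F ^ (2 * (m + 1)) - 1 = (Nat.card F ^ (m + 1) + 1) * (Nat.card F ^ (m + 1) - 1) by
          rw [← Nat.sq_sub_sq, ← pow_mul, one_pow, mul_comm]]
        rw [padicValNat.mul (by omega) (pow_sub_one_ne (by omega)), padicValNat.eq_zero_of_not_dvd (n := _ - 1) ?_,
          add_zero]
        intro hd'
        exact neg_one_ne_one_zmod hr2 (hin.symm.trans ((hi _).2 ((dvd_pow_sub_one hi hi0).1 hd')))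
      rw [← h3]
      refine vprod_congr hi hi0 ?_
      rw [Nat.mul_div_cancel _ hd0, capM, h6]
      rw [if_neg]
      rintro ⟨hc', hev⟩
      have hp := pow_half_bsize hi hi0 hr2 ((m + 1) / (bsize i / 2))
      rw [Nat.mul_div_cancel' (h7.1 hc'), hev.neg_one_pow, hin] at hp
      exact neg_one_ne_one_zmod hr2 hp
    · rw [padicValNat.eq_zero_of_not_dvd (fun hd' => hin (eq_neg_of_add_eq_zero_left (by
        rw [← ZMod.natCast_eq_zero_iff, Nat.card_eq_fintype_card] at hd'
        exact_mod_cast hd'))), zero_add]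
      refine vprod_congr hi hi0 ?_
      rw [Nat.mul_div_cancel _ hd0, capM, h6, Nat.succ_div]
      by_cases hdd : bsize i / 2 ∣ m + 1
      · have hev : Even ((i + 1) * ((m + 1) / (bsize i / 2))) := by
          refine Nat.not_odd_iff_even.1 fun ho => hin ?_
          rw [← Nat.mul_div_cancel' hdd, pow_half_bsize hi hi0 hr2, ho.neg_one_pow]
        rw [Nat.succ_div, if_pos hdd] at hev
        rw [if_pos hdd, if_pos ⟨h7.2 hdd, hev⟩, Nat.add_sub_cancel]
      · rw [if_neg hdd, add_zero, if_neg (fun h => hdd (h7.1 h.1))]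
  · have hd : finrank F V = 2 * m + 1 := by rw [← e.finrank_eq]; simp; omega
    rw [hM' (has_top_odd hrF hi hi0 hr2 hQ hd),
      ← Nat.card_congr (preservingFunCongr (⇑(qfOdd m F)) _ e γ hγ he).toEquiv, card_preservingFun_qfOdd h2,
      padicValNat.mul (mul_ne_zero two_ne_zero (pow_ne_zero _ Nat.card_pos.ne')) (prod_ne m),
      padicValNat.eq_zero_of_not_dvd (not_dvd_unit hrF hr2 _), zero_add]
    show vprod F r m = _
    refine vprod_congr hi hi0 ?_
    rw [Nat.mul_div_cancel _ hd0]
    conv_rhs => rw [hc2, ← Nat.div_div_eq_div_mul, show (2 * m + 1) / 2 = m by omega]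

omit hrF hi hi0 hr2 in
/-- Orbit of a non-degenerate subspace. -/
theorem card_orbit_mul_dvd (hQ : Q.polarBilin.Nondegenerate) (P : Submodule F V → Prop)
    (hPk : ∀ W, P W → ∀ k : V ≃ₗ[F] V, (∀ v, Q (k v) = Q v) → P (W.map k.toLinearMap))
    {W : Submodule F V} (hW : P W) (hn : NDeg Q W)
    (htr : ∀ W', P W' → ∃ e : W ≃ₗ[F] W', ∀ x : W, Q (e x : V) = Q (x : V)) :
    Nat.card {W' // P W'} * Nat.card (preservingFun (F := F) (⇑(Q.comp (perp Q W).subtype))) ∣
      Nat.card (preservingFun (F := F) (⇑Q)) := by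
  classical
  haveI : Finite V := Module.finite_of_finite F
  haveI : Finite (V ≃ₗ[F] V) := Finite.of_injective _ DFunLike.coe_injective
  let G := preservingFun (F := F) (⇑Q)
  let St : Subgroup G :=
    { carrier := {g | W.map g.1.toLinearMap = W}
      one_mem' := by
        show W.map _ = W
        exact Submodule.map_id W
      mul_mem' := fun {a b} ha hb => by
        show W.map (a.1 * b.1).toLinearMap = W
        rw [show (a.1 * b.1).toLinearMap = a.1.toLinearMap.comp b.1.toLinearMap from rfl, Submodule.map_comp,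
          show W.map b.1.toLinearMap = W from hb]
        exact ha
      inv_mem' := fun {a} ha => by
        show W.map (a⁻¹).1.toLinearMap = W
        conv_lhs => rw [← (show W.map a.1.toLinearMap = W from ha), ← Submodule.map_comp]
        rw [show (a⁻¹).1.toLinearMap.comp a.1.toLinearMap = LinearMap.id from
          LinearMap.ext fun v => a.1.symm_apply_apply v, Submodule.map_id] }
  have hs : ∀ W' : {W' // P W'}, ∃ g : G, W.map g.1.toLinearMap = W'.1 := by
    rintro ⟨W', hW'⟩
    obtain ⟨e, he⟩ := htr W' hW'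
    obtain ⟨k, hk, hkx⟩ := witt_quadratic Q hQ W W' e he
    refine ⟨⟨k, hk⟩, le_antisymm ?_ fun y hy => ?_⟩
    · rintro _ ⟨x, hx, rfl⟩
      show k x ∈ W'
      rw [hkx ⟨x, hx⟩]; exact (e ⟨x, hx⟩).2
    · exact ⟨(e.symm ⟨y, hy⟩ : W), (e.symm ⟨y, hy⟩).2, by
        show k _ = y
        rw [hkx, e.apply_symm_apply]⟩
  choose s hs using hs
  let f : G → {W' // P W'} := fun g => ⟨W.map g.1.toLinearMap, hPk W hW g.1 g.2⟩
  have hmul : ∀ a b : G, W.map (a * b).1.toLinearMap = (W.map b.1.toLinearMap).map a.1.toLinearMap := fun a b => by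
    rw [← Submodule.map_comp]; rfl
  let E : G ≃ {W' // P W'} × St :=
    { toFun := fun g => (f g, ⟨(s (f g))⁻¹ * g, by
        show W.map _ = W
        rw [hmul, show W.map g.1.toLinearMap = (f g).1 from rfl, ← hs (f g), ← hmul, inv_mul_cancel]
        exact Submodule.map_id W⟩)
      invFun := fun z => s z.1 * z.2.1
      left_inv := fun g => mul_inv_cancel_left _ _
      right_inv := fun z => by
        have h1 : f (s z.1 * z.2.1) = z.1 := Subtype.ext (by
          show W.map _ = _
          rw [hmul, show W.map z.2.1.1.toLinearMap = W from z.2.2, hs])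
        refine Prod.ext h1 (Subtype.ext ?_)
        show (s (f (s z.1 * z.2.1)))⁻¹ * (s z.1 * z.2.1) = z.2.1
        rw [h1, inv_mul_cancel_left] }
  rw [show Nat.card (preservingFun (F := F) (⇑Q)) = Nat.card {W' // P W'} * Nat.card St from
    (Nat.card_congr E).trans (Nat.card_prod _ _)]
  refine mul_dvd_mul_left _ ?_
  -- extend by the identity on `W`
  let hc := isCompl_perp hn
  let ext : (perp Q W ≃ₗ[F] perp Q W) → (V ≃ₗ[F] V) := fun g =>
    (Submodule.prodEquivOfIsCompl W (perp Q W) hc).symm.trans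
      (((LinearEquiv.refl F W).prodCongr g).trans (Submodule.prodEquivOfIsCompl W (perp Q W) hc))
  have hext : ∀ g (a : W) (b : perp Q W), ext g ((a : V) + b) = (a : V) + g b := fun g a b => by
    show (Submodule.prodEquivOfIsCompl W (perp Q W) hc) _ = _
    rw [show (a : V) + (b : V) = Submodule.prodEquivOfIsCompl W (perp Q W) hc (a, b) from rfl]
    simp
  have hdec : ∀ v : V, ∃ (a : W) (b : perp Q W), (a : V) + b = v := fun v => by
    obtain ⟨u, hu, w, hw, h⟩ := Submodule.mem_sup.1 (hc.sup_eq_top ▸ Submodule.mem_top : v ∈ W ⊔ perp Q W)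
    exact ⟨⟨u, hu⟩, ⟨w, hw⟩, h⟩
  have hiso : ∀ g ∈ preservingFun (F := F) (⇑(Q.comp (perp Q W).subtype)), ∀ v, Q (ext g v) = Q v := fun g hg v => by
    obtain ⟨a, b, rfl⟩ := hdec v
    rw [hext, QuadraticMap.map_add (⇑Q), QuadraticMap.map_add (⇑Q),
      show QuadraticMap.polar Q (a : V) (g b : V) = 0 from (g b).2 _ a.2,
      show QuadraticMap.polar Q (a : V) (b : V) = 0 from b.2 _ a.2, show Q (g b : V) = Q (b : V) from hg b]
  have hfixW : ∀ g, W.map (ext g).toLinearMap = W := fun g => by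
    have h1 : ∀ x : W, ext g x = (x : V) := fun x => by simpa using hext g x 0
    refine le_antisymm ?_ fun x hx => ⟨x, hx, h1 ⟨x, hx⟩⟩
    rintro _ ⟨x, hx, rfl⟩
    show ext g x ∈ W
    rw [h1 ⟨x, hx⟩]; exact hx
  let φ : preservingFun (F := F) (⇑(Q.comp (perp Q W).subtype)) →* St := MonoidHom.mk'
    (fun g => ⟨⟨ext g.1, hiso g.1 g.2⟩, hfixW g.1⟩) fun g g' => Subtype.ext (Subtype.ext (LinearEquiv.ext fun v => by
      obtain ⟨a, b, rfl⟩ := hdec v
      show ext (g.1 * g'.1) _ = ext g.1 (ext g'.1 _)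
      rw [hext, hext, hext, LinearEquiv.mul_apply]))
  refine Subgroup.card_dvd_of_injective φ fun g g' h => Subtype.ext (LinearEquiv.ext fun b => Subtype.ext ?_)
  have h1 : ext g.1 (((0 : W) : V) + b) = ext g'.1 (((0 : W) : V) + b) :=
    congrArg (fun z : St => z.1.1 _) h
  rw [hext, hext] at h1
  exact add_left_cancel h1

/-- If `r` divides the length of the orbit of `W`, then `W⊥` has fewer blocks than the whole space. -/
theorem cap_lt_of_dvd (hQ : Q.polarBilin.Nondegenerate) (P : Submodule F V → Prop)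
    (hPk : ∀ W, P W → ∀ k : V ≃ₗ[F] V, (∀ v, Q (k v) = Q v) → P (W.map k.toLinearMap))
    {W : Submodule F V} (hW : P W) (hn : NDeg Q W)
    (htr : ∀ W', P W' → ∃ e : W ≃ₗ[F] W', ∀ x : W, Q (e x : V) = Q (x : V))
    (hdvd : r ∣ Nat.card {W' // P W'}) {M M₂ : ℕ} (hM : ∀ B, Has r i Q (⊤ : Submodule F V) B ↔ B ≤ M)
    (hM₂ : ∀ B, Has r i Q (perp Q W) B ↔ B ≤ M₂) : M₂ < M := by
  classical
  haveI : Finite V := Module.finite_of_finite F
  haveI : Finite (V ≃ₗ[F] V) := Finite.of_injective _ DFunLike.coe_injective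
  haveI : Finite (Submodule F V) := Finite.of_injective _ SetLike.coe_injective
  haveI : Nonempty {W' // P W'} := ⟨⟨W, hW⟩⟩
  refine lt_of_le_of_ne ((hM M₂).1 ?_) fun heq => ?_
  · obtain ⟨U, -, hU⟩ := (hM₂ M₂).2 le_rfl
    exact ⟨U, le_top, hU⟩
  · have h1 := card_orbit_mul_dvd hQ P hPk hW hn htr
    have hG : Nat.card (preservingFun (F := F) (⇑Q)) ≠ 0 := Nat.card_pos.ne'
    have h2 := val_card hrF hi hi0 hr2 hQ hM
    have h3 := val_card hrF hi hi0 hr2 (ndeg_perp hQ hn).comp (fun B => by rw [← has_comp]; exact hM₂ B)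
    obtain ⟨c, hc⟩ := h1
    have hv := congrArg (padicValNat r) hc
    haveI : Finite (preservingFun (F := F) (⇑(Q.comp (perp Q W).subtype))) := by
      haveI : Finite (perp Q W ≃ₗ[F] perp Q W) := Finite.of_injective _ DFunLike.coe_injective
      exact Subtype.finite
    have hc0 : c ≠ 0 := fun h => hG (by rw [hc, h, mul_zero])
    rw [padicValNat.mul (mul_ne_zero Nat.card_pos.ne' Nat.card_pos.ne') hc0,
      padicValNat.mul Nat.card_pos.ne' Nat.card_pos.ne', h2, h3, heq] at hv
    have h4 := one_le_padicValNat_of_dvd Nat.card_pos.ne' hdvd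
    omega

end Cfsg.Agent.OrthPrime
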