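import Cfsg.Agent.EqLemmas
import Cfsg.Agent.Lib.OrthPrime.Dvd
import Cfsg.Agent.Lib.Orth.Geo

/-!
# Elements of odd prime order of `Ω` fixing non-degenerate subspaces

`elusive_main` : with `M`, `M₁`, `M₂` the numbers of blocks of the space, the subspace and its complement, every
element fixes a member of the class iff `M ≤ M₁ + M₂`; and `r ∣` the size of the class gives `M₁, M₂ < M`.
-/

set_option autoImplicit false

namespace Cfsg.Agent.OrthPrime

open Module

section General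

variable {F : Type*} [Field F] {V : Type*} [AddCommGroup V] [Module F V] [FiniteDimensional F V]
  {Q : QuadraticForm F V}

omit [FiniteDimensional F V] in
theorem perp_map (k : V ≃ₗ[F] V) (hk : ∀ v, Q (k v) = Q v) (W : Submodule F V) :
    perp Q (W.map k.toLinearMap) = (perp Q W).map k.toLinearMap := by
  have hp : ∀ u v, QuadraticMap.polar Q (k u) (k v) = QuadraticMap.polar Q u v := fun u v =>
    polar_inv Q (g := k.toLinearMap) hk u v
  ext x
  obtain ⟨y, rfl⟩ := k.surjective x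
  constructor
  · intro h
    exact ⟨y, fun u hu => (hp u y).symm.trans (h _ ⟨u, hu, rfl⟩), rfl⟩
  · rintro ⟨z, hz, hzy⟩ _ ⟨u, hu, rfl⟩
    obtain rfl : z = y := k.injective hzy
    exact (hp u z).trans (hz u hu)

theorem perp_perp (hQ : Q.polarBilin.Nondegenerate) (W : Submodule F V) : perp Q (perp Q W) = W :=
  LinearMap.BilinForm.orthogonal_orthogonal hQ (fun u v huv => by
    show QuadraticMap.polar Q v u = 0
    rw [QuadraticMap.polar_comm]; exact huv) W

omit [FiniteDimensional F V] in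
theorem NDeg.map (k : V ≃ₗ[F] V) (hk : ∀ v, Q (k v) = Q v) {W : Submodule F V} (h : NDeg Q W) :
    NDeg Q (W.map k.toLinearMap) := by
  rintro _ ⟨w, hw, rfl⟩ hy
  rw [h w hw fun u hu => (polar_inv Q (g := k.toLinearMap) hk w u).symm.trans (hy _ ⟨u, hu, rfl⟩), map_zero]

omit [FiniteDimensional F V] in
theorem Half.map (k : V ≃ₗ[F] V) (hk : ∀ v, Q (k v) = Q v) (W : Submodule F V) :
    Half Q (W.map k.toLinearMap) ↔ Half Q W :=
  half_range k.toLinearMap k.injective hk W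

variable [Fintype F]

theorem isometric_of_half {W W' : Submodule F V} (hW : NDeg Q W) (hW' : NDeg Q W') {h : ℕ}
    (hd : finrank F W = 2 * h) (hd' : finrank F W' = 2 * h) (hiff : Half Q W ↔ Half Q W') :
    ∃ e : W ≃ₗ[F] W', ∀ x : W, Q (e x : V) = Q (x : V) := by
  classical
  obtain ⟨ζ, -, hab⟩ := Forms.exists_no_root (F := F)
  have hp : ∀ {S : Submodule F V} (e : (Fin h ⊕ Fin h → F) ≃ₗ[F] S),
      (∀ v, Q.comp S.subtype (e v) = Forms.qfPlus h F v) → Half Q S := fun {S} e he => by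
    have := (half_range (Q := Q) (S.subtype.comp e.toLinearMap) (S.subtype_injective.comp e.injective)
      (fun w => he w) ⊤).2 (half_qfPlus h)
    rwa [Submodule.map_top, LinearMap.range_comp, LinearEquiv.range, Submodule.map_top, Submodule.range_subtype] at this
  have hm : ∀ {S : Submodule F V} (e : ((Fin (h - 1) ⊕ Fin (h - 1)) ⊕ Fin 2 → F) ≃ₗ[F] S),
      (∀ v, Q.comp S.subtype (e v) = Forms.qfMinus (h - 1) F 1 ζ v) → ¬ Half Q S := fun {S} e he hH => by
    refine not_half_qfMinus hab (h - 1) ((half_range (Q := Q) (S.subtype.comp e.toLinearMap)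
      (S.subtype_injective.comp e.injective) (fun w => he w) ⊤).1 ?_)
    rwa [Submodule.map_top, LinearMap.range_comp, LinearEquiv.range, Submodule.map_top, Submodule.range_subtype]
  rcases Forms.classify_even (Q.comp W.subtype) hW.comp hd hab with ⟨e, he⟩ | ⟨-, e, he⟩ <;>
    rcases Forms.classify_even (Q.comp W'.subtype) hW'.comp hd' hab with ⟨e', he'⟩ | ⟨-, e', he'⟩
  · exact ⟨e.symm.trans e', fun x => by
      have h1 := he' (e.symm x)
      have h2 := he (e.symm x)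
      rw [LinearEquiv.apply_symm_apply] at h2
      exact h1.trans h2.symm⟩
  · exact absurd (hiff.1 (hp e he)) (hm e' he')
  · exact absurd (hiff.2 (hp e' he')) (hm e he)
  · exact ⟨e.symm.trans e', fun x => by
      have h1 := he' (e.symm x)
      have h2 := he (e.symm x)
      rw [LinearEquiv.apply_symm_apply] at h2
      exact h1.trans h2.symm⟩

/-- The type of the complement. -/
theorem half_perp_iff (hQ : Q.polarBilin.Nondegenerate) {W : Submodule F V} (hW : NDeg Q W) {h h' : ℕ}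
    (hd : finrank F W = 2 * h) (hd' : finrank F (perp Q W) = 2 * h') :
    Half Q (perp Q W) ↔ (Half Q (⊤ : Submodule F V) ↔ Half Q W) := by
  have hp := ndeg_perp hQ hW
  have hsup := (isCompl_perp hW).sup_eq_top
  have ho : ∀ u ∈ W, ∀ w ∈ perp Q W, QuadraticMap.polar Q u w = 0 := fun u hu w hw => hw u hu
  constructor
  · intro hH
    constructor
    · intro hV
      have := half_perp hQ hp hV hH
      rwa [perp_perp hQ] at this
    · intro hWH
      rw [← hsup]
      exact half_sup hW ho hWH hH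
  · intro hiff
    by_cases hWH : Half Q W
    · exact half_perp hQ hW (hiff.2 hWH) hWH
    · by_contra hH
      exact hWH (hiff.1 (half_of_not hQ hW hd hd' hWH hH))

end General

/-- The parameters of `q` modulo `r`. -/
theorem order_params {F : Type*} [Field F] [Fintype F] (p : ℕ) [Fact p.Prime] [CharP F p] {q r i : ℕ}
    [hr : Fact r.Prime] (hq : Fintype.card F = q) (hrp : r ≠ p) (hi : i = orderOf (q : ZMod r)) :
    (r : F) ≠ 0 ∧ (∀ k : ℕ, (Fintype.card F : ZMod r) ^ k = 1 ↔ i ∣ k) ∧ 0 < i := by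
  subst hq
  refine ⟨fun h => hrp ((Nat.prime_dvd_prime_iff_eq Fact.out hr.out).1 ((CharP.cast_eq_zero_iff F p r).1 h)).symm,
    fun k => by rw [hi, orderOf_dvd_iff_pow_eq_one], ?_⟩
  refine hi ▸ Nat.pos_of_ne_zero fun h => ?_
  rw [orderOf_eq_zero_iff'] at h
  refine h (r - 1) (by have := hr.out.two_le; omega) (ZMod.pow_card_sub_one_eq_one ?_)
  rw [Ne, ZMod.natCast_eq_zero_iff]
  obtain ⟨s, hp, hs⟩ := FiniteField.card F p
  rw [hs]
  exact fun h => hrp ((Nat.prime_dvd_prime_iff_eq hr.out hp).1 (hr.out.dvd_of_dvd_pow h))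

section Main

variable {F : Type*} [Field F] [Fintype F] {ι : Type} [Fintype ι] [DecidableEq ι]
  {Q : QuadraticForm F (ι → F)} {r i : ℕ} [hr : Fact r.Prime] (hrF : (r : F) ≠ 0)
  (hi : ∀ k : ℕ, (Fintype.card F : ZMod r) ^ k = 1 ↔ i ∣ k) (hi0 : 0 < i) (hr2 : r ≠ 2)

include hr2 in
omit [Fintype F] in
/-- From elements of `Ω` of order `r` modulo scalars to isometries of order `r`. -/
theorem forall_omegaGL_iff [Fintype F] (hG : Orth.Good Q) (hex : ∃ v, Q v ≠ 0) (C : Submodule F (ι → F) → Prop) :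
    (∀ x : GL ι F, x ∈ Cfsg.Geo.omegaGL ⇑Q →
      (∃ z : F, ((x ^ r : GL ι F) : Matrix ι ι F) = z • (1 : Matrix ι ι F)) →
      (∀ z : F, (x : Matrix ι ι F) ≠ z • (1 : Matrix ι ι F)) →
      ∃ W, C W ∧ W.map (Matrix.toLin' (x : Matrix ι ι F)) ≤ W) ↔
    (∀ y : Module.End F (ι → F), (∀ v, Q (y v) = Q v) → y ^ r = 1 → y ≠ 1 → ∃ W, C W ∧ Invt y W) := by
  classical
  obtain ⟨w, hw⟩ := hex
  have hodd := hr.out.odd_of_ne_two hr2
  have hsq : ∀ {z : F}, (∀ v, Q (z • v) = Q v) → z * z = 1 := fun {z} hz => by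
    have h1 := hz w
    rw [Orth.Q_smul] at h1
    exact mul_right_cancel₀ hw (h1.trans (one_mul _).symm)
  have hzr : ∀ {z : F}, z * z = 1 → z ^ r = z := fun {z} hz => by
    obtain ⟨k, hk⟩ := hodd
    rw [hk, pow_succ, pow_mul, sq, hz, one_pow, one_mul]
  constructor
  · intro h y hy hyr hy1
    obtain ⟨g, hg⟩ := Orth.exists_isoGrp_of_preserve hG.nd y hy
    have hgr : g ^ r = 1 := Orth.ext_ap fun x => by rw [Orth.ap_pow, hg, hyr, Orth.ap_one, Module.End.one_apply]
    obtain ⟨W, hW, hWm⟩ := h (g : GL ι F) (Orth.coe_mem_omegaGL.2 (Orth.mem_omega_of_odd_pow hG hodd hgr))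
      ⟨1, by rw [one_smul, ← Subgroup.coe_pow, hgr]; rfl⟩ (fun z hz => hy1 (by
        have hyz : y = z • 1 := LinearMap.ext fun v => by
          rw [← hg, Orth.ap_apply, hz, Matrix.smul_mulVec, Matrix.one_mulVec]; rfl
        have hz2 := hsq (z := z) fun v => by rw [← hy v, hyz]; rfl
        rw [hyz, smul_pow, one_pow, hzr hz2] at hyr
        rw [hyz, hyr]))
    exact ⟨W, hW, fun v hv => by rw [← hg]; exact hWm ⟨v, hv, rfl⟩⟩
  · intro h x hx ⟨z, hz⟩ hns
    obtain ⟨g, -, rfl⟩ := Orth.mem_omegaGL_iff.1 hx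
    have hgv : ∀ v, Orth.ap (g ^ r) v = z • v := fun v => by
      rw [Orth.ap_apply, Subgroup.coe_pow, hz, Matrix.smul_mulVec, Matrix.one_mulVec]
    have hz2 := hsq (z := z) fun v => by rw [← hgv, Orth.Q_ap]
    have hgr : (Orth.ap g : Module.End F (ι → F)) ^ r = z • 1 := LinearMap.ext fun v => by
      rw [← Orth.ap_pow, hgv]; rfl
    obtain ⟨W, hW, hinv⟩ := h (z • (Orth.ap g : Module.End F (ι → F)))
      (fun v => by rw [LinearMap.smul_apply, Orth.Q_smul, hz2, one_mul, Orth.Q_ap])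
      (by rw [smul_pow, hgr, smul_smul, hzr hz2, hz2, one_smul])
      (fun h1 => hns z (Matrix.toLin'.injective (LinearMap.ext fun v => by
        rw [Matrix.toLin'_apply, ← Orth.ap_apply, map_smul, Matrix.toLin'_one]
        have h2 := congrArg (fun f : Module.End F (ι → F) => z • f v) h1
        simp only [LinearMap.smul_apply, smul_smul, hz2, one_smul] at h2
        simpa using h2)))
    refine ⟨W, hW, ?_⟩
    rintro _ ⟨v, hv, rfl⟩
    show Orth.ap g v ∈ W
    have h1 := W.smul_mem z (hinv v hv)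
    rwa [LinearMap.smul_apply, smul_smul, hz2, one_smul] at h1

include hr2 in
omit [Fintype F] in
/-- The same for odd dimension, with elements of order `r`. -/
theorem forall_orderOf_iff [Fintype F] (hG : Orth.Good Q) (C : Submodule F (ι → F) → Prop) :
    (∀ x : GL ι F, x ∈ Cfsg.Geo.omegaGL ⇑Q → orderOf x = r →
      ∃ W, C W ∧ W.map (Matrix.toLin' (x : Matrix ι ι F)) ≤ W) ↔
    (∀ y : Module.End F (ι → F), (∀ v, Q (y v) = Q v) → y ^ r = 1 → y ≠ 1 → ∃ W, C W ∧ Invt y W) := by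
  classical
  constructor
  · intro h y hy hyr hy1
    obtain ⟨g, hg⟩ := Orth.exists_isoGrp_of_preserve hG.nd y hy
    have hgr : g ^ r = 1 := Orth.ext_ap fun x => by rw [Orth.ap_pow, hg, hyr, Orth.ap_one, Module.End.one_apply]
    obtain ⟨W, hW, hWm⟩ := h (g : GL ι F)
      (Orth.coe_mem_omegaGL.2 (Orth.mem_omega_of_odd_pow hG (hr.out.odd_of_ne_two hr2) hgr))
      (orderOf_eq_prime (by rw [← Subgroup.coe_pow, hgr]; rfl) fun h1 => hy1 (LinearMap.ext fun v => by
        rw [← hg, Orth.ap_apply, h1]; simp))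
    exact ⟨W, hW, fun v hv => by rw [← hg]; exact hWm ⟨v, hv, rfl⟩⟩
  · intro h x hx ho
    obtain ⟨g, -, rfl⟩ := Orth.mem_omegaGL_iff.1 hx
    have hgr : g ^ r = 1 := Subtype.ext (by rw [Subgroup.coe_pow, ← ho, pow_orderOf_eq_one]; rfl)
    obtain ⟨W, hW, hinv⟩ := h (Orth.ap g) (fun v => Orth.Q_ap g v)
      (LinearMap.ext fun v => by rw [← Orth.ap_pow, hgr, Orth.ap_one]; rfl)
      (fun h1 => hr.out.one_lt.ne (by
        rw [← ho, show (g : GL ι F) = 1 from congrArg Subtype.val (Orth.ext_ap (h := (1 : Orth.IsoGrp Q)) fun v => by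
          rw [h1, Orth.ap_one]; rfl), orderOf_one]))
    refine ⟨W, hW, ?_⟩
    rintro _ ⟨v, hv, rfl⟩
    exact hinv v hv

include hrF hi hi0 hr2

theorem elusive_main (hQ : Q.polarBilin.Nondegenerate) (P : Submodule F (ι → F) → Prop)
    (hPn : ∀ W, P W → NDeg Q W)
    (hPk : ∀ W, P W → ∀ k : (ι → F) ≃ₗ[F] (ι → F), (∀ v, Q (k v) = Q v) → P (W.map k.toLinearMap))
    (hP : ∀ W W', P W → P W' → ∃ e : W ≃ₗ[F] W', ∀ x : W, Q (e x : ι → F) = Q (x : ι → F))
    (hne : ∃ W, P W) (hdvd : r ∣ Nat.card {W // P W}) {M M₁ M₂ : ℕ}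
    (hM : ∀ B, Has r i Q (⊤ : Submodule F (ι → F)) B ↔ B ≤ M)
    (hM₁ : ∀ W, P W → ∀ B, Has r i Q W B ↔ B ≤ M₁)
    (hM₂ : ∀ W, P W → ∀ B, Has r i Q (perp Q W) B ↔ B ≤ M₂) :
    ((∀ y : Module.End F (ι → F), (∀ v, Q (y v) = Q v) → y ^ r = 1 → y ≠ 1 → ∃ W, P W ∧ Invt y W) ↔
      M ≤ M₁ + M₂) ∧ M₁ < M ∧ M₂ < M := by
  obtain ⟨W, hW⟩ := hne
  have h2 := cap_lt_of_dvd hrF hi hi0 hr2 hQ P hPk hW (hPn W hW) (fun W' hW' => hP W W' hW hW') hdvd hM (hM₂ W hW)
  have h1 : M₁ < M := by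
    refine cap_lt_of_dvd hrF hi hi0 hr2 hQ (fun X => P (perp Q X))
      (fun X hX k hk => by rw [perp_map k hk]; exact hPk _ hX k hk) (W := perp Q W) (by rw [perp_perp hQ]; exact hW)
      (ndeg_perp hQ (hPn W hW)) (fun X hX => ?_) ?_ hM (fun B => by rw [perp_perp hQ]; exact hM₁ W hW B)
    · obtain ⟨e, he⟩ := hP W (perp Q X) hW hX
      obtain ⟨k, hk, hke⟩ := Forms.witt_quadratic Q hQ W (perp Q X) e he
      have hmap : W.map k.toLinearMap = perp Q X := le_antisymm
        (by rintro _ ⟨v, hv, rfl⟩; show k v ∈ _; rw [hke ⟨v, hv⟩]; exact (e ⟨v, hv⟩).2)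
        fun y hy => ⟨(e.symm ⟨y, hy⟩ : W), (e.symm ⟨y, hy⟩).2, by
          show k _ = y
          rw [hke, e.apply_symm_apply]⟩
      have hX' : (perp Q W).map k.toLinearMap = X := by rw [← perp_map k hk, hmap, perp_perp hQ]
      exact ⟨(k.submoduleMap (perp Q W)).trans (LinearEquiv.ofEq _ _ hX'), fun x => hk x⟩
    · rwa [Nat.card_congr (⟨fun X => ⟨perp Q X.1, X.2⟩, fun X => ⟨perp Q X.1, by rw [perp_perp hQ]; exact X.2⟩,
        fun X => Subtype.ext (perp_perp hQ _), fun X => Subtype.ext (perp_perp hQ _)⟩ :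
        {X // P (perp Q X)} ≃ {X // P X})]
  refine ⟨?_, h1, h2⟩
  rw [fix_criterion hrF hi hi0 hr2 hQ P hPk hPn ⟨W, hW⟩ hM hM₁ hM₂]
  exact or_iff_right (by omega)

end Main

end Cfsg.Agent.OrthPrime
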