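import Cfsg.Agent.EqLemmas
import Cfsg.Agent.Lib.OrthPrime.Elusive
import Cfsg.Agent.Lib.Orth.Spinor

/-!
# Non-degenerate subspaces split by an orthogonal decomposition

* `exists_split` : inside `P ⊥ M` of total dimension `> 2h`, a subspace `A ⊔ B` (`A ≤ P`, `B ≤ M`) of dimension
  `2h` of either type
* `exists_fixed_involution` : involutory isometries in odd characteristic fix such subspaces
-/

set_option autoImplicit false

namespace Cfsg.Agent.OrthPrime

open Module

variable {F : Type*} [Field F] [Fintype F] {ι : Type} [Fintype ι] [DecidableEq ι]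
  {Q : QuadraticForm F (ι → F)} (h2 : (2 : F) ≠ 0)

omit [Fintype F] [Fintype ι] [DecidableEq ι] in
theorem ndeg_span_singleton {v : ι → F} (h2 : (2 : F) ≠ 0) (hv : Q v ≠ 0) : NDeg Q (F ∙ v) := by
  intro x hx hxy
  obtain ⟨a, rfl⟩ := Submodule.mem_span_singleton.1 hx
  have := hxy v (Submodule.mem_span_singleton_self v)
  rw [QuadraticMap.polar_smul_left, QuadraticMap.polar_self, nsmul_eq_mul, smul_eq_mul] at this
  rcases mul_eq_zero.1 this with h | h
  · rw [h, zero_smul]
  · exact absurd h (mul_ne_zero (by exact_mod_cast h2) hv)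

omit [Fintype F] [DecidableEq ι] in
theorem ndeg_inf_perp {X A : Submodule F (ι → F)} (hX : NDeg Q X) (hA : NDeg Q A) (hAX : A ≤ X) :
    NDeg Q (X ⊓ perp Q A) ∧ finrank F ↥(X ⊓ perp Q A) + finrank F A = finrank F X := by
  have hsup : A ⊔ X ⊓ perp Q A = X := by
    refine le_antisymm (sup_le hAX inf_le_left) fun x hx => ?_
    obtain ⟨a, ha, b, hb, rfl⟩ := Submodule.mem_sup.1
      ((isCompl_perp hA).sup_eq_top ▸ Submodule.mem_top : x ∈ A ⊔ perp Q A)
    refine Submodule.add_mem_sup ha ⟨?_, hb⟩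
    have := X.sub_mem hx (hAX ha)
    rwa [add_sub_cancel_left] at this
  refine ⟨fun x hx hxy => hX x hx.1 fun y hy => ?_, ?_⟩
  · obtain ⟨a, ha, b, hb, rfl⟩ := Submodule.mem_sup.1 (show y ∈ A ⊔ X ⊓ perp Q A by rw [hsup]; exact hy)
    rw [QuadraticMap.polar_add_right, hxy b hb, add_zero, QuadraticMap.polar_comm]
    exact hx.2 a ha
  · have h1 := Submodule.finrank_sup_add_finrank_inf_eq A (X ⊓ perp Q A)
    rw [hsup, ((isCompl_perp hA).disjoint.mono_right inf_le_right).eq_bot, finrank_bot] at h1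
    omega

/-- A split plane of the given type. -/
def GoodPlane (Q : QuadraticForm F (ι → F)) (plus : Prop) (P M : Submodule F (ι → F)) : Prop :=
  ∃ A ≤ P, ∃ B ≤ M, NDeg Q A ∧ NDeg Q B ∧ finrank F A + finrank F B = 2 ∧ (Half Q (A ⊔ B) ↔ plus)

omit [Fintype F] [Fintype ι] [DecidableEq ι] in
theorem GoodPlane.symm {plus : Prop} {P M : Submodule F (ι → F)} (h : GoodPlane Q plus P M) :
    GoodPlane Q plus M P := by
  obtain ⟨A, hA, B, hB, hAn, hBn, hd, hh⟩ := h
  exact ⟨B, hB, A, hA, hBn, hAn, by omega, by rwa [sup_comm]⟩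

include h2

theorem exists_plane (plus : Prop) {P M : Submodule F (ι → F)} (hP : NDeg Q P) (hM : NDeg Q M)
    (ho : ∀ u ∈ P, ∀ w ∈ M, QuadraticMap.polar Q u w = 0) (hd : 3 ≤ finrank F P + finrank F M) :
    GoodPlane Q plus P M := by
  classical
  obtain ⟨t, ht0, ht⟩ : ∃ t : F, t ≠ 0 ∧ (plus ↔ IsSquare t) := by
    by_cases h : plus
    · exact ⟨1, one_ne_zero, iff_of_true h IsSquare.one⟩
    · obtain ⟨t, ht⟩ := FiniteField.exists_nonsquare (F := F) (fun h' => h2 (by
        have := CharP.cast_eq_zero F (ringChar F)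
        rw [h'] at this; exact_mod_cast this))
      exact ⟨t, fun h0 => ht (h0 ▸ IsSquare.zero), iff_of_false h ht⟩
  -- the key step: `e ∈ P`, and `f` in a space of dimension at least two orthogonal to `e`
  have key : ∀ {P M : Submodule F (ι → F)}, NDeg Q P → NDeg Q M →
      (∀ u ∈ P, ∀ w ∈ M, QuadraticMap.polar Q u w = 0) → 1 ≤ finrank F P →
      (3 ≤ finrank F P ∨ 2 ≤ finrank F M) → GoodPlane Q plus P M := by
    intro P M hP hM ho hP1 hcase
    obtain ⟨e, he, hQe⟩ : ∃ e ∈ P, Q e ≠ 0 := by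
      by_contra! hall
      obtain ⟨x, hx, hx0⟩ := (Submodule.ne_bot_iff P).1 (fun h => by rw [h, finrank_bot] at hP1; omega)
      exact hx0 (hP x hx fun y hy => by
        simp [QuadraticMap.polar, hall x hx, hall y hy, hall _ (add_mem hx hy)])
    have he0 : e ≠ 0 := fun h => hQe (by rw [h, QuadraticMap.map_zero])
    have hen := ndeg_span_singleton h2 hQe
    have hle : F ∙ e ≤ P := (Submodule.span_singleton_le_iff_mem _ _).2 he
    obtain ⟨hRn, hRd⟩ := ndeg_inf_perp hP hen hle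
    rw [finrank_span_singleton he0] at hRd
    have hval : ∀ {X : Submodule F (ι → F)}, NDeg Q X → 2 ≤ finrank F X → (∀ x ∈ X, QuadraticMap.polar Q e x = 0) →
        ∃ f ∈ X, Q f ≠ 0 ∧ QuadraticMap.polar Q e f = 0 ∧ (Half Q ((F ∙ e) ⊔ (F ∙ f)) ↔ plus) ∧
          finrank F ↥((F ∙ e) ⊔ (F ∙ f)) = 2 := by
      intro X hX hXd hXo
      obtain ⟨f, hf, hQf⟩ := Orth.exists_Q_eq_in (Q := Q) X
        (fun x hx hx0 => by
          by_contra! hall
          exact hx0 (hX x hx hall)) hXd (-(t * Q e))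
      have hQf0 : Q f ≠ 0 := by rw [hQf]; exact neg_ne_zero.2 (mul_ne_zero ht0 hQe)
      have hdisj : Disjoint (F ∙ e) (F ∙ f) := disjoint_of_orth hen fun u hu w hw => by
        obtain ⟨a, rfl⟩ := Submodule.mem_span_singleton.1 hu
        obtain ⟨b, rfl⟩ := Submodule.mem_span_singleton.1 hw
        rw [QuadraticMap.polar_smul_left, QuadraticMap.polar_smul_right, hXo f hf, smul_zero, smul_zero]
      have hd2 : finrank F ↥((F ∙ e) ⊔ (F ∙ f)) = 2 := by
        have h1 := Submodule.finrank_sup_add_finrank_inf_eq (F ∙ e) (F ∙ f)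
        rw [hdisj.eq_bot, finrank_bot, finrank_span_singleton he0,
          finrank_span_singleton (fun h => hQf0 (by rw [h, QuadraticMap.map_zero]))] at h1
        omega
      have hQab : ∀ a b : F, Q (a • e + b • f) = (a * a - t * (b * b)) * Q e := fun a b => by
        rw [QuadraticMap.map_add (⇑Q), Orth.Q_smul, Orth.Q_smul, hQf, QuadraticMap.polar_smul_left,
          QuadraticMap.polar_smul_right, hXo f hf, smul_zero, smul_zero, add_zero]
        ring
      refine ⟨f, hf, hQf0, hXo f hf, ⟨fun hH => ht.2 ?_, fun h => ?_⟩, hd2⟩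
      · obtain ⟨U, hU, hUs, hUd⟩ := hH
        obtain ⟨u, hu, hu0⟩ := (Submodule.ne_bot_iff U).1 (fun h => by rw [h, finrank_bot, hd2] at hUd; omega)
        obtain ⟨_, ha, _, hb, rfl⟩ := Submodule.mem_sup.1 (hU hu)
        obtain ⟨a, rfl⟩ := Submodule.mem_span_singleton.1 ha
        obtain ⟨b, rfl⟩ := Submodule.mem_span_singleton.1 hb
        have h0 := (hQab a b).symm.trans (hUs _ hu)
        rw [mul_eq_zero, or_iff_left hQe, sub_eq_zero] at h0
        have hb0 : b ≠ 0 := fun hb0 => by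
          rw [hb0, mul_zero, mul_zero, mul_self_eq_zero] at h0
          exact hu0 (by rw [h0, hb0, zero_smul, zero_smul, add_zero])
        exact ⟨a / b, by field_simp; linear_combination -h0⟩
      · obtain ⟨s, rfl⟩ := ht.1 h
        refine ⟨F ∙ (s • e + (1 : F) • f), (Submodule.span_singleton_le_iff_mem _ _).2
          (Submodule.add_mem_sup (Submodule.smul_mem _ _ (Submodule.mem_span_singleton_self e))
            (Submodule.smul_mem _ _ (Submodule.mem_span_singleton_self f))), fun u hu => ?_, ?_⟩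
        · obtain ⟨c, rfl⟩ := Submodule.mem_span_singleton.1 hu
          rw [Orth.Q_smul, hQab]; ring
        · rw [finrank_span_singleton (fun h0 => ?_), hd2]
          rw [one_smul] at h0
          refine hQf0 ?_
          rw [eq_neg_of_add_eq_zero_right h0, QuadraticMap.map_neg]
          have h3 : s • e = 0 := Submodule.disjoint_def.1 hdisj _
            (Submodule.smul_mem _ _ (Submodule.mem_span_singleton_self e))
            (eq_neg_of_add_eq_zero_left h0 ▸ neg_mem (Submodule.mem_span_singleton_self f))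
          rw [h3, QuadraticMap.map_zero]
    rcases hcase with h3 | h3
    · obtain ⟨f, hf, hQf, hef, hh, hd2⟩ := hval hRn (by omega) fun x hx => hx.2 e (Submodule.mem_span_singleton_self e)
      refine ⟨(F ∙ e) ⊔ (F ∙ f), sup_le hle ((Submodule.span_singleton_le_iff_mem _ _).2 hf.1), ⊥, bot_le,
        hen.sup (ndeg_span_singleton h2 hQf) fun u hu w hw => ?_, fun x hx _ => (Submodule.mem_bot F).1 hx,
        by rw [finrank_bot, hd2], by rwa [sup_bot_eq]⟩
      obtain ⟨a, rfl⟩ := Submodule.mem_span_singleton.1 hu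
      obtain ⟨b, rfl⟩ := Submodule.mem_span_singleton.1 hw
      rw [QuadraticMap.polar_smul_left, QuadraticMap.polar_smul_right, hef, smul_zero, smul_zero]
    · obtain ⟨f, hf, hQf, -, hh, hd2⟩ := hval hM h3 fun x hx => ho e he x hx
      exact ⟨F ∙ e, hle, F ∙ f, (Submodule.span_singleton_le_iff_mem _ _).2 hf, hen, ndeg_span_singleton h2 hQf,
        by rw [finrank_span_singleton he0, finrank_span_singleton (fun h => hQf (by rw [h, QuadraticMap.map_zero]))],
        hh⟩
  by_cases h : 1 ≤ finrank F P ∧ (3 ≤ finrank F P ∨ 2 ≤ finrank F M)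
  · exact key hP hM ho h.1 h.2
  · exact (key hM hP (fun u hu w hw => by rw [QuadraticMap.polar_comm]; exact ho w hw u hu) (by omega)
      (by omega)).symm

theorem exists_split (plus : Prop) (h : ℕ) : ∀ {P M : Submodule F (ι → F)}, NDeg Q P → NDeg Q M →
    (∀ u ∈ P, ∀ w ∈ M, QuadraticMap.polar Q u w = 0) → 2 * h + 1 ≤ finrank F P + finrank F M →
    (0 < h ∨ plus) →
    ∃ A ≤ P, ∃ B ≤ M, NDeg Q A ∧ NDeg Q B ∧ finrank F A + finrank F B = 2 * h ∧ (Half Q (A ⊔ B) ↔ plus) := by
  induction h with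
  | zero =>
    intro P M _ _ _ _ hp
    refine ⟨⊥, bot_le, ⊥, bot_le, fun x hx _ => (Submodule.mem_bot F).1 hx, fun x hx _ => (Submodule.mem_bot F).1 hx,
      by simp, iff_of_true ⟨⊥, bot_le, fun u hu => by rw [(Submodule.mem_bot F).1 hu, QuadraticMap.map_zero],
        by rw [sup_bot_eq, finrank_bot, mul_zero]⟩ (hp.resolve_left (lt_irrefl _))⟩
  | succ h ih =>
    intro P M hP hM ho hd _
    -- a first plane: hyperbolic, except when it is the only one
    obtain ⟨A₀, hA₀, B₀, hB₀, hA₀n, hB₀n, hd₀, hh₀⟩ := exists_plane h2 (if 0 < h then True else plus) hP hM ho (by omega)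
    obtain ⟨hP'n, hP'd⟩ := ndeg_inf_perp hP hA₀n hA₀
    obtain ⟨hM'n, hM'd⟩ := ndeg_inf_perp hM hB₀n hB₀
    rcases Nat.eq_zero_or_pos h with rfl | hpos
    · exact ⟨A₀, hA₀, B₀, hB₀, hA₀n, hB₀n, by omega, by simpa using hh₀⟩
    rw [if_pos hpos, iff_true] at hh₀
    obtain ⟨A, hA, B, hB, hAn, hBn, hdd, hh⟩ := ih hP'n hM'n
      (fun u hu w hw => ho u hu.1 w hw.1) (by omega) (Or.inl hpos)
    have oA : ∀ u ∈ A₀, ∀ w ∈ A, QuadraticMap.polar Q u w = 0 := fun u hu w hw => (hA hw).2 u hu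
    have oB : ∀ u ∈ B₀, ∀ w ∈ B, QuadraticMap.polar Q u w = 0 := fun u hu w hw => (hB hw).2 u hu
    have dA := Submodule.finrank_sup_add_finrank_inf_eq A₀ A
    have dB := Submodule.finrank_sup_add_finrank_inf_eq B₀ B
    rw [(disjoint_of_orth hA₀n oA).eq_bot, finrank_bot] at dA
    rw [(disjoint_of_orth hB₀n oB).eq_bot, finrank_bot] at dB
    refine ⟨A₀ ⊔ A, sup_le hA₀ (hA.trans inf_le_left), B₀ ⊔ B, sup_le hB₀ (hB.trans inf_le_left),
      hA₀n.sup hAn oA, hB₀n.sup hBn oB, by omega, ?_⟩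
    rw [sup_sup_sup_comm]
    have n₀ : NDeg Q (A₀ ⊔ B₀) := hA₀n.sup hB₀n fun u hu w hw => ho u (hA₀ hu) w (hB₀ hw)
    have n₁ : NDeg Q (A ⊔ B) := hAn.sup hBn fun u hu w hw => ho u (hA hu).1 w (hB hw).1
    have o₀₁ : ∀ u ∈ A₀ ⊔ B₀, ∀ w ∈ A ⊔ B, QuadraticMap.polar Q u w = 0 := by
      intro u hu w hw
      obtain ⟨a₀, ha₀, b₀, hb₀, rfl⟩ := Submodule.mem_sup.1 hu
      obtain ⟨a, ha, b, hb, rfl⟩ := Submodule.mem_sup.1 hw
      rw [QuadraticMap.polar_add_left, QuadraticMap.polar_add_right, QuadraticMap.polar_add_right, oA a₀ ha₀ a ha,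
        ho a₀ (hA₀ ha₀) b (hB hb).1, QuadraticMap.polar_comm (⇑Q) b₀ a, ho a (hA ha).1 b₀ (hB₀ hb₀), oB b₀ hb₀ b hb]
      simp
    rw [← hh]
    refine ⟨fun hH => ?_, fun hH => half_sup n₀ o₀₁ hh₀ hH⟩
    -- cancel the hyperbolic plane
    set S := (A₀ ⊔ B₀) ⊔ (A ⊔ B) with hS
    have nS : NDeg Q S := n₀.sup n₁ o₀₁
    let W₀ := (A₀ ⊔ B₀).comap S.subtype
    have hmap : W₀.map S.subtype = A₀ ⊔ B₀ := by
      rw [Submodule.map_comap_subtype]; exact inf_eq_right.2 le_sup_left
    have hW₀n : NDeg (Q.comp S.subtype) W₀ := fun x hx hxy => Subtype.ext (n₀ _ hx fun y hy => by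
      have := hxy ⟨y, Submodule.mem_sup_left hy⟩ hy
      simpa [QuadraticMap.polar] using this)
    have hperp : (perp (Q.comp S.subtype) W₀).map S.subtype = A ⊔ B := by
      refine le_antisymm ?_ fun w hw => ⟨⟨w, Submodule.mem_sup_right hw⟩, fun u hu => ?_, rfl⟩
      · rintro _ ⟨x, hx, rfl⟩
        obtain ⟨a, ha, b, hb, hab⟩ := Submodule.mem_sup.1 x.2
        have ha0 : a = 0 := n₀ a ha fun y hy => by
          have h1 : QuadraticMap.polar Q y (x : ι → F) = 0 := by
            have := hx ⟨y, Submodule.mem_sup_left hy⟩ hy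
            simpa [QuadraticMap.polar, QuadraticMap.polarBilin] using this
          rw [← hab, QuadraticMap.polar_add_right, o₀₁ y hy b hb, add_zero] at h1
          rwa [QuadraticMap.polar_comm]
        show (x : ι → F) ∈ A ⊔ B
        rw [← hab, ha0, zero_add]; exact hb
      · have := o₀₁ u.1 hu w hw
        simpa [QuadraticMap.polar, QuadraticMap.polarBilin] using this
    have key := half_perp nS.comp hW₀n (half_comp.1 hH)
      ((half_range (Q := Q) (R := Q.comp S.subtype) S.subtype S.subtype_injective (fun _ => rfl) W₀).1 (by rwa [hmap]))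
    have := (half_range (Q := Q) (R := Q.comp S.subtype) S.subtype S.subtype_injective (fun _ => rfl) _).2 key
    rwa [hperp] at this

/-- An involutory isometry fixes non-degenerate subspaces of both types. -/
theorem exists_fixed_involution (hQ : Q.polarBilin.Nondegenerate) (y : Module.End F (ι → F))
    (hy : ∀ v, Q (y v) = Q v) (hy2 : y ^ 2 = 1) (plus : Prop) {h : ℕ} (h0 : 0 < h)
    (hd : 2 * h + 1 ≤ Fintype.card ι) :
    ∃ W : Submodule F (ι → F), finrank F W = 2 * h ∧ NDeg Q W ∧ (Half Q W ↔ plus) ∧ Invt y W := by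
  have hyy : ∀ v, y (y v) = v := fun v => by rw [← Module.End.mul_apply, ← sq, hy2]; rfl
  let P := LinearMap.ker (y - 1)
  let M := LinearMap.ker (y + 1)
  have hPm : ∀ {v}, v ∈ P ↔ y v = v := fun {v} => by simp [P, sub_eq_zero]
  have hMm : ∀ {v}, v ∈ M ↔ y v = -v := fun {v} => by simp [M, add_eq_zero_iff_eq_neg]
  have ho : ∀ u ∈ P, ∀ w ∈ M, QuadraticMap.polar Q u w = 0 := fun u hu w hw => by
    have h1 := polar_inv Q hy u w
    rw [hPm.1 hu, hMm.1 hw, QuadraticMap.polar_neg_right] at h1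
    have h2' : (2 : F) * QuadraticMap.polar Q u w = 0 := by linear_combination -h1
    exact (mul_eq_zero.1 h2').resolve_left h2
  have hdec : ∀ v : ι → F, ∃ a ∈ P, ∃ b ∈ M, a + b = v := fun v =>
    ⟨(2 : F)⁻¹ • (v + y v), hPm.2 (by rw [map_smul, map_add, hyy, add_comm]),
      (2 : F)⁻¹ • (v - y v), hMm.2 (by rw [map_smul, map_sub, hyy, ← smul_neg, neg_sub]), by
      rw [← smul_add, add_add_sub_cancel, ← two_smul F v, inv_smul_smul₀ h2]⟩
  have hnd := (Forms.nondegenerate_polarBilin_iff Q).1 hQ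
  have hP : NDeg Q P := fun x hx hxy => hnd x fun v => by
    obtain ⟨a, ha, b, hb, rfl⟩ := hdec v
    rw [QuadraticMap.polar_add_right, hxy a ha, ho x hx b hb, add_zero]
  have hM : NDeg Q M := fun x hx hxy => hnd x fun v => by
    obtain ⟨a, ha, b, hb, rfl⟩ := hdec v
    rw [QuadraticMap.polar_add_right, hxy b hb, QuadraticMap.polar_comm, ho a ha x hx, add_zero]
  have htot : finrank F P + finrank F M = Fintype.card ι := by
    have h1 := Submodule.finrank_sup_add_finrank_inf_eq P M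
    rw [show P ⊔ M = ⊤ from eq_top_iff.2 fun v _ => by
      obtain ⟨a, ha, b, hb, rfl⟩ := hdec v
      exact Submodule.add_mem_sup ha hb, (disjoint_of_orth hP ho).eq_bot, finrank_bot, finrank_top,
      Module.finrank_fintype_fun_eq_card] at h1
    omega
  obtain ⟨A, hA, B, hB, hAn, hBn, hdd, hh⟩ := exists_split h2 plus h hP hM ho (by omega) (Or.inl h0)
  have o : ∀ u ∈ A, ∀ w ∈ B, QuadraticMap.polar Q u w = 0 := fun u hu w hw => ho u (hA hu) w (hB hw)
  have hd' := Submodule.finrank_sup_add_finrank_inf_eq A B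
  rw [(disjoint_of_orth hAn o).eq_bot, finrank_bot] at hd'
  refine ⟨A ⊔ B, by omega, hAn.sup hBn o, hh, ?_⟩
  intro v hv
  obtain ⟨a, ha, b, hb, rfl⟩ := Submodule.mem_sup.1 hv
  rw [map_add, hPm.1 (hA ha), hMm.1 (hB hb)]
  exact Submodule.add_mem_sup ha (neg_mem hb)

end Cfsg.Agent.OrthPrime
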