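import Cfsg.Agent.EqLemmas
import Cfsg.Agent.Lib.OrthPrime.Elusive
import Cfsg.Agent.Lib.Orth.Models

/-!
# The predicates of the statements
-/

set_option autoImplicit false

namespace Cfsg.Agent.OrthPrime

open Module

variable {F : Type*} [Field F] {ι : Type} [Fintype ι] [DecidableEq ι] {Q : QuadraticForm F (ι → F)}

omit [Fintype ι] [DecidableEq ι] in
theorem isNondegOn_iff (W : Submodule F (ι → F)) :
    Cfsg.Geo.IsNondegenerateOn (QuadraticMap.polar ⇑Q) W ↔ NDeg Q W := by
  constructor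
  · intro h x hx hxy
    by_contra h0
    obtain ⟨y, hy, hne⟩ := (h x hx h0).2
    exact hne (hxy y hy)
  · intro h x hx h0
    have h1 : ∃ y ∈ W, QuadraticMap.polar Q x y ≠ 0 := by
      by_contra! hall
      exact h0 (h x hx hall)
    obtain ⟨y, hy, hne⟩ := h1
    exact ⟨⟨y, hy, by rwa [QuadraticMap.polar_comm]⟩, ⟨y, hy, hne⟩⟩

omit [Fintype ι] [DecidableEq ι] in
theorem isPlusOn_iff (W : Submodule F (ι → F)) : Cfsg.Geo.IsPlusTypeOn ⇑Q W ↔ Half Q W := Iff.rfl

theorem finrank_perp (hQ : Q.polarBilin.Nondegenerate) {W : Submodule F (ι → F)} (hW : NDeg Q W) :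
    finrank F W + finrank F (perp Q W) = Fintype.card ι := by
  rw [Submodule.finrank_add_eq_of_isCompl (isCompl_perp hW), Module.finrank_fintype_fun_eq_card]

omit [DecidableEq ι] in
theorem ndeg_top (hQ : Q.polarBilin.Nondegenerate) : NDeg Q (⊤ : Submodule F (ι → F)) := fun x _ hx =>
  (Forms.nondegenerate_polarBilin_iff Q).1 hQ x fun y => hx y Submodule.mem_top

omit [Fintype ι] [DecidableEq ι] in
theorem exists_of_dvd [Finite F] [Finite ι] {r : ℕ} {P : Submodule F (ι → F) → Prop}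
    (h : ∃ W, P W) : 0 < Nat.card {W // P W} := by
  haveI : Finite (Submodule F (ι → F)) := Finite.of_injective _ SetLike.coe_injective
  obtain ⟨W, hW⟩ := h
  haveI : Nonempty {W // P W} := ⟨⟨W, hW⟩⟩
  exact Nat.card_pos

end Cfsg.Agent.OrthPrime
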