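import Cfsg.Agent.EqLemmas
import Cfsg.Agent.Lib.OrthPrime.InvSplit
import Cfsg.Agent.Lib.OrthPrime.Preds
import Mathlib.NumberTheory.LegendreSymbol.QuadraticChar.GaussSum

/-!
# Isometries with square `-1`

* `j_decomp` : a `J`-invariant non-degenerate space has dimension `2k`, is of plus type iff `-1` is a square or
  `k` is even, and has invariant non-degenerate subspaces of every even dimension
* `j_mem_omega_iff` : such `J` lies in `Ω` iff the number of planes is even or `2` is a square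
* `exists_j` : their existence
-/

set_option autoImplicit false

namespace Cfsg.Agent.OrthPrime

open Module

variable {F : Type*} [Field F] {ι : Type} [Fintype ι] [DecidableEq ι]
  {Q : QuadraticForm F (ι → F)}

omit [Fintype ι] [DecidableEq ι] in
theorem exists_aniso {S : Submodule F (ι → F)} (hS : NDeg Q S) (hpos : 0 < finrank F S) :
    ∃ e ∈ S, Q e ≠ 0 := by
  by_contra! hall
  obtain ⟨x, hx, hx0⟩ := (Submodule.ne_bot_iff S).1 (fun h => by rw [h, finrank_bot] at hpos; omega)
  exact hx0 (hS x hx fun y hy => by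
    simp [QuadraticMap.polar, hall x hx, hall y hy, hall _ (add_mem hx hy)])

omit [DecidableEq ι] in
theorem sup_inf_perp {X A : Submodule F (ι → F)} (hA : NDeg Q A) (hAX : A ≤ X) : A ⊔ X ⊓ perp Q A = X := by
  refine le_antisymm (sup_le hAX inf_le_left) fun x hx => ?_
  obtain ⟨a, ha, b, hb, rfl⟩ := Submodule.mem_sup.1
    ((isCompl_perp hA).sup_eq_top ▸ Submodule.mem_top : x ∈ A ⊔ perp Q A)
  refine Submodule.add_mem_sup ha ⟨?_, hb⟩
  have := X.sub_mem hx (hAX ha)
  rwa [add_sub_cancel_left] at this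

/-- Types add. -/
theorem half_sup_iff [Fintype F] {A B : Submodule F (ι → F)} (hA : NDeg Q A) (hB : NDeg Q B)
    (ho : ∀ u ∈ A, ∀ w ∈ B, QuadraticMap.polar Q u w = 0) {a b : ℕ} (ha : finrank F A = 2 * a)
    (hb : finrank F B = 2 * b) : Half Q (A ⊔ B) ↔ (Half Q A ↔ Half Q B) := by
  set S := A ⊔ B with hS
  have nS : NDeg Q S := hA.sup hB ho
  let W₀ := A.comap S.subtype
  have hmap : W₀.map S.subtype = A := by
    rw [Submodule.map_comap_subtype]; exact inf_eq_right.2 le_sup_left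
  have hW₀n : NDeg (Q.comp S.subtype) W₀ := fun x hx hxy => Subtype.ext (hA _ hx fun y hy => by
    have := hxy ⟨y, Submodule.mem_sup_left hy⟩ hy
    simpa [QuadraticMap.polar] using this)
  have hperp : (perp (Q.comp S.subtype) W₀).map S.subtype = B := by
    refine le_antisymm ?_ fun w hw => ⟨⟨w, Submodule.mem_sup_right hw⟩, fun u hu => ?_, rfl⟩
    · rintro _ ⟨x, hx, rfl⟩
      obtain ⟨a, ha, b, hb, hab⟩ := Submodule.mem_sup.1 x.2
      have ha0 : a = 0 := hA a ha fun y hy => by
        have h1 : QuadraticMap.polar Q y (x : ι → F) = 0 := by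
          have := hx ⟨y, Submodule.mem_sup_left hy⟩ hy
          simpa [QuadraticMap.polar, QuadraticMap.polarBilin] using this
        rw [← hab, QuadraticMap.polar_add_right, ho y hy b hb, add_zero] at h1
        rwa [QuadraticMap.polar_comm]
      show (x : ι → F) ∈ B
      rw [← hab, ha0, zero_add]; exact hb
    · have := ho u.1 hu w hw
      simpa [QuadraticMap.polar, QuadraticMap.polarBilin] using this
  have hd1 : finrank F W₀ = 2 * a := by
    rw [← ha]; conv_rhs => rw [← hmap]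
    exact (Submodule.finrank_map_subtype_eq S W₀).symm
  have hd2 : finrank F (perp (Q.comp S.subtype) W₀) = 2 * b := by
    rw [← hb]; conv_rhs => rw [← hperp]
    exact (Submodule.finrank_map_subtype_eq S _).symm
  have key := half_perp_iff nS.comp hW₀n hd1 hd2
  have e1 : Half (Q.comp S.subtype) W₀ ↔ Half Q A := by
    rw [← half_range (Q := Q) (R := Q.comp S.subtype) S.subtype S.subtype_injective (fun _ => rfl) W₀, hmap]
  have e2 : Half (Q.comp S.subtype) (perp (Q.comp S.subtype) W₀) ↔ Half Q B := by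
    rw [← half_range (Q := Q) (R := Q.comp S.subtype) S.subtype S.subtype_injective (fun _ => rfl), hperp]
  have e3 : Half (Q.comp S.subtype) (⊤ : Submodule F S) ↔ Half Q S := half_comp.symm
  rw [e1, e2, e3] at key
  tauto

/-- An isometry with square `-1`. -/
structure IsJ (Q : QuadraticForm F (ι → F)) (J : Module.End F (ι → F)) : Prop where
  iso : ∀ v, Q (J v) = Q v
  sq : ∀ v, J (J v) = -v

variable {J : Module.End F (ι → F)}

omit [Fintype ι] [DecidableEq ι] in
theorem IsJ.polar_swap (hJ : IsJ Q J) (u v : ι → F) :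
    QuadraticMap.polar Q (J u) v = -QuadraticMap.polar Q u (J v) := by
  rw [← polar_inv Q hJ.iso (J u) v, hJ.sq, QuadraticMap.polar_neg_left]

omit [Fintype ι] [DecidableEq ι] in
theorem IsJ.polar_self_j (hJ : IsJ Q J) (h2 : (2 : F) ≠ 0) (x : ι → F) : QuadraticMap.polar Q x (J x) = 0 := by
  have h := hJ.polar_swap x x
  rw [QuadraticMap.polar_comm] at h
  have h' : (2 : F) * QuadraticMap.polar Q x (J x) = 0 := by linear_combination h
  exact (mul_eq_zero.1 h').resolve_left h2

omit [DecidableEq ι] in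
theorem IsJ.perp_invt (hJ : IsJ Q J) {S : Submodule F (ι → F)} (hS : Invt J S) : Invt J (perp Q S) :=
  fun v hv u hu => by
    show QuadraticMap.polar Q u (J v) = 0
    have h1 := hJ.polar_swap u v
    rw [show QuadraticMap.polar Q (J u) v = 0 from hv _ (hS u hu)] at h1
    exact neg_eq_zero.1 h1.symm

/-- The plane of `x`. -/
theorem IsJ.plane (hJ : IsJ Q J) (h2 : (2 : F) ≠ 0) {x : ι → F} (hx : Q x ≠ 0) :
    NDeg Q ((F ∙ x) ⊔ (F ∙ J x)) ∧ finrank F ↥((F ∙ x) ⊔ (F ∙ J x)) = 2 ∧ Invt J ((F ∙ x) ⊔ (F ∙ J x)) ∧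
      (Half Q ((F ∙ x) ⊔ (F ∙ J x)) ↔ IsSquare (-1 : F)) := by
  have hx0 : x ≠ 0 := fun h => hx (by rw [h, QuadraticMap.map_zero])
  have hJx : Q (J x) ≠ 0 := by rw [hJ.iso]; exact hx
  have hen := ndeg_span_singleton h2 hx
  have ho : ∀ u ∈ F ∙ x, ∀ w ∈ F ∙ J x, QuadraticMap.polar Q u w = 0 := fun u hu w hw => by
    obtain ⟨a, rfl⟩ := Submodule.mem_span_singleton.1 hu
    obtain ⟨b, rfl⟩ := Submodule.mem_span_singleton.1 hw
    rw [QuadraticMap.polar_smul_left, QuadraticMap.polar_smul_right, hJ.polar_self_j h2, smul_zero, smul_zero]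
  have hdisj := disjoint_of_orth hen ho
  have hd : finrank F ↥((F ∙ x) ⊔ (F ∙ J x)) = 2 := by
    have h1 := Submodule.finrank_sup_add_finrank_inf_eq (F ∙ x) (F ∙ J x)
    rw [hdisj.eq_bot, finrank_bot, finrank_span_singleton hx0,
      finrank_span_singleton (fun h => hJx (by rw [h, QuadraticMap.map_zero]))] at h1
    omega
  have hQab : ∀ a b : F, Q (a • x + b • J x) = (a * a + b * b) * Q x := fun a b => by
    rw [QuadraticMap.map_add (⇑Q), Orth.Q_smul, Orth.Q_smul, hJ.iso, QuadraticMap.polar_smul_left,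
      QuadraticMap.polar_smul_right, hJ.polar_self_j h2, smul_zero, smul_zero, add_zero]
    ring
  refine ⟨hen.sup (ndeg_span_singleton h2 hJx) ho, hd, fun v hv => ?_, fun hH => ?_, fun h => ?_⟩
  · obtain ⟨_, ha, _, hb, rfl⟩ := Submodule.mem_sup.1 hv
    obtain ⟨a, rfl⟩ := Submodule.mem_span_singleton.1 ha
    obtain ⟨b, rfl⟩ := Submodule.mem_span_singleton.1 hb
    rw [map_add, map_smul, map_smul, hJ.sq, add_comm, smul_neg, ← neg_smul]
    exact Submodule.add_mem_sup (Submodule.smul_mem _ _ (Submodule.mem_span_singleton_self _))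
      (Submodule.smul_mem _ _ (Submodule.mem_span_singleton_self _))
  · obtain ⟨U, hU, hUs, hUd⟩ := hH
    obtain ⟨u, hu, hu0⟩ := (Submodule.ne_bot_iff U).1 (fun h => by rw [h, finrank_bot, hd] at hUd; omega)
    obtain ⟨_, ha, _, hb, rfl⟩ := Submodule.mem_sup.1 (hU hu)
    obtain ⟨a, rfl⟩ := Submodule.mem_span_singleton.1 ha
    obtain ⟨b, rfl⟩ := Submodule.mem_span_singleton.1 hb
    have h0 := (hQab a b).symm.trans (hUs _ hu)
    rw [mul_eq_zero, or_iff_left hx] at h0
    have hb0 : b ≠ 0 := fun hb0 => by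
      rw [hb0, mul_zero, add_zero, mul_self_eq_zero] at h0
      exact hu0 (by rw [h0, hb0, zero_smul, zero_smul, add_zero])
    exact ⟨a / b, by field_simp; linear_combination -h0⟩
  · obtain ⟨s, hs⟩ := h
    refine ⟨F ∙ (s • x + (1 : F) • J x), (Submodule.span_singleton_le_iff_mem _ _).2
      (Submodule.add_mem_sup (Submodule.smul_mem _ _ (Submodule.mem_span_singleton_self x))
        (Submodule.smul_mem _ _ (Submodule.mem_span_singleton_self (J x)))), fun u hu => ?_, ?_⟩
    · obtain ⟨c, rfl⟩ := Submodule.mem_span_singleton.1 hu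
      rw [Orth.Q_smul, hQab, ← hs]; ring
    · rw [finrank_span_singleton (fun h0 => ?_), hd]
      rw [one_smul] at h0
      have h3 : J x = 0 := Submodule.disjoint_def.1 hdisj _
        (eq_neg_of_add_eq_zero_right h0 ▸ neg_mem (Submodule.smul_mem _ _ (Submodule.mem_span_singleton_self x)))
        (Submodule.mem_span_singleton_self _)
      exact hJx (by rw [h3, QuadraticMap.map_zero])

variable [Fintype F]

/-- Decomposition into planes. -/
theorem j_decomp (hJ : IsJ Q J) (h2 : (2 : F) ≠ 0) : ∀ {S : Submodule F (ι → F)}, NDeg Q S → Invt J S →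
    ∃ k, finrank F S = 2 * k ∧ (Half Q S ↔ (IsSquare (-1 : F) ∨ Even k)) ∧
      ∀ h ≤ k, ∃ W ≤ S, NDeg Q W ∧ Invt J W ∧ finrank F W = 2 * h := by
  intro S
  induction hn : finrank F S using Nat.strong_induction_on generalizing S with
  | _ n ih =>
    intro hS hSi
    rcases Nat.eq_zero_or_pos n with rfl | hpos
    · refine ⟨0, by omega, iff_of_true ⟨⊥, bot_le, fun u hu => by
          rw [(Submodule.mem_bot F).1 hu, QuadraticMap.map_zero], by rw [finrank_bot, hn]⟩ (Or.inr Even.zero),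
        fun h hh => ⟨⊥, bot_le, fun x hx _ => (Submodule.mem_bot F).1 hx,
          fun x hx => by rw [(Submodule.mem_bot F).1 hx, map_zero]; exact zero_mem _, by
          rw [finrank_bot]; omega⟩⟩
    obtain ⟨x, hxS, hx⟩ := exists_aniso hS (by omega)
    obtain ⟨hPn, hPd, hPi, hPh⟩ := hJ.plane h2 hx
    have hle : (F ∙ x) ⊔ (F ∙ J x) ≤ S := sup_le ((Submodule.span_singleton_le_iff_mem _ _).2 hxS)
      ((Submodule.span_singleton_le_iff_mem _ _).2 (hSi x hxS))
    obtain ⟨hRn, hRd⟩ := ndeg_inf_perp hS hPn hle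
    have hsup := sup_inf_perp hPn hle
    set P := (F ∙ x) ⊔ (F ∙ J x)
    obtain ⟨k, hk, hkH, hkW⟩ := ih _ (by omega) rfl hRn fun v hv => ⟨hSi v hv.1, hJ.perp_invt hPi v hv.2⟩
    have ho : ∀ u ∈ P, ∀ w ∈ S ⊓ perp Q P, QuadraticMap.polar Q u w = 0 := fun u hu w hw => hw.2 u hu
    refine ⟨k + 1, by omega, ?_, fun h hh => ?_⟩
    · have h3 := half_sup_iff hPn hRn ho (a := 1) (by omega) hk
      rw [hsup, hPh, hkH] at h3
      rw [h3, Nat.even_add_one]
      tauto
    · rcases Nat.eq_zero_or_pos h with rfl | hh0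
      · exact ⟨⊥, bot_le, fun x hx _ => (Submodule.mem_bot F).1 hx,
          fun x hx => by rw [(Submodule.mem_bot F).1 hx, map_zero]; exact zero_mem _, finrank_bot F _⟩
      obtain ⟨W, hW, hWn, hWi, hWd⟩ := hkW (h - 1) (by omega)
      have ho' : ∀ u ∈ P, ∀ w ∈ W, QuadraticMap.polar Q u w = 0 := fun u hu w hw => ho u hu w (hW hw)
      refine ⟨P ⊔ W, sup_le hle (hW.trans inf_le_left), hPn.sup hWn ho', hPi.sup hWi, ?_⟩
      have h1 := Submodule.finrank_sup_add_finrank_inf_eq P W
      rw [(disjoint_of_orth hPn ho').eq_bot, finrank_bot] at h1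
      omega

open Classical in
/-- The spinor value of `J` on a subspace. -/
theorem j_spin (hG : Orth.Good Q) (hJ : IsJ Q J) (h2 : (2 : F) ≠ 0) : ∀ (k : ℕ) {S : Submodule F (ι → F)}
    (g : Orth.IsoGrp Q), finrank F S = 2 * k → NDeg Q S → Invt J S → (∀ v ∈ S, Orth.ap g v = J v) →
    (∀ v ∈ perp Q S, Orth.ap g v = v) →
    Orth.dick g = 1 ∧ Orth.spin g = quadraticChar F 2 ^ k := by
  intro k
  induction k with
  | zero =>
    intro S g hd hS _ _ hg
    have hS0 : S = ⊥ := Submodule.finrank_eq_zero.1 (by omega)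
    have : g = 1 := Orth.ext_ap fun v => by
      rw [Orth.ap_one, hg v fun u hu => by
        rw [hS0, Submodule.mem_bot] at hu
        show QuadraticMap.polar Q u v = 0
        rw [hu, QuadraticMap.polar_zero_left]]
    rw [this, Orth.dick_one, Orth.spin_one, pow_zero]
    exact ⟨rfl, rfl⟩
  | succ k ih =>
    intro S g hd hS hSi hgS hgp
    obtain ⟨x, hxS, hx⟩ := exists_aniso hS (by omega)
    obtain ⟨hPn, hPd, hPi, -⟩ := hJ.plane h2 hx
    have hle : (F ∙ x) ⊔ (F ∙ J x) ≤ S := sup_le ((Submodule.span_singleton_le_iff_mem _ _).2 hxS)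
      ((Submodule.span_singleton_le_iff_mem _ _).2 (hSi x hxS))
    obtain ⟨hRn, hRd⟩ := ndeg_inf_perp hS hPn hle
    have hsup := sup_inf_perp hPn hle
    set P := (F ∙ x) ⊔ (F ∙ J x) with hP
    have hxP : x ∈ P := Submodule.mem_sup_left (Submodule.mem_span_singleton_self x)
    have hJxP : J x ∈ P := Submodule.mem_sup_right (Submodule.mem_span_singleton_self _)
    set v := x - J x with hv
    have hJQ := hJ.iso x
    have hBx := hJ.polar_self_j h2 x
    have hQv : Q v = 2 * Q x := by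
      rw [hv, Orth.Q_sub, hJQ, hBx]; ring
    have hQv0 : Q v ≠ 0 := by rw [hQv]; exact mul_ne_zero h2 hx
    -- the two reflections carry out `J` on the plane
    have r1 : ∀ u ∈ perp Q P, Orth.ap (Orth.refl Q v) u = u := fun u hu =>
      Orth.refl_ap_of_orth Q (hu v (sub_mem hxP hJxP))
    have r2 : ∀ u ∈ perp Q P, Orth.ap (Orth.refl Q x) u = u := fun u hu => Orth.refl_ap_of_orth Q (hu x hxP)
    have a1 : Orth.ap (Orth.refl Q v) x = J x := by
      rw [Orth.refl_ap, hQv, hv, QuadraticMap.polar_sub_left, QuadraticMap.polar_self, QuadraticMap.polar_comm (⇑Q) (J x),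
        hBx, sub_zero, nsmul_eq_mul, Nat.cast_ofNat, inv_mul_cancel₀ (mul_ne_zero h2 hx), one_smul, sub_sub_cancel]
    have a2 : Orth.ap (Orth.refl Q v) (J x) = x := by
      rw [← a1, Orth.refl_ap_ap]
    have b1 : Orth.ap (Orth.refl Q x) (J x) = J x := Orth.refl_ap_of_orth Q hBx
    have b2 : Orth.ap (Orth.refl Q x) x = -x := Orth.refl_ap_self Q hx
    set g' := Orth.refl Q v * (Orth.refl Q x * g) with hg'
    have hg'ap : ∀ u, Orth.ap g' u = Orth.ap (Orth.refl Q v) (Orth.ap (Orth.refl Q x) (Orth.ap g u)) := fun u => by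
      rw [hg', Orth.ap_mul, Orth.ap_mul]
    have hP' : ∀ u ∈ P, Orth.ap g' u = u := by
      intro u hu
      obtain ⟨_, ha, _, hb, rfl⟩ := Submodule.mem_sup.1 hu
      obtain ⟨a, rfl⟩ := Submodule.mem_span_singleton.1 ha
      obtain ⟨b, rfl⟩ := Submodule.mem_span_singleton.1 hb
      rw [hg'ap, map_add, map_smul, map_smul, hgS x hxS, hgS _ (hSi x hxS), hJ.sq]
      simp only [map_add, map_smul, map_neg, b1, b2, neg_neg, a1, a2]
    obtain ⟨hd', hs'⟩ := ih (S := S ⊓ perp Q P) g' (by omega) hRn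
      (fun u hu => ⟨hSi u hu.1, hJ.perp_invt hPi u hu.2⟩)
      (fun u hu => by
        rw [hg'ap, hgS u hu.1, r2 _ (hJ.perp_invt hPi u hu.2), r1 _ (hJ.perp_invt hPi u hu.2)])
      (fun u hu => by
        obtain ⟨a, ha, b, hb, rfl⟩ := Submodule.mem_sup.1
          ((isCompl_perp hS).sup_eq_top ▸ Submodule.mem_top : u ∈ S ⊔ perp Q S)
        obtain ⟨c, hc, e, he, rfl⟩ := Submodule.mem_sup.1 (show a ∈ P ⊔ S ⊓ perp Q P by rw [hsup]; exact ha)
        have he0 : e = 0 := hRn e he fun y hy => by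
          have h1 : QuadraticMap.polar Q y (c + e + b) = 0 := hu y hy
          rw [QuadraticMap.polar_add_right, QuadraticMap.polar_add_right,
            show QuadraticMap.polar Q y b = 0 from hb y hy.1,
            QuadraticMap.polar_comm (⇑Q) y c, show QuadraticMap.polar Q c y = 0 from hy.2 c hc,
            zero_add, add_zero] at h1
          rwa [QuadraticMap.polar_comm]
        have hbP : b ∈ perp Q P := fun y hy => hb y (hle hy)
        rw [he0, add_zero, map_add, hP' c hc, hg'ap b, hgp b hb, r2 b hbP, r1 b hbP])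
    rw [hg', Orth.dick_refl_mul hG.nd _ hQv0, Orth.dick_refl_mul hG.nd _ hx, neg_neg] at hd'
    rw [hg', Orth.spin_refl_mul hG.nd _ hQv0, Orth.spin_refl_mul hG.nd _ hx, ← mul_assoc, hQv, ← map_mul,
      show 2 * Q x * Q x = 2 * Q x ^ 2 by ring, map_mul, quadraticChar_sq_one' hx, mul_one] at hs'
    refine ⟨hd', ?_⟩
    have h22 : quadraticChar F 2 * quadraticChar F 2 = 1 := by rw [← sq, quadraticChar_sq_one h2]
    rw [pow_succ, ← hs', mul_comm (quadraticChar F 2) (Orth.spin g), mul_assoc, h22, mul_one]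

/-- When `J` lies in `Ω`. -/
theorem j_mem_omega_iff (hG : Orth.Good Q) (h2 : (2 : F) ≠ 0) (g : Orth.IsoGrp Q) (hJ : IsJ Q (Orth.ap g))
    {d : ℕ} (hd : Fintype.card ι = 2 * d) : g ∈ Cfsg.Omega F ⇑Q ↔ (Even d ∨ IsSquare (2 : F)) := by
  classical
  have hn := ndeg_top hG.nd
  obtain ⟨hk1, hk2⟩ := j_spin hG hJ h2 d (S := ⊤) g
    (by rw [finrank_top, Module.finrank_fintype_fun_eq_card, hd]) hn (fun _ _ => Submodule.mem_top)
    (fun _ _ => rfl) (fun v hv => by
      rw [(Forms.nondegenerate_polarBilin_iff Q).1 hG.nd v fun u => by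
        rw [QuadraticMap.polar_comm]; exact hv u Submodule.mem_top, map_zero])
  rw [Orth.mem_omega_iff hG, hk1, hk2, ← quadraticChar_one_iff_isSquare h2]
  simp only [true_and]
  rcases quadraticChar_dichotomy h2 with h | h <;> rw [h]
  · simp
  · rw [neg_one_pow_eq_one_iff_even (by norm_num)]
    simp

/-- Existence of `J` with square `-1`. -/
theorem exists_j (hQ : Q.polarBilin.Nondegenerate) (h2 : (2 : F) ≠ 0) {d : ℕ} (hd : Fintype.card ι = 2 * d)
    (htype : Half Q (⊤ : Submodule F (ι → F)) ↔ (IsSquare (-1 : F) ∨ Even d)) :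
    ∃ g : Orth.IsoGrp Q, IsJ Q (Orth.ap g) := by
  classical
  obtain ⟨ζ, -, hab⟩ := Forms.exists_no_root (F := F)
  let R : QuadraticForm F (Fin d ⊕ Fin d → F) := ∑ k, QuadraticMap.proj k k
  have hR : ∀ v, R v = ∑ k, v k * v k := fun v => by simp [R]
  let J₀ : Module.End F (Fin d ⊕ Fin d → F) :=
    { toFun := fun v => Sum.elim (fun k => -v (.inr k)) (fun k => v (.inl k))
      map_add' := fun u v => by ext (k | k) <;> simp; ring
      map_smul' := fun c v => by ext (k | k) <;> simp }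
  have hJ₀ : IsJ R J₀ := ⟨fun v => by
    simp [hR, J₀, Fintype.sum_sum_type, add_comm], fun v => by ext (k | k) <;> simp [J₀]⟩
  have hRn : R.polarBilin.Nondegenerate := by
    rw [Forms.nondegenerate_polarBilin_iff]
    intro x hx
    funext k
    have h := hx (Pi.single k 1)
    simp [QuadraticMap.polar, hR, Pi.single_apply, add_mul, mul_add, Finset.sum_add_distrib] at h
    have h' : (2 : F) * x k = 0 := by linear_combination h
    exact (mul_eq_zero.1 h').resolve_left h2
  obtain ⟨k, hk, hkH, -⟩ := j_decomp hJ₀ h2 (ndeg_top hRn) (fun _ _ => Submodule.mem_top)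
  rw [finrank_top, Module.finrank_fintype_fun_eq_card, Fintype.card_sum, Fintype.card_fin] at hk
  obtain rfl : k = d := by omega
  have hfd : finrank F (ι → F) = 2 * k := by rw [Module.finrank_fintype_fun_eq_card, hd]
  have hfd' : finrank F (Fin k ⊕ Fin k → F) = 2 * k := by simp [two_mul]
  obtain ⟨e, he⟩ : ∃ e : (Fin k ⊕ Fin k → F) ≃ₗ[F] (ι → F), ∀ v, Q (e v) = R v := by
    have hp : ∀ {V : Type _} [AddCommGroup V] [Module F V] (T : QuadraticForm F V)
        (e : (Fin k ⊕ Fin k → F) ≃ₗ[F] V), (∀ v, T (e v) = Forms.qfPlus k F v) → Half T (⊤ : Submodule F V) :=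
      fun T e he => by
        have := (half_range (Q := T) e.toLinearMap e.injective (fun w => he w) ⊤).2 (half_qfPlus k)
        rwa [Submodule.map_top, LinearEquiv.range] at this
    have hm : ∀ {V : Type _} [AddCommGroup V] [Module F V] (T : QuadraticForm F V)
        (e : ((Fin (k - 1) ⊕ Fin (k - 1)) ⊕ Fin 2 → F) ≃ₗ[F] V),
        (∀ v, T (e v) = Forms.qfMinus (k - 1) F 1 ζ v) → ¬ Half T (⊤ : Submodule F V) :=
      fun T e he hH => by
        refine not_half_qfMinus hab (k - 1) ((half_range (Q := T) e.toLinearMap e.injective (fun w => he w) ⊤).1 ?_)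
        rwa [Submodule.map_top, LinearEquiv.range]
    rcases Forms.classify_even R hRn hfd' hab with ⟨e₁, he₁⟩ | ⟨-, e₁, he₁⟩ <;>
      rcases Forms.classify_even Q hQ hfd hab with ⟨e₂, he₂⟩ | ⟨-, e₂, he₂⟩
    · exact ⟨e₁.symm.trans e₂, fun v => by rw [LinearEquiv.trans_apply, he₂, ← he₁, LinearEquiv.apply_symm_apply]⟩
    · exact absurd (htype.2 (hkH.1 (hp R e₁ he₁))) (hm Q e₂ he₂)
    · exact absurd (hkH.2 (htype.1 (hp Q e₂ he₂))) (hm R e₁ he₁)
    · exact ⟨e₁.symm.trans e₂, fun v => by rw [LinearEquiv.trans_apply, he₂, ← he₁, LinearEquiv.apply_symm_apply]⟩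
  obtain ⟨g, hg⟩ := Orth.exists_isoGrp_of_preserve hQ (e.toLinearMap ∘ₗ J₀ ∘ₗ e.symm.toLinearMap) fun v => by
    simp only [LinearMap.comp_apply, LinearEquiv.coe_coe]
    rw [he, hJ₀.iso, ← he, LinearEquiv.apply_symm_apply]
  exact ⟨g, fun v => Orth.Q_ap g v, fun v => by simp [hg, hJ₀.sq]⟩

end Cfsg.Agent.OrthPrime
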