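import Cfsg.Agent.EqLemmas
import Cfsg.Agent.Lib.OrthPrime.InvJ
import Cfsg.Agent.Lib.OrthPrime.Type
import Cfsg.Agent.Lib.PrimeOrderElt.Jordan

/-!
# Involutory isometries in characteristic two

For an involutory isometry `g` and `N = g - 1`:
* `alt_decomp` : if `(g - 1) X` is singular, `X` is a plus-type sum of blocks of dimension four and a fixed space
* `exists_nonalt` : otherwise `X` has invariant spaces of both types and every even dimension
-/

set_option autoImplicit false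

namespace Cfsg.Agent.OrthPrime

open Module

variable {F : Type*} [Field F] {ι : Type} [Fintype ι] [DecidableEq ι] {Q : QuadraticForm F (ι → F)}

/-- An involutory isometry. -/
structure IsInv (Q : QuadraticForm F (ι → F)) (g : Module.End F (ι → F)) : Prop where
  iso : ∀ v, Q (g v) = Q v
  sq : ∀ v, g (g v) = v
  two : (2 : F) = 0

variable {g : Module.End F (ι → F)}

/-- `g - 1`. -/
abbrev nmap (g : Module.End F (ι → F)) : Module.End F (ι → F) := g - 1

omit [Fintype ι] [DecidableEq ι] in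
theorem neg_eq_self (h2 : (2 : F) = 0) (a : F) : -a = a := by linear_combination -a * h2

omit [Fintype ι] [DecidableEq ι] in
theorem IsInv.swap (hg : IsInv Q g) (u v : ι → F) :
    QuadraticMap.polar Q (g u) v = QuadraticMap.polar Q u (g v) := by
  rw [← polar_inv Q hg.iso (g u) v, hg.sq]

omit [Fintype ι] [DecidableEq ι] in
theorem IsInv.sym (hg : IsInv Q g) (u v : ι → F) :
    QuadraticMap.polar Q (nmap g u) v = QuadraticMap.polar Q u (nmap g v) := by
  simp only [nmap, LinearMap.sub_apply, Module.End.one_apply, QuadraticMap.polar_sub_left,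
    QuadraticMap.polar_sub_right, hg.swap]

omit [Fintype ι] [DecidableEq ι] in
theorem IsInv.nn (hg : IsInv Q g) (v : ι → F) : nmap g (nmap g v) = 0 := by
  have h2 : (2 : F) • (v - g v) = 0 := by rw [hg.two, zero_smul]
  simp only [nmap, LinearMap.sub_apply, Module.End.one_apply, map_sub, hg.sq]
  rw [two_smul] at h2
  rw [← h2]; abel

omit [Fintype ι] [DecidableEq ι] in
theorem IsInv.orth (hg : IsInv Q g) (u v : ι → F) : QuadraticMap.polar Q (nmap g u) (nmap g v) = 0 := by
  rw [hg.sym, hg.nn, QuadraticMap.polar_zero_right]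

omit [Fintype ι] [DecidableEq ι] in
theorem IsInv.diag (hg : IsInv Q g) (v : ι → F) :
    Q (nmap g v) = QuadraticMap.polar Q v (nmap g v) := by
  have h := hg.iso v
  rw [show g v = v + nmap g v by simp [nmap], QuadraticMap.map_add (⇑Q)] at h
  linear_combination h - QuadraticMap.polar Q v (nmap g v) * hg.two

omit [Fintype ι] [DecidableEq ι] in
theorem IsInv.mem (hg : IsInv Q g) {X : Submodule F (ι → F)} (hX : Invt g X) {v : ι → F} (hv : v ∈ X) :
    nmap g v ∈ X := by
  simpa [nmap] using X.sub_mem (hX v hv) hv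

omit [DecidableEq ι] in
theorem IsInv.perp_invt (hg : IsInv Q g) {U : Submodule F (ι → F)} (hU : Invt g U) : Invt g (perp Q U) :=
  fun v hv u hu => by
    show QuadraticMap.polar Q u (g v) = 0
    rw [← hg.swap]; exact hv _ (hU u hu)

omit [Fintype ι] [DecidableEq ι] in
theorem exists_dual_vec {X : Submodule F (ι → F)} (hX : NDeg Q X) {w : ι → F} (hw : w ∈ X) (h0 : w ≠ 0) :
    ∃ v ∈ X, QuadraticMap.polar Q w v = 1 := by
  by_contra! hall
  refine h0 (hX w hw fun y hy => ?_)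
  by_contra hne
  exact hall ((QuadraticMap.polar Q w y)⁻¹ • y) (X.smul_mem _ hy)
    (by rw [QuadraticMap.polar_smul_right, smul_eq_mul, inv_mul_cancel₀ hne])

omit [DecidableEq ι] in
/-- A subspace isometric to a model. -/
theorem exists_of_emb {W : Type*} [AddCommGroup W] [Module F W] [FiniteDimensional F W] {Q' : QuadraticForm F W}
    (hQ' : Q'.polarBilin.Nondegenerate) {X : Submodule F (ι → F)} (h : Emb Q' (Q.comp X.subtype)) :
    ∃ S ≤ X, NDeg Q S ∧ finrank F S = finrank F W ∧ (Half Q S ↔ Half Q' (⊤ : Submodule F W)) := by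
  obtain ⟨j, hj⟩ := h
  let k : W →ₗ[F] (ι → F) := X.subtype ∘ₗ j
  have hinj : Function.Injective k := X.subtype_injective.comp (Emb.injective hQ' j hj)
  have hk : ∀ v, Q (k v) = Q' v := fun v => hj v
  refine ⟨LinearMap.range k, ?_, ?_, LinearMap.finrank_range_of_inj hinj, ?_⟩
  · rintro _ ⟨x, rfl⟩; exact (j x).2
  · rintro _ ⟨x, rfl⟩ hxy
    rw [(Forms.nondegenerate_polarBilin_iff _).1 hQ' x fun y => ?_, map_zero]
    rw [← hxy _ ⟨y, rfl⟩]
    simp only [QuadraticMap.polar, ← map_add, hk]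
  · rw [← half_range (Q := Q) k hinj hk ⊤, Submodule.map_top]

variable [Fintype F]

omit [DecidableEq ι] in
/-- Subspaces of both types. -/
theorem exists_sub_half {X : Submodule F (ι → F)} (hX : NDeg Q X) {n h : ℕ} (hd : finrank F X = 2 * n)
    (h0 : 0 < h) (hn : h ≤ n) (plus : Prop) (htop : h = n → (Half Q X ↔ plus)) :
    ∃ S ≤ X, NDeg Q S ∧ finrank F S = 2 * h ∧ (Half Q S ↔ plus) := by
  classical
  rcases eq_or_lt_of_le hn with rfl | hlt
  · exact ⟨X, le_rfl, hX, hd, htop rfl⟩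
  obtain ⟨ζ, -, hab⟩ := Forms.exists_no_root (F := F)
  obtain ⟨k, rfl⟩ : ∃ k, h = k + 1 := ⟨h - 1, by omega⟩
  have hm : (Forms.qfMinus k F 1 ζ).polarBilin.Nondegenerate := by
    rw [← show Orth.quadMinus k F 1 ζ = Forms.qfMinus k F 1 ζ from
      DFunLike.coe_injective ((Orth.coe_quadMinus k 1 ζ).trans (Forms.qfMinus_eq k 1 ζ).symm)]
    exact Orth.quadMinus_nondeg k hab
  have hp : (Forms.qfPlus (k + 1) F).polarBilin.Nondegenerate := by
    rw [← show Orth.quadPlus (k + 1) F = Forms.qfPlus (k + 1) F from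
      DFunLike.coe_injective ((Orth.coe_quadPlus (k + 1)).trans (Forms.qfPlus_eq (k + 1)).symm)]
    exact Orth.quadPlus_nondeg (k + 1)
  obtain ⟨hP, hM⟩ : Emb (Forms.qfPlus (k + 1) F) (Q.comp X.subtype) ∧
      Emb (Forms.qfMinus k F 1 ζ) (Q.comp X.subtype) := by
    rcases Forms.classify_even (Q.comp X.subtype) hX.comp hd hab with ⟨e, he⟩ | ⟨-, e, he⟩
    · have h1 : Emb (Forms.qfPlus n F) (Q.comp X.subtype) := ⟨e.toLinearMap, he⟩
      exact ⟨(emb_plus_plus (show k + 1 ≤ n by omega)).trans h1,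
        ((emb_minus_plus k 1 ζ).trans (emb_plus_plus (show k + 2 ≤ n by omega))).trans h1⟩
    · have h1 : Emb (Forms.qfMinus (n - 1) F 1 ζ) (Q.comp X.subtype) := ⟨e.toLinearMap, he⟩
      exact ⟨((emb_plus_plus (show k + 1 ≤ n - 1 by omega)).trans (emb_plus_minus (n - 1) 1 ζ)).trans h1,
        (emb_minus_minus (show k ≤ n - 1 by omega) 1 ζ).trans h1⟩
  by_cases h : plus
  · obtain ⟨S, hS, hSn, hSd, hSh⟩ := exists_of_emb hp hP
    exact ⟨S, hS, hSn, hSd.trans (by simp [two_mul]), iff_of_true (hSh.2 (half_qfPlus _)) h⟩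
  · obtain ⟨S, hS, hSn, hSd, hSh⟩ := exists_of_emb hm hM
    exact ⟨S, hS, hSn, hSd.trans (by simp; omega), iff_of_false (fun hh => not_half_qfMinus hab k (hSh.1 hh)) h⟩

/-- The alternating case. -/
theorem alt_decomp (hg : IsInv Q g) : ∀ {X : Submodule F (ι → F)}, NDeg Q X → Invt g X →
    (∀ v ∈ X, Q (nmap g v) = 0) →
    ∃ (e : ℕ) (P R : Submodule F (ι → F)), P ≤ X ∧ R ≤ X ∧ NDeg Q P ∧ NDeg Q R ∧
      (∀ u ∈ P, ∀ w ∈ R, QuadraticMap.polar Q u w = 0) ∧ P ⊔ R = X ∧ finrank F P = 4 * e ∧ Half Q P ∧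
      (∀ x ∈ R, g x = x) ∧ finrank F ↥(X.map (nmap g)) = 2 * e ∧
      ∀ e' ≤ e, ∃ P' ≤ P, NDeg Q P' ∧ Invt g P' ∧ finrank F P' = 4 * e' ∧ Half Q P' := by
  intro X
  induction hn : finrank F X using Nat.strong_induction_on generalizing X with
  | _ n ih =>
  intro hX hXi halt
  by_cases hfix : ∀ x ∈ X, g x = x
  · refine ⟨0, ⊥, X, bot_le, le_rfl, fun x hx _ => (Submodule.mem_bot F).1 hx, hX,
      fun u hu w _ => by rw [(Submodule.mem_bot F).1 hu, QuadraticMap.polar_zero_left], bot_sup_eq X,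
      by simp, ⟨⊥, le_rfl, fun u hu => by rw [(Submodule.mem_bot F).1 hu, QuadraticMap.map_zero], by simp⟩,
      hfix, ?_, fun e' he' => ⟨⊥, le_rfl, fun x hx _ => (Submodule.mem_bot F).1 hx,
        fun x hx => by rw [(Submodule.mem_bot F).1 hx, map_zero]; exact zero_mem _, by simp; omega,
        ⟨⊥, le_rfl, fun u hu => by rw [(Submodule.mem_bot F).1 hu, QuadraticMap.map_zero], by simp⟩⟩⟩
    rw [mul_zero, Submodule.finrank_eq_zero, eq_bot_iff]
    rintro _ ⟨x, hx, rfl⟩
    simp [nmap, hfix x hx]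
  push Not at hfix
  obtain ⟨u, hu, hgu⟩ := hfix
  have hNu0 : nmap g u ≠ 0 := fun h => hgu (by simpa [nmap, sub_eq_zero] using h)
  obtain ⟨v, hv, huv⟩ := exists_dual_vec hX (hg.mem hXi hu) hNu0
  set N := nmap g with hN
  have huNv : QuadraticMap.polar Q u (N v) = 1 := by rw [← hg.sym]; exact huv
  have hvv : QuadraticMap.polar Q v (N v) = 0 := by rw [← hg.diag]; exact halt v hv
  have huu : QuadraticMap.polar Q u (N u) = 0 := by rw [← hg.diag]; exact halt u hu
  let L : (Fin 4 → F) →ₗ[F] (ι → F) := Fintype.linearCombination F ![u, N u, v, N v]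
  have hL : ∀ c, L c = c 0 • u + c 1 • N u + c 2 • v + c 3 • N v := fun c => by
    simp [L, Fintype.linearCombination_apply, Fin.sum_univ_four]
  have hkey : ∀ c, (∀ y, QuadraticMap.polar Q (L c) (L y) = 0) → c = 0 := fun c hc => by
    have e0 := hc ![0, 0, 0, 1]
    have e1 := hc ![0, 1, 0, 0]
    have e2 := hc ![1, 0, 0, 0]
    have e3 := hc ![0, 0, 1, 0]
    simp only [hL, Matrix.cons_val_zero, Matrix.cons_val_one, Matrix.cons_val, zero_smul, one_smul, zero_add,
      add_zero, QuadraticMap.polar_add_left, QuadraticMap.polar_smul_left, smul_eq_mul] at e0 e1 e2 e3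
    have p1 : QuadraticMap.polar Q (N u) (N v) = 0 := hg.orth u v
    have p2 : QuadraticMap.polar Q (N v) (N u) = 0 := hg.orth v u
    have p3 : QuadraticMap.polar Q (N u) (N u) = 0 := hg.orth u u
    have p4 : QuadraticMap.polar Q (N v) (N v) = 0 := hg.orth v v
    have p5 : QuadraticMap.polar Q v (N u) = 1 := by rw [QuadraticMap.polar_comm]; exact huv
    have p6 : QuadraticMap.polar Q (N u) u = 0 := by rw [QuadraticMap.polar_comm]; exact huu
    have p7 : QuadraticMap.polar Q (N v) u = 1 := by rw [QuadraticMap.polar_comm]; exact huNv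
    have p8 : QuadraticMap.polar Q (N v) v = 0 := by rw [QuadraticMap.polar_comm]; exact hvv
    simp only [p1, p2, p3, p4, p5, p6, p7, p8, huNv, hvv, huu, huv, mul_zero, mul_one, add_zero, zero_add] at e0 e1 e2 e3
    rw [e0, e1, zero_mul] at e2 e3
    simp only [zero_mul, zero_add, add_zero] at e2 e3
    funext i; fin_cases i
    · exact e0
    · exact e3
    · exact e1
    · exact e2
  have hLi : Function.Injective L := (injective_iff_map_eq_zero L).2 fun c hc =>
    hkey c fun y => by rw [hc, QuadraticMap.polar_zero_left]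
  set B := LinearMap.range L with hB
  have hBX : B ≤ X := by
    rintro _ ⟨c, rfl⟩
    rw [hL]
    exact add_mem (add_mem (add_mem (X.smul_mem _ hu) (X.smul_mem _ (hg.mem hXi hu))) (X.smul_mem _ hv))
      (X.smul_mem _ (hg.mem hXi hv))
  have hBn : NDeg Q B := by
    rintro _ ⟨c, rfl⟩ hxy
    rw [hkey c fun y => hxy _ ⟨y, rfl⟩, map_zero]
  have hBd : finrank F B = 4 := by rw [LinearMap.finrank_range_of_inj hLi]; simp
  have nn : ∀ x, N (N x) = 0 := hg.nn
  have hNL : ∀ c, N (L c) = c 0 • N u + c 2 • N v := fun c => by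
    rw [hL]; simp [map_add, map_smul, nn]
  have hBi : Invt g B := by
    rintro _ ⟨c, rfl⟩
    refine ⟨![c 0, c 1 + c 0, c 2, c 3 + c 2], ?_⟩
    have e : g (L c) = L c + N (L c) := by simp [hN, nmap]
    rw [e, hNL, hL, hL]
    simp only [Matrix.cons_val_zero, Matrix.cons_val_one, Matrix.cons_val, add_smul]
    abel
  have hBN : finrank F ↥(B.map N) = 2 := by
    let L2 : (Fin 2 → F) →ₗ[F] (ι → F) := Fintype.linearCombination F ![N u, N v]
    have hL2 : ∀ c, L2 c = L ![0, c 0, 0, c 1] := fun c => by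
      rw [hL]; simp [L2, Fintype.linearCombination_apply, Fin.sum_univ_two]
    have hinj : Function.Injective L2 := fun x y hxy => by
      rw [hL2, hL2] at hxy
      have h4 := hLi hxy
      funext i; fin_cases i
      · simpa using congrFun h4 1
      · simpa using congrFun h4 3
    have heq : B.map N = LinearMap.range L2 := by
      apply le_antisymm
      · rintro _ ⟨_, ⟨c, rfl⟩, rfl⟩
        exact ⟨![c 0, c 2], by rw [hNL]; simp [L2, Fintype.linearCombination_apply, Fin.sum_univ_two]⟩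
      · rintro _ ⟨c, rfl⟩
        exact ⟨_, ⟨![c 0, 0, c 1, 0], rfl⟩,
          by rw [hNL]; simp [L2, Fintype.linearCombination_apply, Fin.sum_univ_two]⟩
    rw [heq, LinearMap.finrank_range_of_inj hinj]; simp
  have hBh : Half Q B := by
    refine ⟨B.map N, ?_, ?_, by omega⟩
    · rintro _ ⟨x, hx, rfl⟩; exact hg.mem hBi hx
    · rintro _ ⟨x, hx, rfl⟩; exact halt x (hBX hx)
  obtain ⟨hX'n, hX'd⟩ := ndeg_inf_perp hX hBn hBX
  have hX'i : Invt g (X ⊓ perp Q B) := fun x hx => ⟨hXi x hx.1, hg.perp_invt hBi x hx.2⟩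
  obtain ⟨e, P, R, hP, hR, hPn, hRn, hPR, hsup, hPd, hPh, hRf, hrk, hsub⟩ :=
    ih _ (by omega) rfl hX'n hX'i fun x hx => halt x hx.1
  have hoBP : ∀ a ∈ B, ∀ b ∈ P, QuadraticMap.polar Q a b = 0 := fun a ha b hb => (hP hb).2 a ha
  have hdim : ∀ {P' : Submodule F (ι → F)}, P' ≤ P → finrank F ↥(B ⊔ P') = 4 + finrank F P' := fun {P'} hP' => by
    have h1 := Submodule.finrank_sup_add_finrank_inf_eq B P'
    rw [(disjoint_of_orth hBn fun a ha b hb => hoBP a ha b (hP' hb)).eq_bot, finrank_bot] at h1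
    omega
  refine ⟨e + 1, B ⊔ P, R, sup_le hBX (hP.trans inf_le_left), hR.trans inf_le_left, hBn.sup hPn hoBP, hRn,
    fun a ha b hb => ?_, by rw [sup_assoc, hsup, sup_inf_perp hBn hBX], by rw [hdim le_rfl]; omega,
    half_sup hBn hoBP hBh hPh, hRf, ?_, fun e' he' => ?_⟩
  · obtain ⟨c, hc, f, hf, rfl⟩ := Submodule.mem_sup.1 ha
    rw [QuadraticMap.polar_add_left, hPR f hf b hb, show QuadraticMap.polar Q c b = 0 from (hR hb).2 c hc, add_zero]
  · have h1 := PrimeOrderElt.finrank_map_pow_sup (N := N) (S := B) (T := X ⊓ perp Q B)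
      (by rintro _ ⟨x, hx, rfl⟩; exact hg.mem hBi hx) (by rintro _ ⟨x, hx, rfl⟩; exact hg.mem hX'i hx)
      ((disjoint_of_orth hBn fun a ha b (hb : b ∈ X ⊓ perp Q B) => hb.2 a ha).eq_bot) 1
    rw [pow_one, sup_inf_perp hBn hBX, hBN, hrk] at h1
    omega
  · rcases Nat.eq_zero_or_pos e' with rfl | he0
    · exact ⟨⊥, bot_le, fun x hx _ => (Submodule.mem_bot F).1 hx,
        fun x hx => by rw [(Submodule.mem_bot F).1 hx, map_zero]; exact zero_mem _, by simp,
        ⟨⊥, le_rfl, fun u hu => by rw [(Submodule.mem_bot F).1 hu, QuadraticMap.map_zero], by simp⟩⟩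
    obtain ⟨P', hP', hP'n, hP'i, hP'd, hP'h⟩ := hsub (e' - 1) (by omega)
    have ho' : ∀ a ∈ B, ∀ b ∈ P', QuadraticMap.polar Q a b = 0 := fun a ha b hb => hoBP a ha b (hP' hb)
    exact ⟨B ⊔ P', sup_le_sup le_rfl hP', hBn.sup hP'n ho', hBi.sup hP'i, by rw [hdim hP']; omega,
      half_sup hBn ho' hBh hP'h⟩

/-- The other case: an invariant plane of either type, with a good complement. -/
theorem exists_nonalt_plane (hg : IsInv Q g) {X : Submodule F (ι → F)} (hX : NDeg Q X) (hXi : Invt g X) {n : ℕ}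
    (hd : finrank F X = 2 * n) (hn : 2 ≤ n) (hna : ∃ v ∈ X, Q (nmap g v) ≠ 0) (plus : Prop) :
    ∃ B ≤ X, NDeg Q B ∧ Invt g B ∧ finrank F B = 2 ∧ (Half Q B ↔ plus) ∧
      ((∀ x ∈ X ⊓ perp Q B, g x = x) ∨ ∃ v ∈ X ⊓ perp Q B, Q (nmap g v) ≠ 0) := by
  classical
  set N := nmap g with hN
  obtain ⟨ζ, -, hab⟩ := Forms.exists_no_root (F := F)
  have h2 := hg.two
  have hc2 : ringChar F = 2 := CharP.ringChar_of_prime_eq_zero Nat.prime_two (by exact_mod_cast h2)
  -- the plane of a vector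
  have hplane : ∀ {u : ι → F}, u ∈ X → Q (N u) ≠ 0 →
      NDeg Q ((F ∙ u) ⊔ (F ∙ N u)) ∧ finrank F ↥((F ∙ u) ⊔ (F ∙ N u)) = 2 ∧ Invt g ((F ∙ u) ⊔ (F ∙ N u)) := by
    intro u hu hQu
    have hβ : QuadraticMap.polar Q u (N u) ≠ 0 := by rwa [← hg.diag]
    have hkey : ∀ a b : F, QuadraticMap.polar Q (a • u + b • N u) (N u) = 0 →
        QuadraticMap.polar Q (a • u + b • N u) u = 0 → a = 0 ∧ b = 0 := fun a b e1 e2 => by
      simp only [QuadraticMap.polar_add_left, QuadraticMap.polar_smul_left, smul_eq_mul, hN, hg.orth, mul_zero,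
        add_zero] at e1
      rw [← hN] at e1
      have ha : a = 0 := (mul_eq_zero.1 e1).resolve_right hβ
      rw [ha, zero_smul, zero_add, QuadraticMap.polar_smul_left, smul_eq_mul, QuadraticMap.polar_comm] at e2
      exact ⟨ha, (mul_eq_zero.1 e2).resolve_right hβ⟩
    refine ⟨fun x hx hxy => ?_, ?_, fun x hx => ?_⟩
    · obtain ⟨_, hy, _, hz, rfl⟩ := Submodule.mem_sup.1 hx
      obtain ⟨a, rfl⟩ := Submodule.mem_span_singleton.1 hy
      obtain ⟨b, rfl⟩ := Submodule.mem_span_singleton.1 hz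
      obtain ⟨rfl, rfl⟩ := hkey a b (hxy _ (Submodule.mem_sup_right (Submodule.mem_span_singleton_self _)))
        (hxy _ (Submodule.mem_sup_left (Submodule.mem_span_singleton_self _)))
      simp
    · have hd' : Disjoint (F ∙ u) (F ∙ N u) := by
        rw [Submodule.disjoint_def]
        intro x hy hz
        obtain ⟨a, rfl⟩ := Submodule.mem_span_singleton.1 hy
        obtain ⟨b, hb⟩ := Submodule.mem_span_singleton.1 hz
        have h0 : a • u + (-b) • N u = 0 := by rw [neg_smul, hb, add_neg_cancel]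
        obtain ⟨rfl, -⟩ := hkey a (-b) (by rw [h0, QuadraticMap.polar_zero_left]) (by rw [h0, QuadraticMap.polar_zero_left])
        rw [zero_smul]
      have h1 := Submodule.finrank_sup_add_finrank_inf_eq (F ∙ u) (F ∙ N u)
      rw [hd'.eq_bot, finrank_bot, finrank_span_singleton fun h => hβ (by rw [h, QuadraticMap.polar_zero_left]),
        finrank_span_singleton fun h => hβ (by rw [h, QuadraticMap.polar_zero_right])] at h1
      omega
    · obtain ⟨_, hy, _, hz, rfl⟩ := Submodule.mem_sup.1 hx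
      obtain ⟨a, rfl⟩ := Submodule.mem_span_singleton.1 hy
      obtain ⟨b, rfl⟩ := Submodule.mem_span_singleton.1 hz
      have e1 : g u = u + N u := by simp [hN, nmap]
      have e2 : g (N u) = N u := by
        have := hg.nn u
        rwa [nmap, LinearMap.sub_apply, Module.End.one_apply, sub_eq_zero] at this
      rw [map_add, map_smul, map_smul, e1, e2, smul_add, add_assoc, ← add_smul]
      exact Submodule.add_mem_sup (Submodule.smul_mem _ _ (Submodule.mem_span_singleton_self _))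
        (Submodule.smul_mem _ _ (Submodule.mem_span_singleton_self _))
  -- a fixed anisotropic vector orthogonal to a good plane
  obtain ⟨u, hu, hQu, k, hk, hgk, hQk, hku, hkNu, hrest⟩ : ∃ u ∈ X, Q (N u) ≠ 0 ∧ ∃ k ∈ X, g k = k ∧ Q k ≠ 0 ∧
      QuadraticMap.polar Q u k = 0 ∧ QuadraticMap.polar Q (N u) k = 0 ∧
      ((∀ x ∈ X ⊓ perp Q ((F ∙ u) ⊔ (F ∙ N u)), g x = x) ∨ ∃ w ∈ X, k = N w) := by
    obtain ⟨u₀, hu₀, hQu₀⟩ := hna
    obtain ⟨hBn, hBd, hBi⟩ := hplane hu₀ hQu₀
    set B := (F ∙ u₀) ⊔ (F ∙ N u₀) with hB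
    have hBX : B ≤ X := sup_le ((Submodule.span_singleton_le_iff_mem _ _).2 hu₀)
      ((Submodule.span_singleton_le_iff_mem _ _).2 (hg.mem hXi hu₀))
    obtain ⟨hRn, hRd⟩ := ndeg_inf_perp hX hBn hBX
    have ho : ∀ {x : ι → F}, x ∈ X ⊓ perp Q B →
        QuadraticMap.polar Q u₀ x = 0 ∧ QuadraticMap.polar Q (N u₀) x = 0 := fun hx =>
      ⟨hx.2 u₀ (Submodule.mem_sup_left (Submodule.mem_span_singleton_self _)),
        hx.2 _ (Submodule.mem_sup_right (Submodule.mem_span_singleton_self _))⟩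
    by_cases hfix : ∀ x ∈ X ⊓ perp Q B, g x = x
    · obtain ⟨k, hk, hQk⟩ := exists_aniso hRn (by omega)
      exact ⟨u₀, hu₀, hQu₀, k, hk.1, hfix k hk, hQk, (ho hk).1, (ho hk).2, Or.inl hfix⟩
    push Not at hfix
    obtain ⟨x, hx, hgx⟩ := hfix
    have hfixN : ∀ w, g (N w) = N w := fun w => by
      have := hg.nn w
      rwa [nmap, LinearMap.sub_apply, Module.End.one_apply, sub_eq_zero] at this
    by_cases hna' : ∃ w ∈ X ⊓ perp Q B, Q (N w) ≠ 0
    · obtain ⟨w, hw, hQw⟩ := hna'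
      refine ⟨u₀, hu₀, hQu₀, N w, hg.mem hXi hw.1, hfixN w, hQw, ?_, ?_, Or.inr ⟨w, hw.1, rfl⟩⟩
      · rw [← hg.sym]; exact (ho hw).2
      · exact hg.orth u₀ w
    push Not at hna'
    have hNx0 : N x ≠ 0 := fun h => hgx (by simpa [hN, nmap, sub_eq_zero] using h)
    obtain ⟨f, hf, hxf⟩ := exists_dual_vec hRn (hg.mem (X := X ⊓ perp Q B) (fun v hv => ⟨hXi v hv.1, hg.perp_invt hBi v hv.2⟩) hx) hNx0
    set β := Q (N u₀) with hβ
    have hu₀' : ∀ {y}, y ∈ X ⊓ perp Q B → QuadraticMap.polar Q (N u₀) (N y) = 0 := fun {y} _ => hg.orth u₀ y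
    refine ⟨u₀ + x, add_mem hu₀ hx.1, ?_, N (u₀ + β • f), hg.mem hXi (add_mem hu₀ (X.smul_mem _ hf.1)),
      hfixN _, ?_, ?_, hg.orth _ _, Or.inr ⟨_, add_mem hu₀ (X.smul_mem _ hf.1), rfl⟩⟩
    · rw [map_add, QuadraticMap.map_add (⇑Q), hna' x hx, hu₀' hx, add_zero, add_zero]; exact hQu₀
    · rw [map_add, map_smul, QuadraticMap.map_add (⇑Q), Orth.Q_smul, hna' f hf, QuadraticMap.polar_smul_right,
        hu₀' hf, smul_zero, mul_zero, add_zero, add_zero]
      exact hQu₀
    · rw [map_add, map_smul, QuadraticMap.polar_add_left, QuadraticMap.polar_add_right, QuadraticMap.polar_add_right,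
        QuadraticMap.polar_smul_right, QuadraticMap.polar_smul_right, ← hg.diag,
        show QuadraticMap.polar Q u₀ (N f) = 0 by rw [← hg.sym]; exact (ho hf).2,
        show QuadraticMap.polar Q x (N u₀) = 0 by rw [QuadraticMap.polar_comm]; exact (ho hx).2,
        show QuadraticMap.polar Q x (N f) = 1 by rw [← hg.sym]; exact hxf,
        smul_eq_mul, smul_eq_mul, mul_zero, add_zero, zero_add, mul_one, ← hβ]
      linear_combination β * h2
  set β := Q (N u) with hβ
  obtain ⟨t, ht⟩ : ∃ t : F, Q (u + t • k) = if plus then 0 else ζ * β := by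
    obtain ⟨t, ht⟩ := FiniteField.isSquare_of_char_two hc2 (((if plus then 0 else ζ * β) - Q u) / Q k)
    refine ⟨t, ?_⟩
    rw [QuadraticMap.map_add (⇑Q), Orth.Q_smul, QuadraticMap.polar_smul_right, hku, smul_zero, add_zero, ← ht,
      div_mul_cancel₀ _ hQk, add_sub_cancel]
  set u₁ := u + t • k with hu₁
  have hk1 : g k - k = 0 := by rw [hgk, sub_self]
  have hNu₁ : N u₁ = N u := by simp [hu₁, hN, nmap, map_add, map_smul, hgk]
  have hu₁X : u₁ ∈ X := add_mem hu (X.smul_mem _ hk)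
  obtain ⟨hBn, hBd, hBi⟩ := hplane hu₁X (by rw [hNu₁]; exact hQu)
  have hQab : ∀ a b : F, Q (a • u₁ + b • N u₁) = a * a * Q u₁ + b * b * β + a * b * β := fun a b => by
    rw [QuadraticMap.map_add (⇑Q), Orth.Q_smul, Orth.Q_smul, QuadraticMap.polar_smul_left,
      QuadraticMap.polar_smul_right, ← hg.diag, ← hN, hNu₁, ← hβ, smul_eq_mul, smul_eq_mul]
    ring
  refine ⟨_, sup_le ((Submodule.span_singleton_le_iff_mem _ _).2 hu₁X)
    ((Submodule.span_singleton_le_iff_mem _ _).2 (hg.mem hXi hu₁X)), hBn, hBi, hBd, ⟨fun hH => ?_, fun hp => ?_⟩, ?_⟩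
  · by_contra hp
    rw [if_neg hp] at ht
    obtain ⟨U, hU, hUs, hUd⟩ := hH
    obtain ⟨x, hx, hx0⟩ := (Submodule.ne_bot_iff U).1 (fun h => by rw [h, finrank_bot, hBd] at hUd; omega)
    obtain ⟨_, hy, _, hz, rfl⟩ := Submodule.mem_sup.1 (hU hx)
    obtain ⟨a, rfl⟩ := Submodule.mem_span_singleton.1 hy
    obtain ⟨b, rfl⟩ := Submodule.mem_span_singleton.1 hz
    have h0 := (hQab a b).symm.trans (hUs _ hx)
    rw [ht] at h0
    have h1 : (b ^ 2 + 1 * b * a + ζ * a ^ 2) * β = 0 := by linear_combination h0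
    obtain ⟨rfl, rfl⟩ := hab b a ((mul_eq_zero.1 h1).resolve_right hQu)
    simp at hx0
  · rw [if_pos hp] at ht
    refine ⟨F ∙ u₁, le_sup_left, fun x hx => ?_, ?_⟩
    · obtain ⟨a, rfl⟩ := Submodule.mem_span_singleton.1 hx
      rw [Orth.Q_smul, ht, mul_zero]
    · rw [finrank_span_singleton (fun h => hQu (by rw [hβ, ← hNu₁, h, map_zero, QuadraticMap.map_zero])), hBd]
  · rcases hrest with hfix | ⟨w, hw, rfl⟩
    · refine Or.inl fun x hx => ?_
      -- the plane changes by a fixed vector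
      by_contra hne
      have hux : QuadraticMap.polar Q (N u) x = 0 := by
        rw [← hNu₁]; exact hx.2 _ (Submodule.mem_sup_right (Submodule.mem_span_singleton_self _))
      set y := x + (-(QuadraticMap.polar Q u x) / β) • N u with hy
      have hyR : y ∈ X ⊓ perp Q ((F ∙ u) ⊔ (F ∙ N u)) := by
        refine ⟨add_mem hx.1 (X.smul_mem _ (hg.mem hXi hu)), fun z hz => ?_⟩
        obtain ⟨_, ha, _, hb, rfl⟩ := Submodule.mem_sup.1 hz
        obtain ⟨a, rfl⟩ := Submodule.mem_span_singleton.1 ha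
        obtain ⟨b, rfl⟩ := Submodule.mem_span_singleton.1 hb
        show QuadraticMap.polar Q (a • u + b • N u) y = 0
        simp only [hy, QuadraticMap.polar_add_left, QuadraticMap.polar_add_right, QuadraticMap.polar_smul_left,
          QuadraticMap.polar_smul_right, smul_eq_mul, hux, hN, hg.orth, ← hg.diag]
        rw [← hN, ← hβ]
        simp only [hux, mul_zero, add_zero, zero_add]
        field_simp
        ring
      refine hne ?_
      have h3 := hfix y hyR
      have e2 : g (N u) = N u := by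
        have := hg.nn u
        rwa [nmap, LinearMap.sub_apply, Module.End.one_apply, sub_eq_zero] at this
      rw [hy, map_add, map_smul, e2] at h3
      exact add_right_cancel h3
    · right
      have hw1 : QuadraticMap.polar Q (N u₁) w = 0 := by
        rw [hNu₁, hg.sym]; exact hku
      refine ⟨w + (-(QuadraticMap.polar Q u₁ w) / β) • N u₁,
        ⟨add_mem hw (X.smul_mem _ (hg.mem hXi hu₁X)), fun z hz => ?_⟩, ?_⟩
      · obtain ⟨_, ha, _, hb, rfl⟩ := Submodule.mem_sup.1 hz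
        obtain ⟨a, rfl⟩ := Submodule.mem_span_singleton.1 ha
        obtain ⟨b, rfl⟩ := Submodule.mem_span_singleton.1 hb
        show QuadraticMap.polar Q (a • u₁ + b • N u₁) _ = 0
        simp only [QuadraticMap.polar_add_left, QuadraticMap.polar_add_right, QuadraticMap.polar_smul_left,
          QuadraticMap.polar_smul_right, smul_eq_mul, hw1, hN, hg.orth, ← hg.diag]
        rw [← hN, hNu₁, ← hβ]
        rw [hNu₁] at hw1
        simp only [hw1, mul_zero, add_zero, zero_add]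
        field_simp
        ring
      · rw [map_add, map_smul, hN, hg.nn, smul_zero, add_zero]; exact hQk

/-- Both types in every dimension. -/
theorem exists_nonalt (hg : IsInv Q g) : ∀ (h : ℕ) {X : Submodule F (ι → F)} {n : ℕ}, NDeg Q X → Invt g X →
    finrank F X = 2 * n → (∃ v ∈ X, Q (nmap g v) ≠ 0) → 0 < h → h < n → ∀ plus : Prop,
    ∃ W ≤ X, NDeg Q W ∧ Invt g W ∧ finrank F W = 2 * h ∧ (Half Q W ↔ plus) := by
  intro h
  induction h with
  | zero => intro X n _ _ _ _ h0; omega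
  | succ h ih =>
    intro X n hX hXi hd hna _ hlt plus
    rcases Nat.eq_zero_or_pos h with rfl | hpos
    · obtain ⟨B, hB, hBn, hBi, hBd, hBh, -⟩ := exists_nonalt_plane hg hX hXi hd (by omega) hna plus
      exact ⟨B, hB, hBn, hBi, by omega, hBh⟩
    obtain ⟨B, hB, hBn, hBi, hBd, hBh, hrest⟩ := exists_nonalt_plane hg hX hXi hd (by omega) hna True
    obtain ⟨hRn, hRd⟩ := ndeg_inf_perp hX hBn hB
    obtain ⟨W, hW, hWn, hWi, hWd, hWh⟩ : ∃ W ≤ X ⊓ perp Q B, NDeg Q W ∧ Invt g W ∧ finrank F W = 2 * h ∧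
        (Half Q W ↔ plus) := by
      rcases hrest with hfix | hna'
      · obtain ⟨S, hS, hSn, hSd, hSh⟩ := exists_sub_half hRn (n := n - 1) (h := h) (by omega) hpos (by omega) plus
          (fun he => by omega)
        exact ⟨S, hS, hSn, fun x hx => by rw [hfix x (hS hx)]; exact hx, hSd, hSh⟩
      · exact ih hRn (fun x hx => ⟨hXi x hx.1, hg.perp_invt hBi x hx.2⟩) (n := n - 1) (by omega) hna' hpos
          (by omega) plus
    have ho : ∀ a ∈ B, ∀ b ∈ W, QuadraticMap.polar Q a b = 0 := fun a ha b hb => (hW hb).2 a ha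
    have hdim := Submodule.finrank_sup_add_finrank_inf_eq B W
    rw [(disjoint_of_orth hBn ho).eq_bot, finrank_bot] at hdim
    refine ⟨B ⊔ W, sup_le hB (hW.trans inf_le_left), hBn.sup hWn ho, hBi.sup hWi, by omega, ?_⟩
    rw [half_sup_iff hBn hWn ho (a := 1) (by omega) hWd, hBh, hWh]
    simp

/-- An element without an invariant space of dimension `2h` and type `plus` has `(g-1)V` singular. -/
theorem exists_char_two (hg : IsInv Q g) (hQ : Q.polarBilin.Nondegenerate) {d h : ℕ}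
    (hd : Fintype.card ι = 2 * d) (h0 : 0 < h) (hlt : h < d) (plus : Prop)
    (hev : ∀ e : ℕ, 2 * e ≤ d → (2 * e = d → Half Q (⊤ : Submodule F (ι → F))) →
      ∃ j, (h = j + 2 * ((h - j) / 2)) ∧ (h - j) / 2 ≤ e ∧ j ≤ d - 2 * e ∧ (j = 0 → plus) ∧
        (0 < j → j = d - 2 * e → (Half Q (⊤ : Submodule F (ι → F)) ↔ plus))) :
    ∃ W : Submodule F (ι → F), finrank F W = 2 * h ∧ NDeg Q W ∧ (Half Q W ↔ plus) ∧ Invt g W := by
  have hdim : finrank F (⊤ : Submodule F (ι → F)) = 2 * d := by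
    rw [finrank_top, Module.finrank_fintype_fun_eq_card, hd]
  by_cases hna : ∃ v : ι → F, Q (nmap g v) ≠ 0
  · obtain ⟨v, hv⟩ := hna
    obtain ⟨W, -, hWn, hWi, hWd, hWh⟩ := exists_nonalt hg h (ndeg_top hQ) (fun _ _ => Submodule.mem_top) hdim
      ⟨v, Submodule.mem_top, hv⟩ h0 hlt plus
    exact ⟨W, hWd, hWn, hWh, hWi⟩
  push Not at hna
  obtain ⟨e, P, R, -, -, hPn, hRn, hPR, hsup, hPd, hPh, hRf, -, hsub⟩ :=
    alt_decomp hg (ndeg_top hQ) (fun _ _ => Submodule.mem_top) fun v _ => hna v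
  have hsumd := Submodule.finrank_sup_add_finrank_inf_eq P R
  rw [(disjoint_of_orth hPn hPR).eq_bot, finrank_bot, hsup, hdim] at hsumd
  obtain ⟨j, hj, hje, hjd, hj0, hjtop⟩ := hev e (by omega) fun he => by
    have hR0 : R = ⊥ := Submodule.finrank_eq_zero.1 (by omega)
    rwa [← hsup, hR0, sup_bot_eq]
  obtain ⟨P', hP', hP'n, hP'i, hP'd, hP'h⟩ := hsub ((h - j) / 2) hje
  rcases Nat.eq_zero_or_pos j with rfl | hjp
  · exact ⟨P', by omega, hP'n, iff_of_true hP'h (hj0 rfl), hP'i⟩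
  obtain ⟨S, hS, hSn, hSd, hSh⟩ := exists_sub_half hRn (n := d - 2 * e) (h := j) (by omega) hjp hjd plus
    (fun he => by
      have h3 := half_sup_iff hPn hRn hPR (a := 2 * e) (b := d - 2 * e) (by omega) (by omega)
      rw [hsup] at h3
      have := hjtop hjp he
      tauto)
  have ho : ∀ a ∈ P', ∀ b ∈ S, QuadraticMap.polar Q a b = 0 := fun a ha b hb => hPR a (hP' ha) b (hS hb)
  have hdim' := Submodule.finrank_sup_add_finrank_inf_eq P' S
  rw [(disjoint_of_orth hP'n ho).eq_bot, finrank_bot] at hdim'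
  refine ⟨P' ⊔ S, by omega, hP'n.sup hSn ho, ?_, hP'i.sup fun x hx => by rw [hRf x (hS hx)]; exact hx⟩
  rw [half_sup_iff hP'n hSn ho (a := 2 * ((h - j) / 2)) (by omega) hSd]
  tauto

end Cfsg.Agent.OrthPrime
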