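import Cfsg.Agent.EqLemmas
import Cfsg.Agent.Lib.OrthPrime.InvSplit
import Cfsg.Agent.Lib.OrthPrime.Preds

/-!
# Isometry classes of non-degenerate subspaces of odd dimension

* `exists_odd_parts` : such a space is a plus-type space and an anisotropic line
* `exists_iso_of_parts` : the line determines the class
* `exists_fixed_involution_odd` : involutory isometries fix spaces of both classes
-/

set_option autoImplicit false

namespace Cfsg.Agent.OrthPrime

open Module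

variable {F : Type*} [Field F] [Fintype F] {ι : Type} [Fintype ι] [DecidableEq ι]
  {Q : QuadraticForm F (ι → F)} (h2 : (2 : F) ≠ 0)

include h2

omit [Fintype F] in
theorem refl_move {u w : ι → F} (hu : Q u ≠ 0) (huw : Q w = Q u) (R : Submodule F (ι → F))
    (huR : ∀ x ∈ R, QuadraticMap.polar Q u x = 0) (hwR : ∀ x ∈ R, QuadraticMap.polar Q w x = 0) :
    ∃ g : Orth.IsoGrp Q, (∀ x ∈ R, Orth.ap g x = x) ∧ (Orth.ap g u = w ∨ Orth.ap g u = -w) := by
  by_cases h1 : Q (u - w) = 0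
  · have h4 : Q (u + w) ≠ 0 := by
      intro h3
      rw [Orth.Q_sub, huw] at h1
      rw [QuadraticMap.map_add (⇑Q), huw] at h3
      have h5 : (2 : F) * (2 * Q u) = 0 := by linear_combination h1 + h3
      exact mul_ne_zero h2 (mul_ne_zero h2 hu) h5
    refine ⟨Orth.refl Q (u + w), fun x hx => Orth.refl_ap_of_orth Q (by
      rw [QuadraticMap.polar_add_left, huR x hx, hwR x hx, add_zero]), Or.inr ?_⟩
    have h6 : QuadraticMap.polar Q (u + w) u = Q (u + w) := by
      rw [QuadraticMap.map_add (⇑Q), huw, QuadraticMap.polar_add_left, QuadraticMap.polar_self,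
        QuadraticMap.polar_comm (⇑Q) w u, nsmul_eq_mul, Nat.cast_ofNat]
      ring
    rw [Orth.refl_ap, h6, inv_mul_cancel₀ h4, one_smul]
    abel
  · refine ⟨Orth.refl Q (u - w), fun x hx => Orth.refl_ap_of_orth Q (by
      rw [QuadraticMap.polar_sub_left, huR x hx, hwR x hx, sub_zero]), Or.inl ?_⟩
    have h6 : QuadraticMap.polar Q (u - w) u = Q (u - w) := by
      rw [Orth.Q_sub, huw, QuadraticMap.polar_sub_left, QuadraticMap.polar_self,
        QuadraticMap.polar_comm (⇑Q) w u, nsmul_eq_mul, Nat.cast_ofNat]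
      ring
    rw [Orth.refl_ap, h6, inv_mul_cancel₀ h1, one_smul, sub_sub_cancel]

/-- The line determines the class. -/
theorem exists_iso_of_parts (hQ : Q.polarBilin.Nondegenerate) {A A' : Submodule F (ι → F)} {h : ℕ}
    (hA : NDeg Q A) (hA' : NDeg Q A') (hd : finrank F A = 2 * h) (hd' : finrank F A' = 2 * h)
    (hiff : Half Q A ↔ Half Q A') {w w' : ι → F} (hw : w ∈ perp Q A) (hw' : w' ∈ perp Q A') (h0 : Q w ≠ 0)
    (hww : Q w' = Q w) :
    ∃ e : ↥(A ⊔ F ∙ w) ≃ₗ[F] ↥(A' ⊔ F ∙ w'), ∀ x : ↥(A ⊔ F ∙ w), Q (e x : ι → F) = Q (x : ι → F) := by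
  obtain ⟨e₀, he₀⟩ := isometric_of_half hA hA' hd hd' hiff
  obtain ⟨k, hk, hke⟩ := Forms.witt_quadratic Q hQ A A' e₀ he₀
  have hmap : A.map k.toLinearMap = A' := le_antisymm
    (by rintro _ ⟨v, hv, rfl⟩; show k v ∈ A'; rw [hke ⟨v, hv⟩]; exact (e₀ ⟨v, hv⟩).2)
    fun y hy => ⟨(e₀.symm ⟨y, hy⟩ : A), (e₀.symm ⟨y, hy⟩).2, by
      show k _ = y
      rw [hke, e₀.apply_symm_apply]⟩
  have hkw : k w ∈ perp Q A' := fun y hy => by
    obtain ⟨v, hv, rfl⟩ := hmap.ge hy
    exact (polar_inv Q (g := k.toLinearMap) hk v w).trans (hw v hv)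
  obtain ⟨g, hgR, hgw⟩ := refl_move h2 (u := k w) (w := w') (by rw [hk]; exact h0) (by rw [hk, hww]) A'
    (fun x hx => by rw [QuadraticMap.polar_comm]; exact hkw x hx)
    (fun x hx => by rw [QuadraticMap.polar_comm]; exact hw' x hx)
  let L : (ι → F) →ₗ[F] (ι → F) := (Orth.ap g).comp k.toLinearMap
  have hL : ∀ v, Q (L v) = Q v := fun v => by simp [L, Orth.Q_ap, hk]
  have hLi : Function.Injective L := fun x y hxy => by
    have := congrArg (Orth.ap g⁻¹) hxy
    simp only [L, LinearMap.comp_apply, ← Orth.ap_mul, inv_mul_cancel, Orth.ap_one] at this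
    exact k.injective this
  have hLmap : (A ⊔ F ∙ w).map L = A' ⊔ F ∙ w' := by
    rw [Submodule.map_sup, Submodule.map_span, Set.image_singleton]
    congr 1
    · refine le_antisymm ?_ fun y hy => ?_
      · rintro _ ⟨v, hv, rfl⟩
        show Orth.ap g (k v) ∈ A'
        have hkv : k v ∈ A' := hmap.le ⟨v, hv, rfl⟩
        rw [hgR (k v) hkv]; exact hkv
      · obtain ⟨v, hv, rfl⟩ := hmap.ge hy
        exact ⟨v, hv, hgR (k v) (hmap.le ⟨v, hv, rfl⟩)⟩
    · show F ∙ Orth.ap g (k w) = F ∙ w'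
      rcases hgw with h | h <;> rw [h]
      rw [← Set.neg_singleton, Submodule.span_neg]
  exact ⟨(Submodule.equivMapOfInjective L hLi _).trans (LinearEquiv.ofEq _ _ hLmap), fun x => hL x⟩

/-- A non-degenerate space of odd dimension is a plus-type space and an anisotropic line. -/
theorem exists_odd_parts {W : Submodule F (ι → F)} (hW : NDeg Q W) {h : ℕ} (hd : finrank F W = 2 * h + 1) :
    ∃ A ≤ W, ∃ w ∈ W, NDeg Q A ∧ finrank F A = 2 * h ∧ Half Q A ∧ w ∈ perp Q A ∧ Q w ≠ 0 ∧ A ⊔ F ∙ w = W := by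
  obtain ⟨A, hA, B, hB, hAn, -, hAB, hH⟩ := exists_split (Q := Q) h2 True h hW (M := ⊥)
    (fun x hx _ => (Submodule.mem_bot F).1 hx)
    (fun u _ w hw => by rw [(Submodule.mem_bot F).1 hw, QuadraticMap.polar_zero_right]) (by omega) (Or.inr trivial)
  obtain rfl : B = ⊥ := le_bot_iff.1 hB
  rw [finrank_bot, add_zero] at hAB
  rw [sup_bot_eq, iff_true] at hH
  obtain ⟨hRn, hRd⟩ := ndeg_inf_perp hW hAn hA
  obtain ⟨w, hw, hQw⟩ : ∃ w ∈ W ⊓ perp Q A, Q w ≠ 0 := by
    by_contra! hall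
    obtain ⟨x, hx, hx0⟩ := (Submodule.ne_bot_iff _).1 (fun h' : W ⊓ perp Q A = ⊥ => by
      rw [h', finrank_bot] at hRd; omega)
    exact hx0 (hRn x hx fun y hy => by
      simp [QuadraticMap.polar, hall x hx, hall y hy, hall _ (add_mem hx hy)])
  refine ⟨A, hA, w, hw.1, hAn, hAB, hH, hw.2, hQw, ?_⟩
  refine Submodule.eq_of_le_of_finrank_le (sup_le hA ((Submodule.span_singleton_le_iff_mem _ _).2 hw.1)) ?_
  have h1 := Submodule.finrank_sup_add_finrank_inf_eq A (F ∙ w)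
  rw [(disjoint_of_orth hAn fun u hu v hv => by
    obtain ⟨c, rfl⟩ := Submodule.mem_span_singleton.1 hv
    rw [QuadraticMap.polar_smul_right, show QuadraticMap.polar Q u w = 0 from hw.2 u hu, smul_zero]).eq_bot,
    finrank_bot, finrank_span_singleton fun h' => hQw (by rw [h', QuadraticMap.map_zero])] at h1
  omega

/-- An involutory isometry fixes a member of every class of odd dimension. -/
theorem exists_fixed_involution_odd (hQ : Q.polarBilin.Nondegenerate) (y : Module.End F (ι → F))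
    (hy : ∀ v, Q (y v) = Q v) (hy2 : y ^ 2 = 1) {W₀ : Submodule F (ι → F)} (hW₀ : NDeg Q W₀) {h : ℕ}
    (hd₀ : finrank F W₀ = 2 * h + 1) (hd : 2 * h + 3 ≤ Fintype.card ι) :
    ∃ W : Submodule F (ι → F), finrank F W = 2 * h + 1 ∧ NDeg Q W ∧
      (∃ e : W ≃ₗ[F] W₀, ∀ x : W, Q (e x : ι → F) = Q (x : ι → F)) ∧ Invt y W := by
  obtain ⟨A₀, -, w₀, -, hA₀, hd', hH₀, hw₀, hQw₀, hW₀'⟩ := exists_odd_parts h2 hW₀ hd₀
  have hyy : ∀ v, y (y v) = v := fun v => by rw [← Module.End.mul_apply, ← sq, hy2]; rfl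
  let P := LinearMap.ker (y - 1)
  let M := LinearMap.ker (y + 1)
  have hPm : ∀ {v}, v ∈ P ↔ y v = v := fun {v} => by simp [P, sub_eq_zero]
  have hMm : ∀ {v}, v ∈ M ↔ y v = -v := fun {v} => by simp [M, add_eq_zero_iff_eq_neg]
  have ho : ∀ u ∈ P, ∀ w ∈ M, QuadraticMap.polar Q u w = 0 := fun u hu w hw => by
    have h1 := polar_inv Q hy u w
    rw [hPm.1 hu, hMm.1 hw, QuadraticMap.polar_neg_right] at h1
    have h2' : (2 : F) * QuadraticMap.polar Q u w = 0 := by linear_combination -h1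
    exact (mul_eq_zero.1 h2').resolve_left h2
  have hdec : ∀ v : ι → F, ∃ a ∈ P, ∃ b ∈ M, a + b = v := fun v =>
    ⟨(2 : F)⁻¹ • (v + y v), hPm.2 (by rw [map_smul, map_add, hyy, add_comm]),
      (2 : F)⁻¹ • (v - y v), hMm.2 (by rw [map_smul, map_sub, hyy, ← smul_neg, neg_sub]), by
      rw [← smul_add, add_add_sub_cancel, ← two_smul F v, inv_smul_smul₀ h2]⟩
  have hnd := (Forms.nondegenerate_polarBilin_iff Q).1 hQ
  have hP : NDeg Q P := fun x hx hxy => hnd x fun v => by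
    obtain ⟨a, ha, b, hb, rfl⟩ := hdec v
    rw [QuadraticMap.polar_add_right, hxy a ha, ho x hx b hb, add_zero]
  have hM : NDeg Q M := fun x hx hxy => hnd x fun v => by
    obtain ⟨a, ha, b, hb, rfl⟩ := hdec v
    rw [QuadraticMap.polar_add_right, hxy b hb, QuadraticMap.polar_comm, ho a ha x hx, add_zero]
  have htot : finrank F P + finrank F M = Fintype.card ι := by
    have h1 := Submodule.finrank_sup_add_finrank_inf_eq P M
    rw [show P ⊔ M = ⊤ from eq_top_iff.2 fun v _ => by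
      obtain ⟨a, ha, b, hb, rfl⟩ := hdec v
      exact Submodule.add_mem_sup ha hb, (disjoint_of_orth hP ho).eq_bot, finrank_bot, finrank_top,
      Module.finrank_fintype_fun_eq_card] at h1
    omega
  obtain ⟨A, hA, B, hB, hAn, hBn, hdd, hh⟩ := exists_split h2 True h hP hM ho (by omega) (Or.inr trivial)
  rw [iff_true] at hh
  have o : ∀ u ∈ A, ∀ w ∈ B, QuadraticMap.polar Q u w = 0 := fun u hu w hw => ho u (hA hu) w (hB hw)
  obtain ⟨hP'n, hP'd⟩ := ndeg_inf_perp hP hAn hA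
  obtain ⟨hM'n, hM'd⟩ := ndeg_inf_perp hM hBn hB
  -- a vector of the value of `w₀` in an eigenspace
  obtain ⟨w, hwAB, hQw, hyw⟩ : ∃ w ∈ perp Q (A ⊔ B), Q w = Q w₀ ∧ (y w = w ∨ y w = -w) := by
    have hperp : ∀ x, (∀ a ∈ A, QuadraticMap.polar Q a x = 0) → (∀ b ∈ B, QuadraticMap.polar Q b x = 0) →
        x ∈ perp Q (A ⊔ B) := fun x h1 h1' u hu => by
      obtain ⟨a, ha, b, hb, rfl⟩ := Submodule.mem_sup.1 hu
      show QuadraticMap.polar Q (a + b) x = 0
      rw [QuadraticMap.polar_add_left, h1 a ha, h1' b hb, add_zero]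
    have hval : ∀ {X : Submodule F (ι → F)}, NDeg Q X → 2 ≤ finrank F X → ∃ w ∈ X, Q w = Q w₀ := fun {X} hX hXd =>
      Orth.exists_Q_eq_in (Q := Q) X (fun x hx hx0 => by
        by_contra! hall
        exact hx0 (hX x hx hall)) hXd _
    rcases Nat.lt_or_ge (finrank F ↥(P ⊓ perp Q A)) 2 with hlt | hge
    · obtain ⟨w, hw, hQw⟩ := hval hM'n (by omega)
      exact ⟨w, hperp w (fun a ha => ho a (hA ha) w hw.1) hw.2, hQw, Or.inr (hMm.1 hw.1)⟩
    · obtain ⟨w, hw, hQw⟩ := hval hP'n hge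
      exact ⟨w, hperp w hw.2 (fun b hb => by rw [QuadraticMap.polar_comm]; exact ho w hw.1 b (hB hb)), hQw,
        Or.inl (hPm.1 hw.1)⟩
  have hAB : NDeg Q (A ⊔ B) := hAn.sup hBn o
  have hdAB : finrank F ↥(A ⊔ B) = 2 * h := by
    have h1 := Submodule.finrank_sup_add_finrank_inf_eq A B
    rw [(disjoint_of_orth hAn o).eq_bot, finrank_bot] at h1
    omega
  have hw0 : Q w ≠ 0 := by rw [hQw]; exact hQw₀
  obtain ⟨e, he⟩ := exists_iso_of_parts h2 hQ hAB hA₀ hdAB hd' (iff_of_true hh hH₀) hwAB hw₀ hw0 hQw.symm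
  refine ⟨A ⊔ B ⊔ F ∙ w, ?_, ?_, ⟨e.trans (LinearEquiv.ofEq _ _ hW₀'), he⟩, fun v hv => ?_⟩
  · rw [e.finrank_eq, hW₀', hd₀]
  · refine hAB.sup (ndeg_span_singleton h2 hw0) fun u hu v hv => ?_
    obtain ⟨c, rfl⟩ := Submodule.mem_span_singleton.1 hv
    rw [QuadraticMap.polar_smul_right, show QuadraticMap.polar Q u w = 0 from hwAB u hu, smul_zero]
  · obtain ⟨u, hu, x, hx, rfl⟩ := Submodule.mem_sup.1 hv
    obtain ⟨a, ha, b, hb, rfl⟩ := Submodule.mem_sup.1 hu
    obtain ⟨c, rfl⟩ := Submodule.mem_span_singleton.1 hx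
    rw [map_add, map_add, map_smul, hPm.1 (hA ha), hMm.1 (hB hb)]
    refine Submodule.add_mem_sup (Submodule.add_mem_sup ha (neg_mem hb)) ?_
    rcases hyw with h' | h' <;> rw [h']
    · exact Submodule.smul_mem _ _ (Submodule.mem_span_singleton_self w)
    · exact Submodule.smul_mem _ _ (neg_mem (Submodule.mem_span_singleton_self w))

end Cfsg.Agent.OrthPrime
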