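import Cfsg.Agent.EqLemmas
import Cfsg.Agent.Lib.OrthPrime.Preds
import Cfsg.Agent.Lib.Orth.UnipotentCriteria

/-!
# Elements of order `p` without invariant elliptic subspaces in odd dimension
-/

set_option autoImplicit false

namespace Cfsg.Agent.OrthPrime

open Module Cfsg.Agent.Orth

theorem odd_p_false {F : Type*} [Field F] [Fintype F] {p : ℕ} [Fact p.Prime] [CharP F p]
    (hqodd : Odd (Fintype.card F)) (d h : ℕ) (hd : 3 ≤ d) (hh : 2 * h ≤ 2 * d + 1)
    {Q : QuadraticForm F (Unit ⊕ (Fin d ⊕ Fin d) → F)} (hQf : Q = quadOdd d F)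
    (hyp : ∀ x : GL (Unit ⊕ (Fin d ⊕ Fin d)) F, x ∈ Cfsg.Geo.omegaGL ⇑Q → orderOf x = p →
      ∃ W : Submodule F (Unit ⊕ (Fin d ⊕ Fin d) → F), (finrank F ↥W = h + h ∧ NDeg Q W ∧ ¬ Half Q W) ∧
        W.map (Matrix.toLin' (x : Matrix (Unit ⊕ (Fin d ⊕ Fin d)) (Unit ⊕ (Fin d ⊕ Fin d)) F)) ≤ W) : False := by
  subst hQf
  have hp : Odd p := by
    rcases (Fact.out : p.Prime).eq_two_or_odd' with h | h
    · subst h
      exact absurd (FiniteField.even_card_iff_char_two.1 (ringChar.eq F 2) |> Nat.even_iff.2)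
        (Nat.not_even_iff_odd.2 hqodd)
    · exact h
  have hp3 : 3 ≤ p := by
    have := (Fact.out : p.Prime).two_le
    rw [Nat.odd_iff] at hp; omega
  have h2 := two_ne_zero_of_odd (F := F) hp
  have hG := quadOdd_nondeg (F := F) d h2
  -- the type
  obtain ⟨μ, hμ, hev, hsum, hbig, hone⟩ : ∃ μ : Multiset ℕ, (∀ e ∈ μ, 0 < e ∧ e ≤ p) ∧
      (∀ e : ℕ, Even e → Even (μ.count e)) ∧ μ.sum = 2 * d + 1 ∧ (∃ b ∈ μ, 2 ≤ b) ∧
      ((∀ e ∈ μ, e = 1 ∨ e = 2 ∨ e = 3) ∧ μ.count 1 + μ.count 3 ≤ 1) := by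
    rcases Nat.even_or_odd d with hde | hdo
    · refine ⟨Multiset.replicate d 2 + {1}, fun e he => ?_, fun e he => ?_, by simp; omega,
        ⟨2, by rw [Multiset.mem_add]; exact .inl (Multiset.mem_replicate.2 ⟨by omega, rfl⟩), le_rfl⟩, fun e he => ?_, ?_⟩
      · simp only [Multiset.mem_add, Multiset.mem_replicate, Multiset.mem_singleton] at he; rcases he with ⟨-, rfl⟩ | rfl <;> omega
      · simp [Multiset.count_replicate, Multiset.count_singleton]
        rw [Nat.even_iff] at he hde ⊢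
        split_ifs <;> omega
      · simp only [Multiset.mem_add, Multiset.mem_replicate, Multiset.mem_singleton] at he; omega
      · simp [Multiset.count_replicate, Multiset.count_singleton, -Multiset.count_eq_zero]
    · refine ⟨Multiset.replicate (d - 1) 2 + {3}, fun e he => ?_, fun e he => ?_, by simp; omega,
        ⟨3, by simp, by norm_num⟩, fun e he => ?_, ?_⟩
      · simp only [Multiset.mem_add, Multiset.mem_replicate, Multiset.mem_singleton] at he; rcases he with ⟨-, rfl⟩ | rfl <;> omega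
      · simp [Multiset.count_replicate, Multiset.count_singleton]
        rw [Nat.even_iff] at he ⊢
        rw [Nat.odd_iff] at hdo
        split_ifs <;> omega
      · simp only [Multiset.mem_add, Multiset.mem_replicate, Multiset.mem_singleton] at he; omega
      · simp [Multiset.count_replicate, Multiset.count_singleton, -Multiset.count_eq_zero]
  obtain ⟨hsmall, hone⟩ := hone
  obtain ⟨-, hkey⟩ := exists_sub_type (Q := quadOdd d F) hG hp (m := h + h)
    (P := fun W => finrank F ↥W = h + h ∧ NDeg (quadOdd d F) W ∧ ¬ Half (quadOdd d F) W)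
    (by simp; omega) (fun W hW => ⟨hW.1, (isNondegOn_iff W).2 hW.2.1⟩) (fun x hx ho _ _ => hyp x hx ho) hμ
    (by simp; omega) (exists_unipotent_odd hp μ hμ hev hsum)
  obtain ⟨ν, g, W, hν, hνs, hνe, hW, hinv, hνr⟩ := hkey hbig
  have hmem : ∀ b ∈ ν, b = 1 ∨ b = 2 ∨ b = 3 := fun b hb => hsmall b (Multiset.mem_of_le hν hb)
  have hc3 := Multiset.count_le_of_le 3 hν
  have hc1 := Multiset.count_le_of_le 1 hν
  have hs := sum_small hmem
  obtain ⟨c, hc⟩ := hνe 2 even_two
  have h0 : ν.count 1 = 0 ∧ ν.count 3 = 0 := by omega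
  have hν2 : ν = Multiset.replicate (ν.count 2) 2 := by
    refine Multiset.ext.2 fun x => ?_
    rw [Multiset.count_replicate]
    split_ifs with hx
    · rw [← hx]
    · by_cases hxν : x ∈ ν
      · rcases hmem x hxν with rfl | rfl | rfl <;> omega
      · exact Multiset.count_eq_zero.2 hxν
  refine hW.2.2 ⟨W.map (ap g - 1 : Module.End F _), ?_, ?_, ?_⟩
  · rintro _ ⟨v, hv, rfl⟩
    exact W.sub_mem (hinv v hv) hv
  · rintro _ ⟨v, hv, rfl⟩
    refine sub_one_singular (quadOdd d F) h2 (fun x => Q_ap g x) ?_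
    have h0' := hνr 2
    rw [show PrimeOrderElt.rk ν 2 = 0 by
      rw [hν2]; simp [PrimeOrderElt.rk], Submodule.finrank_eq_zero, eq_bot_iff] at h0'
    exact h0' ⟨v, hv, rfl⟩
  · have h1 := hνr 1
    rw [pow_one, show PrimeOrderElt.rk ν 1 = ν.count 2 by
      conv_lhs => rw [hν2]
      simp [PrimeOrderElt.rk]] at h1
    rw [h1, hW.1]
    omega

end Cfsg.Agent.OrthPrime
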