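import Cfsg.Agent.EqLemmas
import Cfsg.Agent.Lib.OrthPrime.OddClass
import Cfsg.Agent.Lib.OrthPrime.OddP
import Cfsg.Agent.Lib.OrthPrime.InvJ

/-!
# Unipotent elements and the classes of non-degenerate subspaces of odd dimension

* `isSquare_of_similar` : a similarity of an odd-dimensional space has a square multiplier
* `iso_of_fixed` : a unipotent element of type `2^(d-2), 3, 1` fixes subspaces of only one class
* `exists_bad_type` : a type with no sub-type of odd sum `m`
-/

set_option autoImplicit false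

namespace Cfsg.Agent.OrthPrime

open Module Cfsg.Agent.Orth

variable {F : Type*} [Field F] [Fintype F] {ι : Type} [Fintype ι] [DecidableEq ι]
  {Q : QuadraticForm F (ι → F)}

omit [Fintype F] [DecidableEq ι] in
theorem isSquare_of_similar {W : Submodule F (ι → F)} (hW : NDeg Q W) {k : ℕ}
    (hd : finrank F W = 2 * k + 1) (f : W ≃ₗ[F] W) {c : F}
    (hf : ∀ x : W, Q (f x : ι → F) = c * Q (x : ι → F)) : IsSquare c := by
  classical
  rcases eq_or_ne c 0 with rfl | hc
  · exact IsSquare.zero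
  let B : LinearMap.BilinForm F W := (Q.comp W.subtype).polarBilin
  have hB : B.Nondegenerate := hW.comp
  let b := Module.finBasis F W
  have hcomp : B.comp f.toLinearMap f.toLinearMap = c • B := by
    refine LinearMap.ext₂ fun x y => ?_
    show QuadraticMap.polar (Q.comp W.subtype) (f x) (f y) = c * QuadraticMap.polar (Q.comp W.subtype) x y
    simp only [QuadraticMap.polar, QuadraticMap.comp_apply, ← map_add, Submodule.coe_subtype]
    rw [hf, hf, hf]; ring
  have h := congrArg (fun B => (LinearMap.BilinForm.toMatrix b B).det) hcomp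
  simp only [LinearMap.BilinForm.toMatrix_comp b b, Matrix.det_mul, Matrix.det_transpose, map_smul,
    Matrix.det_smul, Fintype.card_fin, hd] at h
  have hdet := (LinearMap.BilinForm.nondegenerate_iff_det_ne_zero b).1 hB
  set D := (LinearMap.toMatrix b b f.toLinearMap).det
  have h1 : D * D = c ^ (2 * k + 1) := mul_right_cancel₀ hdet (by rw [← h]; ring)
  refine ⟨D / c ^ k, ?_⟩
  field_simp
  rw [show D ^ 2 = D * D by ring, h1]
  ring

omit [Fintype F] in
theorem exists_parts_of_fixed (h2 : (2 : F) ≠ 0) (g : IsoGrp Q) {W : Submodule F (ι → F)} (hW : NDeg Q W)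
    (hinv : ∀ v ∈ W, ap g v ∈ W) {h j : ℕ} (hd : finrank F W = 2 * h + 1)
    (hcase : (finrank F ↥(W.map ((ap g - 1 : Module.End F (ι → F)) ^ 2)) = 1 ∧ j = 1 ∧
        finrank F ↥(W.map (ap g - 1 : Module.End F (ι → F))) = h + 1) ∨
      (finrank F ↥(W.map ((ap g - 1 : Module.End F (ι → F)) ^ 2)) = 0 ∧ j = 0 ∧
        finrank F ↥(W.map (ap g - 1 : Module.End F (ι → F))) = h)) :
    ∃ A : Submodule F (ι → F), ∃ w : ι → F, NDeg Q A ∧ finrank F A = 2 * h ∧ Half Q A ∧ w ∈ perp Q A ∧ Q w ≠ 0 ∧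
      A ⊔ F ∙ w = W ∧
      (if j = 1 then ∃ v, (ap g - 1 : Module.End F (ι → F)) v = w ∧
          ((ap g - 1 : Module.End F (ι → F)) ^ 2) v ≠ 0
        else (ap g - 1 : Module.End F (ι → F)) w = 0) := by
  set N : Module.End F (ι → F) := ap g - 1 with hN
  have hNN : ∀ v, (N ^ 2) v = N (N v) := fun v => by rw [pow_two]; rfl
  have hNinv : ∀ v ∈ W, N v ∈ W := fun v hv => by
    rw [hN, LinearMap.sub_apply, Module.End.one_apply]; exact W.sub_mem (hinv v hv) hv
  have hstar : ∀ u y, QuadraticMap.polar Q (N u) y = -QuadraticMap.polar Q (ap g u) (N y) := fun u y => by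
    rw [hN, LinearMap.sub_apply, LinearMap.sub_apply, Module.End.one_apply, Module.End.one_apply,
      QuadraticMap.polar_sub_left, QuadraticMap.polar_sub_right, Orth.polar_ap]
    ring
  have hNk : ∀ u, ∀ k ∈ LinearMap.ker (N ^ 2), QuadraticMap.polar Q (N u) (N k) = 0 := fun u k hk => by
    rw [hstar, ← hNN, LinearMap.mem_ker.1 hk, QuadraticMap.polar_zero_right, neg_zero]
  have hQk : ∀ k ∈ LinearMap.ker (N ^ 2), Q (N k) = 0 := fun k hk =>
    sub_one_singular Q h2 (fun x => Q_ap g x) (LinearMap.mem_ker.1 hk)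
  have hrn : ∀ (S : Submodule F (ι → F)) (T : Module.End F (ι → F)),
      finrank F ↥(S.map T) + finrank F ↥(S ⊓ LinearMap.ker T) = finrank F S := fun S T => by
    have h1 := LinearMap.finrank_range_add_finrank_ker (T.comp S.subtype)
    have e1 : LinearMap.range (T.comp S.subtype) = S.map T := by rw [LinearMap.range_comp, Submodule.range_subtype]
    rw [e1, LinearMap.ker_comp] at h1
    have e2 : finrank F ↥((LinearMap.ker T).comap S.subtype) = finrank F ↥(S ⊓ LinearMap.ker T) := by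
      rw [← Submodule.map_comap_subtype, Submodule.finrank_map_subtype_eq]
    omega
  have hker : LinearMap.ker N ≤ LinearMap.ker (N ^ 2) := fun x hx => by
    rw [LinearMap.mem_ker] at hx ⊢
    rw [hNN, hx, map_zero]
  set K := W ⊓ LinearMap.ker (N ^ 2) with hK
  set U := K.map N with hU
  have hKW : K ≤ W := inf_le_left
  have hUW : U ≤ W := by rintro _ ⟨v, hv, rfl⟩; exact hNinv v hv.1
  have hUs : ∀ u ∈ U, Q u = 0 := by rintro _ ⟨v, hv, rfl⟩; exact hQk v hv.2
  have d2 := hrn W (N ^ 2)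
  rw [← hK] at d2
  have d1 := hrn W N
  have dU := hrn K N
  rw [hK, inf_assoc, inf_eq_right.2 hker, ← hK, ← hU] at dU
  -- the vector
  obtain ⟨w, hw, hQw, hwU, hwj⟩ : ∃ w ∈ W, Q w ≠ 0 ∧ (∀ u ∈ U, QuadraticMap.polar Q u w = 0) ∧
      (if j = 1 then ∃ v, N v = w ∧ (N ^ 2) v ≠ 0 else N w = 0) := by
    rcases hcase with ⟨hr2, rfl, hr1⟩ | ⟨hr2, rfl, hr1⟩
    · obtain ⟨_, ⟨v, hv, rfl⟩, hv0⟩ := (Submodule.ne_bot_iff (W.map (N ^ 2))).1
        (fun h0 => by rw [h0, finrank_bot] at hr2; omega)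
      refine ⟨N v, hNinv v hv, fun hQ0 => ?_, ?_, by rw [if_pos rfl]; exact ⟨v, rfl, hv0⟩⟩
      · have hdec : ∀ u ∈ W, ∃ a : F, u - a • v ∈ LinearMap.ker (N ^ 2) := fun u hu => by
          have hle : W.map (N ^ 2) ≤ F ∙ (N ^ 2) v := (Submodule.eq_of_le_of_finrank_le
            ((Submodule.span_singleton_le_iff_mem _ _).2 (Submodule.mem_map_of_mem hv))
            (by rw [finrank_span_singleton hv0, hr2])).ge
          obtain ⟨a, ha⟩ := Submodule.mem_span_singleton.1 (hle (Submodule.mem_map_of_mem hu))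
          exact ⟨a, by rw [LinearMap.mem_ker, map_sub, map_smul, ha, sub_self]⟩
        have hiso : ∀ u ∈ W, QuadraticMap.polar Q (N u) (N v) = 0 := fun u hu => by
          obtain ⟨a, ha⟩ := hdec u hu
          have e : N u = a • N v + N (u - a • v) := by rw [map_sub, map_smul, add_sub_cancel]
          rw [e, QuadraticMap.polar_add_left, QuadraticMap.polar_smul_left, QuadraticMap.polar_self, hQ0,
            QuadraticMap.polar_comm (⇑Q) (N (u - a • v)), hNk v _ ha]
          simp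
        refine hv0 (hW _ (by rw [hNN]; exact hNinv _ (hNinv v hv)) fun y hy => ?_)
        have hsurj : W.map (ap g) = W := Submodule.eq_of_le_of_finrank_le (by rintro _ ⟨u, hu, rfl⟩; exact hinv u hu)
          (Submodule.equivMapOfInjective (ap g) (fun a b e => ap_inj g e) W).finrank_eq.le
        rw [← hsurj] at hy
        obtain ⟨u, hu, rfl⟩ := hy
        rw [QuadraticMap.polar_comm, hNN]
        have := hiso u hu
        rwa [hstar, neg_eq_zero] at this
      · rintro _ ⟨k, hk, rfl⟩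
        rw [QuadraticMap.polar_comm]; exact hNk v k hk.2
    · have hsing : ¬ ∀ x ∈ W ⊓ LinearMap.ker N, Q x = 0 := fun hall => by
        have h1 := Forms.two_mul_finrank_singular_le (Q.comp W.subtype) hW.comp ((W ⊓ LinearMap.ker N).comap W.subtype)
          fun x hx => hall _ hx
        have e : finrank F ↥((W ⊓ LinearMap.ker N).comap W.subtype) = finrank F ↥(W ⊓ LinearMap.ker N) := by
          rw [← Submodule.finrank_map_subtype_eq, Submodule.map_comap_subtype, inf_eq_right.2 inf_le_left]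
        omega
      push Not at hsing
      obtain ⟨w, hw, hQw⟩ := hsing
      refine ⟨w, hw.1, hQw, ?_, by rw [if_neg (by omega)]; exact hw.2⟩
      rintro _ ⟨k, -, rfl⟩
      rw [hstar, LinearMap.mem_ker.1 hw.2, QuadraticMap.polar_zero_right, neg_zero]
  have hwle : F ∙ w ≤ W := (Submodule.span_singleton_le_iff_mem _ _).2 hw
  obtain ⟨hAn, hAd⟩ := ndeg_inf_perp hW (ndeg_span_singleton h2 hQw) hwle
  rw [finrank_span_singleton fun h' => hQw (by rw [h', QuadraticMap.map_zero])] at hAd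
  have hUperp : U ≤ W ⊓ perp Q (F ∙ w) := le_inf hUW fun u hu y hy => by
    obtain ⟨c, rfl⟩ := Submodule.mem_span_singleton.1 hy
    show QuadraticMap.polar Q (c • w) u = 0
    rw [QuadraticMap.polar_smul_left, QuadraticMap.polar_comm, hwU u hu, smul_zero]
  have hUd : finrank F U = h := by
    rcases hcase with ⟨hr2, -, hr1⟩ | ⟨hr2, -, hr1⟩ <;> omega
  have hA2 : finrank F ↥(W ⊓ perp Q (F ∙ w)) = 2 * h := by omega
  refine ⟨W ⊓ perp Q (F ∙ w), w, hAn, hA2, ⟨U, hUperp, hUs, by omega⟩, fun y hy => ?_, hQw,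
    by rw [sup_comm]; exact sup_inf_perp (ndeg_span_singleton h2 hQw) hwle, hwj⟩
  show QuadraticMap.polar Q y w = 0
  rw [QuadraticMap.polar_comm]; exact hy.2 w (Submodule.mem_span_singleton_self w)

omit [Fintype F] in
/-- Both kinds of vectors have one value up to squares. -/
theorem value_unique (h2 : (2 : F) ≠ 0) (g : IsoGrp Q)
    (hN2 : finrank F ↥(LinearMap.range ((ap g - 1 : Module.End F (ι → F)) ^ 2)) = 1)
    (hN1 : finrank F ↥(LinearMap.ker (ap g - 1 : Module.End F (ι → F))) =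
      finrank F ↥((LinearMap.ker ((ap g - 1 : Module.End F (ι → F)) ^ 2)).map (ap g - 1 : Module.End F (ι → F))) + 1)
    {j : ℕ} {w w' : ι → F} (hQw : Q w ≠ 0) (hQw' : Q w' ≠ 0)
    (hw : if j = 1 then ∃ v, (ap g - 1 : Module.End F (ι → F)) v = w ∧
        ((ap g - 1 : Module.End F (ι → F)) ^ 2) v ≠ 0
      else (ap g - 1 : Module.End F (ι → F)) w = 0)
    (hw' : if j = 1 then ∃ v, (ap g - 1 : Module.End F (ι → F)) v = w' ∧
        ((ap g - 1 : Module.End F (ι → F)) ^ 2) v ≠ 0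
      else (ap g - 1 : Module.End F (ι → F)) w' = 0) :
    ∃ a : F, a ≠ 0 ∧ Q w' = a * a * Q w := by
  set N : Module.End F (ι → F) := ap g - 1 with hN
  have hNN : ∀ v, (N ^ 2) v = N (N v) := fun v => by rw [pow_two]; rfl
  have hstar : ∀ u y, QuadraticMap.polar Q (N u) y = -QuadraticMap.polar Q (ap g u) (N y) := fun u y => by
    rw [hN, LinearMap.sub_apply, LinearMap.sub_apply, Module.End.one_apply, Module.End.one_apply,
      QuadraticMap.polar_sub_left, QuadraticMap.polar_sub_right, Orth.polar_ap]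
    ring
  have hQk : ∀ k ∈ LinearMap.ker (N ^ 2), Q (N k) = 0 := fun k hk =>
    sub_one_singular Q h2 (fun x => Q_ap g x) (LinearMap.mem_ker.1 hk)
  suffices h : ∃ (a : F), ∃ y : ι → F, Q y = 0 ∧ QuadraticMap.polar Q w y = 0 ∧ w' = a • w + y by
    obtain ⟨a, y, hy, hwy, rfl⟩ := h
    refine ⟨a, fun ha => hQw' (by rw [ha, zero_smul, zero_add, hy]), ?_⟩
    rw [QuadraticMap.map_add (⇑Q), Orth.Q_smul, QuadraticMap.polar_smul_left, hy, hwy, smul_zero, add_zero, add_zero]
  split_ifs at hw hw'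
  · obtain ⟨v, rfl, hv⟩ := hw
    obtain ⟨v', rfl, -⟩ := hw'
    have hspan : F ∙ (N ^ 2) v = LinearMap.range (N ^ 2) := Submodule.eq_of_le_of_finrank_le
      ((Submodule.span_singleton_le_iff_mem _ _).2 (LinearMap.mem_range_self _ v))
      (by rw [finrank_span_singleton hv, hN2])
    obtain ⟨a, ha⟩ := Submodule.mem_span_singleton.1 (hspan.ge (LinearMap.mem_range_self (N ^ 2) v'))
    have hk : v' - a • v ∈ LinearMap.ker (N ^ 2) := by rw [LinearMap.mem_ker, map_sub, map_smul, ha, sub_self]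
    refine ⟨a, N (v' - a • v), hQk _ hk, ?_, by rw [map_sub, map_smul, add_sub_cancel]⟩
    rw [hstar, ← hNN, LinearMap.mem_ker.1 hk, QuadraticMap.polar_zero_right, neg_zero]
  · set I := (LinearMap.ker (N ^ 2)).map N with hI
    have hIle : I ≤ LinearMap.ker N := by
      rintro _ ⟨k, hk, rfl⟩
      rw [LinearMap.mem_ker, ← hNN]; exact LinearMap.mem_ker.1 hk
    have hwI : w ∉ I := by
      rintro ⟨k, hk, rfl⟩
      exact hQw (hQk k hk)
    have hlt : I < I ⊔ F ∙ w := lt_of_le_of_ne le_sup_left fun he =>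
      hwI (he ▸ Submodule.mem_sup_right (Submodule.mem_span_singleton_self w))
    have heq : I ⊔ F ∙ w = LinearMap.ker N := Submodule.eq_of_le_of_finrank_le
      (sup_le hIle ((Submodule.span_singleton_le_iff_mem _ _).2 hw))
      (by have := Submodule.finrank_lt_finrank_of_lt hlt; omega)
    obtain ⟨y, ⟨k, hk, rfl⟩, x, hx, hyx⟩ := Submodule.mem_sup.1 (heq.ge (show w' ∈ LinearMap.ker N from hw'))
    obtain ⟨a, rfl⟩ := Submodule.mem_span_singleton.1 hx
    refine ⟨a, N k, hQk k hk, ?_, by rw [← hyx, add_comm]⟩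
    rw [QuadraticMap.polar_comm, hstar, hw, QuadraticMap.polar_zero_right, neg_zero]

/-- A unipotent element of type `2^(d-2), 3, 1` fixes spaces of one class of odd dimension. -/
theorem iso_of_fixed {p : ℕ} [Fact p.Prime] [CharP F p] (hp : Odd p) [Nonempty ι] (hQ : Q.polarBilin.Nondegenerate)
    {d : ℕ} (hd : 2 ≤ d) {g : IsoGrp Q} (hg : g ^ p = 1) (hcard : Fintype.card ι = 2 * d)
    (hrk : ∀ j, finrank F ↥(LinearMap.range ((ap g - 1 : Module.End F (ι → F)) ^ j)) =
      PrimeOrderElt.rk (Multiset.replicate (d - 2) 2 + {3} + {1}) j)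
    {h : ℕ} {W W' : Submodule F (ι → F)} (hW : NDeg Q W) (hW' : NDeg Q W')
    (hWi : ∀ v ∈ W, ap g v ∈ W) (hWi' : ∀ v ∈ W', ap g v ∈ W')
    (hWd : finrank F W = 2 * h + 1) (hWd' : finrank F W' = 2 * h + 1) :
    ∃ e : W ≃ₗ[F] W', ∀ x : W, Q (e x : ι → F) = Q (x : ι → F) := by
  have h2 := two_ne_zero_of_odd (F := F) hp
  set N : Module.End F (ι → F) := ap g - 1 with hN
  have hN2 : finrank F ↥(LinearMap.range (N ^ 2)) = 1 := by
    rw [hrk 2]; simp [PrimeOrderElt.rk]
  have hrange : finrank F ↥(LinearMap.range N) = d := by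
    rw [← pow_one N, hrk 1]; simp [PrimeOrderElt.rk]; omega
  have hNN : ∀ v, (N ^ 2) v = N (N v) := fun v => by rw [pow_two]; rfl
  have hk1 : finrank F ↥(LinearMap.ker N) = finrank F ↥((LinearMap.ker (N ^ 2)).map N) + 1 := by
    have a1 := LinearMap.finrank_range_add_finrank_ker N
    have a2 := LinearMap.finrank_range_add_finrank_ker (N ^ 2)
    have a3 := LinearMap.finrank_range_add_finrank_ker (N.comp (LinearMap.ker (N ^ 2)).subtype)
    have e1 : LinearMap.range (N.comp (LinearMap.ker (N ^ 2)).subtype) = (LinearMap.ker (N ^ 2)).map N := by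
      rw [LinearMap.range_comp, Submodule.range_subtype]
    have e2 : finrank F ↥((LinearMap.ker N).comap (LinearMap.ker (N ^ 2)).subtype) = finrank F ↥(LinearMap.ker N) := by
      rw [← Submodule.finrank_map_subtype_eq, Submodule.map_comap_subtype, inf_eq_right.2 fun x hx => by
        rw [LinearMap.mem_ker] at hx ⊢; rw [hNN, hx, map_zero]]
    rw [e1, LinearMap.ker_comp] at a3
    rw [Module.finrank_fintype_fun_eq_card, hcard] at a1 a2
    omega
  have hcase : ∀ {X : Submodule F (ι → F)}, NDeg Q X → (∀ v ∈ X, ap g v ∈ X) → finrank F X = 2 * h + 1 →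
      (finrank F ↥(X.map (N ^ 2)) = 1 ∧ h % 2 = 1 ∧ finrank F ↥(X.map N) = h + 1) ∨
      (finrank F ↥(X.map (N ^ 2)) = 0 ∧ h % 2 = 0 ∧ finrank F ↥(X.map N) = h) := by
    intro X hX hXi hXd
    obtain ⟨ν, hν, hνs, hνe, hνr⟩ := exists_invariant_type hQ hp hg
      (μ := Multiset.replicate (d - 2) 2 + {3} + {1})
      (fun b hb => by simp only [Multiset.mem_add, Multiset.mem_replicate, Multiset.mem_singleton] at hb; omega)
      hrk hXi (fun x hx hx0 => by
        by_contra! hall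
        exact hx0 (hX x hx hall))
    have hmem : ∀ b ∈ ν, b = 1 ∨ b = 2 ∨ b = 3 := fun b hb => by
      have := Multiset.mem_of_le hν hb
      simp only [Multiset.mem_add, Multiset.mem_replicate, Multiset.mem_singleton] at this; omega
    have hc3 := Multiset.count_le_of_le 3 hν
    have hc1 := Multiset.count_le_of_le 1 hν
    simp [Multiset.count_replicate, Multiset.count_singleton, -Multiset.count_eq_zero] at hc1 hc3
    obtain ⟨c, hc⟩ := hνe 2 even_two
    have hs := sum_small hmem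
    have hr : PrimeOrderElt.rk ν 1 = ν.count 2 + 2 * ν.count 3 ∧ PrimeOrderElt.rk ν 2 = ν.count 3 := by
      clear hs hc3 hc1 hc hνe hνs hν hνr
      induction ν using Multiset.induction with
      | empty => simp [PrimeOrderElt.rk]
      | cons b t ih =>
        have := ih fun x hx => hmem x (Multiset.mem_cons_of_mem hx)
        rw [PrimeOrderElt.rk_cons, PrimeOrderElt.rk_cons]
        rcases hmem b (Multiset.mem_cons_self _ _) with rfl | rfl | rfl <;>
          simp [Multiset.count_cons] <;> omega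
    have r2 := hνr 2
    have r1 := hνr 1
    rw [pow_one, hr.1, ← hN] at r1
    rw [hr.2, ← hN] at r2
    omega
  obtain ⟨j, hj⟩ : ∃ j, j = h % 2 := ⟨_, rfl⟩
  have hc : ∀ {X : Submodule F (ι → F)}, NDeg Q X → (∀ v ∈ X, ap g v ∈ X) → finrank F X = 2 * h + 1 →
      (finrank F ↥(X.map (N ^ 2)) = 1 ∧ j = 1 ∧ finrank F ↥(X.map N) = h + 1) ∨
      (finrank F ↥(X.map (N ^ 2)) = 0 ∧ j = 0 ∧ finrank F ↥(X.map N) = h) := fun a b c => hj ▸ hcase a b c
  obtain ⟨A, w, hA, hAd, hAH, hwA, hQw, hAw, hwj⟩ := exists_parts_of_fixed h2 g hW hWi hWd (hc hW hWi hWd)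
  obtain ⟨A', w', hA', hAd', hAH', hwA', hQw', hAw', hwj'⟩ :=
    exists_parts_of_fixed h2 g hW' hWi' hWd' (hc hW' hWi' hWd')
  obtain ⟨a, ha, hval⟩ := value_unique h2 g hN2 hk1 hQw hQw' hwj hwj'
  obtain ⟨e, he⟩ := exists_iso_of_parts h2 hQ hA hA' hAd hAd' (iff_of_true hAH hAH') hwA
    (Submodule.smul_mem _ a⁻¹ hwA') hQw (by rw [Orth.Q_smul, hval]; field_simp)
  have hAw'' : A' ⊔ F ∙ (a⁻¹ • w') = W' := by
    rw [Submodule.span_singleton_smul_eq (IsUnit.mk0 _ (inv_ne_zero ha)), hAw']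
  exact ⟨(LinearEquiv.ofEq _ _ hAw.symm).trans (e.trans (LinearEquiv.ofEq _ _ hAw'')), fun x => he _⟩

/-- A type without a sub-type of odd sum `m`. -/
theorem exists_bad_type {p d m : ℕ} (hp3 : 3 ≤ p) (hd : 4 ≤ d) (hm : Odd m) :
    ∃ μ : Multiset ℕ, (∀ e ∈ μ, 0 < e ∧ e ≤ p) ∧ (∀ e : ℕ, Even e → Even (μ.count e)) ∧ μ.sum = 2 * d ∧
      (Odd d → ∃ c ∈ μ, Odd c) ∧ ¬ GoodSub m μ := by
  rw [Nat.odd_iff] at hm
  obtain ⟨t, ht⟩ : ∃ t, (t = 1 ∧ m % 4 = 3) ∨ (t = 3 ∧ m % 4 = 1) := by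
    rcases (show m % 4 = 3 ∨ m % 4 = 1 by omega) with h | h
    exacts [⟨1, Or.inl ⟨rfl, h⟩⟩, ⟨3, Or.inr ⟨rfl, h⟩⟩]
  obtain ⟨a, b, hab⟩ : ∃ a b : ℕ,
      (d % 2 = 0 ∧ a = d ∧ b = 0) ∨ (d % 2 = 1 ∧ b = 2 ∧ a + t = d) := by
    rcases (show d % 2 = 0 ∨ d % 2 = 1 by omega) with h | h
    · exact ⟨d, 0, Or.inl ⟨h, rfl, rfl⟩⟩
    · exact ⟨d - t, 2, Or.inr ⟨h, rfl, by omega⟩⟩
  refine ⟨Multiset.replicate a 2 + Multiset.replicate b t, fun e he => ?_, fun e he => ?_, ?_,
    fun h => ⟨t, ?_, ?_⟩, ?_⟩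
  · simp only [Multiset.mem_add, Multiset.mem_replicate] at he
    omega
  · rw [Multiset.count_add, Multiset.count_replicate, Multiset.count_replicate]
    rw [Nat.even_iff] at he ⊢
    split_ifs at * <;> omega
  · simp only [Multiset.sum_add, Multiset.sum_replicate, smul_eq_mul]
    rcases ht with ⟨rfl, -⟩ | ⟨rfl, -⟩ <;> omega
  · rw [Nat.odd_iff] at h
    exact Multiset.mem_add.2 (Or.inr (Multiset.mem_replicate.2 ⟨by omega, rfl⟩))
  · rw [Nat.odd_iff]; omega
  · rintro ⟨ν, hν, hνs, hνe⟩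
    have hmem : ∀ x ∈ ν, x = 1 ∨ x = 2 ∨ x = 3 := fun x hx => by
      have := Multiset.mem_of_le hν hx
      simp only [Multiset.mem_add, Multiset.mem_replicate] at this
      omega
    have hc3 := Multiset.count_le_of_le 3 hν
    have hc1 := Multiset.count_le_of_le 1 hν
    obtain ⟨c, hc⟩ := hνe 2 even_two
    rw [sum_small hmem] at hνs
    rw [Multiset.count_add, Multiset.count_replicate, Multiset.count_replicate] at hc1 hc3
    split_ifs at * <;> omega

end Cfsg.Agent.OrthPrime
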