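import Cfsg.Agent.EqLemmas
import Cfsg.Agent.Lib.OrthPrime.InvJ

/-!
# Elements of order two modulo scalars, in odd characteristic

An element of `Ω` whose square is a scalar is an involution, or has square `-1`.
-/

set_option autoImplicit false

namespace Cfsg.Agent.OrthPrime

open Module

variable {F : Type*} [Field F] [Fintype F] {ι : Type} [Fintype ι] [DecidableEq ι]
  {Q : QuadraticForm F (ι → F)}

theorem forall_two_iff (hG : Orth.Good Q) (h2 : (2 : F) ≠ 0) (hex : ∃ v, Q v ≠ 0)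
    (C : Submodule F (ι → F) → Prop)
    (hinv : ∀ y : Module.End F (ι → F), (∀ v, Q (y v) = Q v) → y ^ 2 = 1 → ∃ W, C W ∧ Invt y W) :
    (∀ x : GL ι F, x ∈ Cfsg.Geo.omegaGL ⇑Q →
      (∃ z : F, ((x ^ 2 : GL ι F) : Matrix ι ι F) = z • (1 : Matrix ι ι F)) →
      (∀ z : F, (x : Matrix ι ι F) ≠ z • (1 : Matrix ι ι F)) →
      ∃ W, C W ∧ W.map (Matrix.toLin' (x : Matrix ι ι F)) ≤ W) ↔
    (∀ g : Orth.IsoGrp Q, g ∈ Cfsg.Omega F ⇑Q → IsJ Q (Orth.ap g) → ∃ W, C W ∧ Invt (Orth.ap g) W) := by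
  obtain ⟨w, hw⟩ := hex
  have hap2 : ∀ (g : Orth.IsoGrp Q) (v : ι → F), Orth.ap g (Orth.ap g v) =
      ((((g : GL ι F) ^ 2 : GL ι F) : Matrix ι ι F)).mulVec v := fun g v => by
    rw [← Orth.ap_mul, Orth.ap_apply, ← sq, Subgroup.coe_pow]
  constructor
  · intro h g hg hJ
    obtain ⟨W, hW, hWm⟩ := h g (Orth.coe_mem_omegaGL.2 hg) ⟨-1, by
        refine Matrix.toLin'.injective (LinearMap.ext fun v => ?_)
        rw [Matrix.toLin'_apply, Matrix.toLin'_apply, ← hap2, hJ.sq, Matrix.smul_mulVec, Matrix.one_mulVec,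
          neg_one_smul]⟩ (fun z hz => hw (by
        have h1 : Orth.ap g w = z • w := by rw [Orth.ap_apply, hz, Matrix.smul_mulVec, Matrix.one_mulVec]
        have h3 := hJ.polar_self_j h2 w
        rw [h1, QuadraticMap.polar_smul_right, smul_eq_mul, QuadraticMap.polar_self, nsmul_eq_mul, Nat.cast_ofNat] at h3
        rcases mul_eq_zero.1 h3 with hz0 | h4
        · have := hJ.iso w
          rw [h1, hz0, zero_smul, QuadraticMap.map_zero] at this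
          exact this.symm
        · exact (mul_eq_zero.1 h4).resolve_left h2))
    exact ⟨W, hW, fun v hv => hWm ⟨v, hv, rfl⟩⟩
  · intro h x hx ⟨z, hz⟩ _
    obtain ⟨g, hg, rfl⟩ := Orth.mem_omegaGL_iff.1 hx
    have hgv : ∀ v, Orth.ap g (Orth.ap g v) = z • v := fun v => by
      rw [hap2, hz, Matrix.smul_mulVec, Matrix.one_mulVec]
    have hz2 : z * z = 1 := by
      have h1 : Q (Orth.ap g (Orth.ap g w)) = Q w := by rw [Orth.Q_ap, Orth.Q_ap]
      rw [hgv, Orth.Q_smul] at h1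
      exact mul_right_cancel₀ hw (h1.trans (one_mul _).symm)
    obtain ⟨W, hW, hinvW⟩ : ∃ W, C W ∧ Invt (Orth.ap g) W := by
      rcases mul_self_eq_one_iff.1 hz2 with rfl | rfl
      · exact hinv _ (fun v => Orth.Q_ap g v) (LinearMap.ext fun v => by
          rw [sq, Module.End.mul_apply, hgv, one_smul, Module.End.one_apply])
      · exact h g hg ⟨fun v => Orth.Q_ap g v, fun v => by rw [hgv, neg_one_smul]⟩
    refine ⟨W, hW, ?_⟩
    rintro _ ⟨v, hv, rfl⟩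
    exact hinvW v hv

/-- When some element with square `-1` lies in `Ω`. -/
theorem exists_j_omega_iff (hG : Orth.Good Q) (h2 : (2 : F) ≠ 0) {d : ℕ} (hd : Fintype.card ι = 2 * d) :
    (∃ g : Orth.IsoGrp Q, g ∈ Cfsg.Omega F ⇑Q ∧ IsJ Q (Orth.ap g)) ↔
      (Half Q (⊤ : Submodule F (ι → F)) ↔ (IsSquare (-1 : F) ∨ Even d)) ∧ (Even d ∨ IsSquare (2 : F)) := by
  constructor
  · rintro ⟨g, hg, hJ⟩
    refine ⟨?_, (j_mem_omega_iff hG h2 g hJ hd).1 hg⟩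
    obtain ⟨k, hk, hkH, -⟩ := j_decomp hJ h2 (ndeg_top hG.nd) (fun _ _ => Submodule.mem_top)
    rw [finrank_top, Module.finrank_fintype_fun_eq_card, hd] at hk
    obtain rfl : k = d := by omega
    exact hkH
  · rintro ⟨hH, hΩ⟩
    obtain ⟨g, hJ⟩ := exists_j hG.nd h2 hd hH
    exact ⟨g, (j_mem_omega_iff hG h2 g hJ hd).2 hΩ, hJ⟩

/-- Odd dimensions: only involutions fix subspaces. -/
theorem forall_two_odd_iff (hG : Orth.Good Q) (h2 : (2 : F) ≠ 0) (hex : ∃ v, Q v ≠ 0)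
    {d : ℕ} (hd : Fintype.card ι = 2 * d) (C : Submodule F (ι → F) → Prop)
    (hC : ∀ W, C W → NDeg Q W ∧ Odd (finrank F W))
    (hinv : ∀ y : Module.End F (ι → F), (∀ v, Q (y v) = Q v) → y ^ 2 = 1 → ∃ W, C W ∧ Invt y W) :
    (∀ x : GL ι F, x ∈ Cfsg.Geo.omegaGL ⇑Q →
      (∃ z : F, ((x ^ 2 : GL ι F) : Matrix ι ι F) = z • (1 : Matrix ι ι F)) →
      (∀ z : F, (x : Matrix ι ι F) ≠ z • (1 : Matrix ι ι F)) →
      ∃ W, C W ∧ W.map (Matrix.toLin' (x : Matrix ι ι F)) ≤ W) ↔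
    ¬ ((Half Q (⊤ : Submodule F (ι → F)) ↔ (IsSquare (-1 : F) ∨ Even d)) ∧ (Even d ∨ IsSquare (2 : F))) := by
  rw [forall_two_iff hG h2 hex C hinv, ← exists_j_omega_iff hG h2 hd]
  constructor
  · rintro h ⟨g, hg, hJ⟩
    obtain ⟨W, hW, hWi⟩ := h g hg hJ
    obtain ⟨k, hk, -, -⟩ := j_decomp hJ h2 (hC W hW).1 hWi
    have := (hC W hW).2
    rw [hk] at this
    exact absurd this (by simp)
  · exact fun h g hg hJ => absurd ⟨g, hg, hJ⟩ h

/-- Even dimensions. -/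
theorem forall_two_even_iff (hG : Orth.Good Q) (h2 : (2 : F) ≠ 0) (hex : ∃ v, Q v ≠ 0)
    {d : ℕ} (hd : Fintype.card ι = 2 * d) {h : ℕ} (h0 : 0 < h) (hhd : h < d) (plus : Prop)
    (C : Submodule F (ι → F) → Prop)
    (hC : ∀ W, C W ↔ (finrank F W = 2 * h ∧ NDeg Q W ∧ (Half Q W ↔ plus))) :
    (∀ x : GL ι F, x ∈ Cfsg.Geo.omegaGL ⇑Q →
      (∃ z : F, ((x ^ 2 : GL ι F) : Matrix ι ι F) = z • (1 : Matrix ι ι F)) →
      (∀ z : F, (x : Matrix ι ι F) ≠ z • (1 : Matrix ι ι F)) →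
      ∃ W, C W ∧ W.map (Matrix.toLin' (x : Matrix ι ι F)) ≤ W) ↔
    (¬ ((Half Q (⊤ : Submodule F (ι → F)) ↔ (IsSquare (-1 : F) ∨ Even d)) ∧ (Even d ∨ IsSquare (2 : F))) ∨
      (plus ↔ (IsSquare (-1 : F) ∨ Even h))) := by
  rw [forall_two_iff hG h2 hex C (fun y hy hy2 => by
    obtain ⟨W, hWd, hWn, hWh, hWi⟩ := exists_fixed_involution h2 hG.nd y hy hy2 plus (h := h) h0 (by omega)
    exact ⟨W, (hC W).2 ⟨hWd, hWn, hWh⟩, hWi⟩), ← exists_j_omega_iff hG h2 hd, or_iff_not_imp_left, not_not]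
  constructor
  · rintro hall ⟨g, hg, hJ⟩
    obtain ⟨W, hW, hWi⟩ := hall g hg hJ
    obtain ⟨hWd, hWn, hWh⟩ := (hC W).1 hW
    obtain ⟨k, hk, hkH, -⟩ := j_decomp hJ h2 hWn hWi
    obtain rfl : k = h := by omega
    exact hWh.symm.trans hkH
  · intro himp g hg hJ
    obtain ⟨k, hk, -, hsub⟩ := j_decomp hJ h2 (ndeg_top hG.nd) (fun _ _ => Submodule.mem_top)
    rw [finrank_top, Module.finrank_fintype_fun_eq_card, hd] at hk
    obtain ⟨W, -, hWn, hWi, hWd⟩ := hsub h (by omega)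
    obtain ⟨k', hk', hk'H, -⟩ := j_decomp hJ h2 hWn hWi
    obtain rfl : k' = h := by omega
    exact ⟨W, (hC W).2 ⟨hWd, hWn, hk'H.trans (himp ⟨g, hg, hJ⟩).symm⟩, hWi⟩

theorem isSquare_two_iff' (hodd : Fintype.card F % 2 = 1) :
    IsSquare (2 : F) ↔ (Fintype.card F % 8 = 1 ∨ Fintype.card F % 8 = 7) := by
  rw [FiniteField.isSquare_two_iff]
  omega

theorem isSquare_neg_one_iff' (hodd : Fintype.card F % 2 = 1) :
    IsSquare (-1 : F) ↔ Fintype.card F % 4 = 1 := by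
  rw [FiniteField.isSquare_neg_one_iff]
  omega

end Cfsg.Agent.OrthPrime
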