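import Cfsg.Agent.EqLemmas
import Cfsg.Agent.Lib.OrthPrime.CapArith
import Cfsg.Agent.Lib.OrthPrime.TwoElts
import Cfsg.Agent.Lib.OrthPrime.PClass

/-!
# Tools for the statements in even dimension
-/

set_option autoImplicit false

namespace Cfsg.Agent.OrthPrime

open Module

theorem half_quadPlus {F : Type*} [Field F] (d : ℕ) :
    Half (Orth.quadPlus d F) (⊤ : Submodule F (Fin d ⊕ Fin d → F)) := by
  rw [show Orth.quadPlus d F = Forms.qfPlus d F from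
    DFunLike.coe_injective ((Orth.coe_quadPlus d).trans (Forms.qfPlus_eq d).symm)]
  exact half_qfPlus d

theorem not_half_quadMinus {F : Type*} [Field F] [Finite F] (n : ℕ) {a b : F}
    (hab : ∀ x y : F, x ^ 2 + a * x * y + b * y ^ 2 = 0 → x = 0 ∧ y = 0) :
    ¬ Half (Orth.quadMinus n F a b) (⊤ : Submodule F ((Fin n ⊕ Fin n) ⊕ Fin 2 → F)) := by
  rw [show Orth.quadMinus n F a b = Forms.qfMinus n F a b from
    DFunLike.coe_injective ((Orth.coe_quadMinus n a b).trans (Forms.qfMinus_eq n a b).symm)]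
  exact not_half_qfMinus hab n

theorem odd_char {F : Type*} [Field F] [Fintype F] (p : ℕ) [Fact p.Prime] [CharP F p]
    (hodd : Odd (Fintype.card F)) :
    Odd p ∧ 3 ≤ p ∧ (2 : F) ≠ 0 ∧ Fintype.card F % 2 = 1 := by
  obtain ⟨k, hp, hk⟩ := FiniteField.card F p
  have h' := hodd
  rw [hk, Nat.odd_pow_iff k.ne_zero] at h'
  refine ⟨h', ?_, Orth.two_ne_zero_of_odd h', Nat.odd_iff.1 hodd⟩
  have := hp.two_le
  rw [Nat.odd_iff] at h'
  omega

variable {F : Type*} [Field F] [Fintype F] {ι : Type} [Fintype ι] [DecidableEq ι]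
  {Q : QuadraticForm F (ι → F)}

/-- The class of `W₀`. -/
def InClass (Q : QuadraticForm F (ι → F)) (W₀ W : Submodule F (ι → F)) : Prop :=
  finrank F W = finrank F W₀ ∧ NDeg Q W ∧ ∃ e : W ≃ₗ[F] W₀, ∀ x : W, Q (e x : ι → F) = Q (x : ι → F)

omit [Fintype F] [Fintype ι] [DecidableEq ι] in
theorem InClass.map {W₀ W : Submodule F (ι → F)} (h : InClass Q W₀ W) (k : (ι → F) ≃ₗ[F] (ι → F))
    (hk : ∀ v, Q (k v) = Q v) : InClass Q W₀ (W.map k.toLinearMap) := by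
  obtain ⟨hd, hn, e, he⟩ := h
  refine ⟨by rw [LinearEquiv.finrank_map_eq]; exact hd, hn.map k hk, (k.submoduleMap W).symm.trans e, fun x => ?_⟩
  rw [LinearEquiv.trans_apply, he]
  obtain ⟨y, rfl⟩ := (k.submoduleMap W).surjective x
  rw [LinearEquiv.symm_apply_apply]
  exact (hk y).symm

omit [Fintype F] [Fintype ι] [DecidableEq ι] in
theorem InClass.iso {W₀ W W' : Submodule F (ι → F)} (h : InClass Q W₀ W) (h' : InClass Q W₀ W') :
    ∃ e : W ≃ₗ[F] W', ∀ x : W, Q (e x : ι → F) = Q (x : ι → F) := by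
  obtain ⟨-, -, e, he⟩ := h
  obtain ⟨-, -, e', he'⟩ := h'
  refine ⟨e.trans e'.symm, fun x => ?_⟩
  rw [← he x, LinearEquiv.trans_apply, ← he' (e'.symm (e x)), LinearEquiv.apply_symm_apply]

omit [Fintype F] [Fintype ι] [DecidableEq ι] in
theorem similar_conj {c : F} (S : (ι → F) ≃ₗ[F] (ι → F)) (hS : ∀ v, Q (S v) = c * Q v)
    {y : Module.End F (ι → F)} (hy : ∀ v, Q (y v) = Q v) (v : ι → F) :
    Q (S.conj y v) = Q v := by
  obtain ⟨u, rfl⟩ := S.surjective v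
  simp [LinearEquiv.conj_apply, hS, hy]

omit [Fintype F] in
theorem exists_similitude {F : Type*} [Field F] [Finite F] (n : ℕ) {a b : F}
    (hab : ∀ x y : F, x ^ 2 + a * x * y + b * y ^ 2 = 0 → x = 0 ∧ y = 0) {c : F} (hc : c ≠ 0) :
    ∃ S : ((Fin n ⊕ Fin n) ⊕ Fin 2 → F) ≃ₗ[F] ((Fin n ⊕ Fin n) ⊕ Fin 2 → F),
      ∀ v, Orth.quadMinus n F a b (S v) = c * Orth.quadMinus n F a b v := by
  set Q₀ := Orth.quadMinus n F a b with hQ₀
  have hQ : Q₀.polarBilin.Nondegenerate := Orth.quadMinus_nondeg n hab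
  have hR : (c⁻¹ • Q₀).polarBilin.Nondegenerate := by
    rw [Forms.nondegenerate_polarBilin_iff] at hQ ⊢
    intro x hx
    refine hQ x fun y => ?_
    have := hx y
    simp only [QuadraticMap.coeFn_smul, QuadraticMap.polar_smul, smul_eq_mul] at this
    exact (mul_eq_zero.1 this).resolve_left (inv_ne_zero hc)
  rcases Forms.classify_even (c⁻¹ • Q₀) hR (m := n + 1) (by simp; omega) hab with ⟨e, he⟩ | ⟨-, e, he⟩
  · refine absurd ?_ (not_half_quadMinus n hab)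
    have h0 := (half_range (Q := c⁻¹ • Q₀) e.toLinearMap e.injective he ⊤).2 (half_qfPlus (n + 1))
    rw [Submodule.map_top, LinearEquiv.range] at h0
    obtain ⟨U, hU, hUs, hUd⟩ := h0
    refine ⟨U, hU, fun u hu => ?_, hUd⟩
    have := hUs u hu
    rw [smul_apply, smul_eq_mul] at this
    exact (mul_eq_zero.1 this).resolve_left (inv_ne_zero hc)
  · refine ⟨e, fun v => ?_⟩
    have h1 : c⁻¹ * Q₀ (e v) = Q₀ v := (he v).trans (congrFun
      ((Forms.qfMinus_eq n a b).trans (Orth.coe_quadMinus n a b).symm) v)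
    rw [← h1, mul_inv_cancel_left₀ hc]

/-- For `r = p` some element fixes no member of a class of odd dimension, in minus type and even `d`. -/
theorem p_elusive_minus {p : ℕ} [Fact p.Prime] [CharP F p] (hp : Odd p) {d : ℕ} (hd : 2 ≤ d) (hde : Even d)
    {a b : F} (hab : ∀ x y : F, x ^ 2 + a * x * y + b * y ^ 2 = 0 → x = 0 ∧ y = 0)
    {W₀ : Submodule F ((Fin (d - 1) ⊕ Fin (d - 1)) ⊕ Fin 2 → F)}
    (hW₀ : NDeg (Orth.quadMinus (d - 1) F a b) W₀) {h : ℕ} (hd₀ : finrank F W₀ = 2 * h + 1)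
    (hyp : ∀ x : GL ((Fin (d - 1) ⊕ Fin (d - 1)) ⊕ Fin 2) F,
      x ∈ Cfsg.Geo.omegaGL ⇑(Orth.quadMinus (d - 1) F a b) →
      (∃ z : F, ((x ^ p : GL ((Fin (d - 1) ⊕ Fin (d - 1)) ⊕ Fin 2) F) :
        Matrix ((Fin (d - 1) ⊕ Fin (d - 1)) ⊕ Fin 2) ((Fin (d - 1) ⊕ Fin (d - 1)) ⊕ Fin 2) F) = z • 1) →
      (∀ z : F, (x : Matrix ((Fin (d - 1) ⊕ Fin (d - 1)) ⊕ Fin 2) ((Fin (d - 1) ⊕ Fin (d - 1)) ⊕ Fin 2) F) ≠ z • 1) →
      ∃ W, InClass (Orth.quadMinus (d - 1) F a b) W₀ W ∧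
        W.map (Matrix.toLin' (x : Matrix ((Fin (d - 1) ⊕ Fin (d - 1)) ⊕ Fin 2) ((Fin (d - 1) ⊕ Fin (d - 1)) ⊕ Fin 2) F)) ≤ W) :
    False := by
  have : Nonempty ((Fin (d - 1) ⊕ Fin (d - 1)) ⊕ Fin 2) := ⟨Sum.inr 0⟩
  have h2 := Orth.two_ne_zero_of_odd (F := F) hp
  set Q₀ := Orth.quadMinus (d - 1) F a b with hQ₀
  have hQ : Q₀.polarBilin.Nondegenerate := Orth.quadMinus_nondeg (d - 1) hab
  obtain ⟨e₀, -, he₀⟩ := exists_aniso hW₀ (by omega)
  have hp3 : 3 ≤ p := by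
    have := (Fact.out : p.Prime).two_le
    rw [Nat.odd_iff] at hp; omega
  have hpn2 : p ≠ 2 := by omega
  rw [forall_omegaGL_iff hpn2 (Orth.Good.of_two_ne_zero hQ h2) ⟨e₀, he₀⟩] at hyp
  rw [Nat.even_iff] at hde
  obtain ⟨g, -, hg, hrk⟩ := Orth.exists_unipotent_minus (F := F) hp (d := d) hab
    (Multiset.replicate (d - 2) 2 + {3} + {1})
    (fun e he => by simp only [Multiset.mem_add, Multiset.mem_replicate, Multiset.mem_singleton] at he; omega)
    (fun e he => by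
      simp [Multiset.count_replicate, Multiset.count_singleton]
      rw [Nat.even_iff] at he ⊢
      split_ifs <;> omega)
    (by simp; omega) ⟨1, by simp, odd_one⟩
  obtain ⟨c, hc⟩ := FiniteField.exists_nonsquare (F := F) (fun h' => hpn2 ((ringChar.eq F p).symm.trans h'))
  have hc0 : c ≠ 0 := fun h0 => hc (h0 ▸ IsSquare.zero)
  obtain ⟨S, hS⟩ : ∃ S : ((Fin (d - 1) ⊕ Fin (d - 1)) ⊕ Fin 2 → F) ≃ₗ[F]
      ((Fin (d - 1) ⊕ Fin (d - 1)) ⊕ Fin 2 → F), ∀ v, Q₀ (S v) = c * Q₀ v :=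
    exists_similitude (d - 1) hab hc0
  set y : Module.End F ((Fin (d - 1) ⊕ Fin (d - 1)) ⊕ Fin 2 → F) := Orth.ap g with hy
  have hyp' : y ^ p = 1 := LinearMap.ext fun x => by rw [hy, ← Orth.ap_pow, hg, Orth.ap_one]; rfl
  have hy1 : y ≠ 1 := fun h1 => by
    have h3 := hrk 2
    rw [hy] at h1
    rw [show (Orth.ap g - 1 : Module.End F _) = 0 by rw [h1, sub_self], zero_pow (by omega),
      LinearMap.range_zero, finrank_bot] at h3
    simp [PrimeOrderElt.rk] at h3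
  obtain ⟨W, hW, hWi⟩ := hyp y (fun v => Orth.Q_ap g v) hyp' hy1
  obtain ⟨W', hW', hWi'⟩ := hyp (S.conj y) (similar_conj S hS fun v => Orth.Q_ap g v)
    (by
      show (S.conjAlgEquiv F y) ^ p = 1
      rw [← map_pow, hyp', map_one])
    (fun h1 => hy1 ((S.conjAlgEquiv F).injective (h1.trans (map_one (S.conjAlgEquiv F)).symm)))
  -- the pullback of `W'` is fixed by `g`
  set X := W'.map S.symm.toLinearMap with hX
  have hXn : NDeg Q₀ X := by
    rintro _ ⟨u, hu, rfl⟩ hxy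
    rw [hW'.2.1 u hu fun v hv => ?_, map_zero]
    have h3 := hxy _ ⟨v, hv, rfl⟩
    obtain ⟨u', rfl⟩ := S.surjective u
    obtain ⟨v', rfl⟩ := S.surjective v
    simp only [LinearEquiv.coe_coe, LinearEquiv.symm_apply_apply] at h3
    have h4 : QuadraticMap.polar Q₀ (S u') (S v') = c * QuadraticMap.polar Q₀ u' v' := by
      simp only [QuadraticMap.polar, ← map_add, hS]; ring
    rw [h4, h3, mul_zero]
  have hXi : ∀ v ∈ X, Orth.ap g v ∈ X := by
    rintro _ ⟨u, hu, rfl⟩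
    refine ⟨_, hWi' u hu, ?_⟩
    simp [LinearEquiv.conj_apply, hy]
  have hcard : Fintype.card ((Fin (d - 1) ⊕ Fin (d - 1)) ⊕ Fin 2) = 2 * d := by simp; omega
  obtain ⟨f, hf⟩ := iso_of_fixed hp hQ hd hg hcard hrk hW.2.1 hXn (fun v hv => hWi v hv) hXi
    (hW.1.trans hd₀) (by rw [hX, LinearEquiv.finrank_map_eq]; exact hW'.1.trans hd₀)
  obtain ⟨-, -, eW, heW⟩ := hW
  obtain ⟨-, -, eW', heW'⟩ := hW'
  refine hc (isSquare_of_similar hW₀ hd₀
    (eW.symm.trans (f.trans ((S.symm.submoduleMap W').symm.trans eW'))) (c := c) fun x => ?_)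
  rw [LinearEquiv.trans_apply, LinearEquiv.trans_apply, LinearEquiv.trans_apply, heW']
  obtain ⟨u, hu⟩ := (S.symm.submoduleMap W').surjective (f (eW.symm x))
  rw [← hu, LinearEquiv.symm_apply_apply]
  have e1 : Q₀ (eW.symm x : _ → F) = Q₀ (x : _ → F) := by rw [← heW, LinearEquiv.apply_symm_apply]
  rw [← e1, ← hf, ← hu]
  show Q₀ (u : _ → F) = c * Q₀ (S.symm u)
  rw [← hS, LinearEquiv.apply_symm_apply]

end Cfsg.Agent.OrthPrime
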