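import Cfsg.Agent.EqLemmas
import Cfsg.Agent.Lib.OrthPrime.Char2
import Cfsg.Agent.Lib.Orth.Derange
import Cfsg.Agent.Lib.OrthPrime.RowTools

/-!
# Involutions in characteristic two with all blocks of dimension four

* `exists_blocks_plus`, `exists_blocks_minus` : the elements
* `blocks_half` : their invariant spaces
* `forall_char_two_iff` : from elements of `Ω` with scalar square to involutory isometries
-/

set_option autoImplicit false

namespace Cfsg.Agent.OrthPrime

open Module Cfsg.Agent.Orth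

variable {F : Type*} [Field F] [Fintype F]

theorem exists_blocks_plus (h2 : (2 : F) = 0) {d : ℕ} (hd : 3 ≤ d) (hev : Even d) :
    ∃ g : IsoGrp (quadPlus d F), g ∈ Cfsg.Omega F ⇑(quadPlus d F) ∧ g ^ 2 = 1 ∧ g ≠ 1 ∧
      (∀ v, quadPlus d F (nmap (ap g) v) = 0) ∧ ∀ x, ap g x = x → ∀ i, x (.inl i) = 0 := by
  classical
  rw [Nat.even_iff] at hev
  have hnd := quadPlus_nondeg (F := F) d
  have hne : ∀ i : Fin d, i.rev ≠ i := fun i h => by
    have := congrArg Fin.val h
    rw [Fin.val_rev] at this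
    omega
  let D : Module.End F (Fin d ⊕ Fin d → F) :=
    LinearMap.pi (Sum.elim (fun _ => 0) fun i => LinearMap.proj (Sum.inl i.rev))
  let T : Module.End F (Fin d ⊕ Fin d → F) := 1 + D
  have hTl : ∀ u i, T u (.inl i) = u (.inl i) := fun u i => by simp [T, D]
  have hTr : ∀ u i, T u (.inr i) = u (.inr i) + u (.inl i.rev) := fun u i => by simp [T, D]
  have hT2 : ∀ u, T (T u) = u := fun u => by
    funext i
    rcases i with i | i
    · rw [hTl, hTl]
    · rw [hTr, hTr, hTl]
      linear_combination u (.inl i.rev) * h2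
  have hTQ : ∀ u, quadPlus d F (T u) = quadPlus d F u := fun u => by
    show ∑ i, T u (.inl i) * T u (.inr i) = ∑ i, u (.inl i) * u (.inr i)
    simp only [hTl, hTr, mul_add, Finset.sum_add_distrib]
    rw [add_eq_left]
    refine Finset.sum_involution (fun i _ => i.rev) (fun i _ => ?_) (fun i _ _ => hne i)
      (fun i _ => Finset.mem_univ _) (fun i _ => Fin.rev_rev i)
    rw [Fin.rev_rev]
    linear_combination (u (.inl i) * u (.inl i.rev)) * h2
  obtain ⟨g, hg⟩ := exists_isoGrp_of_preserve hnd T hTQ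
  have hN : ∀ v, nmap (ap g) v = D v := fun v => by simp [hg, T, nmap]
  have hG : Good (quadPlus d F) := Good.of_card hnd (.inr (by simp; omega))
  refine ⟨g, (mem_omega_iff hG g).2 ⟨?_, spin_eq_one_of_two hG h2 g⟩,
    ext_ap fun u => by rw [ap_pow, hg, pow_two, Module.End.mul_apply, hT2, ap_one], fun h1 => ?_, fun v => ?_,
    fun x hx i => ?_⟩
  · let f : (Fin d → F) →ₗ[F] (Fin d ⊕ Fin d → F) :=
      LinearMap.pi (Sum.elim (fun _ => 0) fun i => LinearMap.proj i)
    have hres : resSpace g = LinearMap.range f := by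
      rw [resSpace, hg, show (T - LinearMap.id : Module.End F _) = D by simp [T, Module.End.one_eq_id]]
      ext w
      constructor
      · rintro ⟨u, rfl⟩
        exact ⟨fun i => u (.inl i.rev), by funext i; rcases i with i | i <;> simp [f, D]⟩
      · rintro ⟨y, rfl⟩
        exact ⟨Sum.elim (fun i => y i.rev) 0, by funext i; rcases i with i | i <;> simp [f, D]⟩
    rw [dick, hres, LinearMap.finrank_range_of_inj (fun a b hab => funext fun i => by
      simpa [f] using congrFun hab (.inr i)), Module.finrank_fintype_fun_eq_card, Fintype.card_fin]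
    exact Even.neg_one_pow (Nat.even_iff.2 hev)
  · have := congrFun (LinearMap.congr_fun hg (Pi.single (.inl ⟨0, by omega⟩) 1))
      (.inr (⟨0, by omega⟩ : Fin d).rev)
    rw [h1, ap_one, hTr, Fin.rev_rev] at this
    simp at this
  · show ∑ i, nmap (ap g) v (.inl i) * nmap (ap g) v (.inr i) = 0
    simp [hN, D]
  · have := congrFun ((hN x).symm.trans (by simp [nmap, hx] : nmap (ap g) x = 0)) (.inr i.rev)
    simpa [D] using this

theorem exists_blocks_minus (h2 : (2 : F) = 0) {n : ℕ} (hn : 3 ≤ n) (hev : Even n) {a b : F}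
    (hab : ∀ x y : F, x ^ 2 + a * x * y + b * y ^ 2 = 0 → x = 0 ∧ y = 0) :
    ∃ g : IsoGrp (quadMinus n F a b), g ∈ Cfsg.Omega F ⇑(quadMinus n F a b) ∧ g ^ 2 = 1 ∧ g ≠ 1 ∧
      (∀ v, quadMinus n F a b (nmap (ap g) v) = 0) ∧ ∀ x, ap g x = x → ∀ i, x (.inl (.inl i)) = 0 := by
  classical
  rw [Nat.even_iff] at hev
  have hnd := quadMinus_nondeg (F := F) n hab
  have hne : ∀ i : Fin n, i.rev ≠ i := fun i h => by
    have := congrArg Fin.val h
    rw [Fin.val_rev] at this
    omega
  let D : Module.End F ((Fin n ⊕ Fin n) ⊕ Fin 2 → F) :=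
    LinearMap.pi (Sum.elim (Sum.elim (fun _ => 0) fun i => LinearMap.proj (Sum.inl (Sum.inl i.rev))) fun _ => 0)
  let T : Module.End F ((Fin n ⊕ Fin n) ⊕ Fin 2 → F) := 1 + D
  have hTz : ∀ u j, T u (.inr j) = u (.inr j) := fun u j => by simp [T, D]
  have hTl : ∀ u i, T u (.inl (.inl i)) = u (.inl (.inl i)) := fun u i => by simp [T, D]
  have hTr : ∀ u i, T u (.inl (.inr i)) = u (.inl (.inr i)) + u (.inl (.inl i.rev)) := fun u i => by simp [T, D]
  have hT2 : ∀ u, T (T u) = u := fun u => by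
    funext i
    rcases i with (i | i) | i
    · rw [hTl, hTl]
    · rw [hTr, hTr, hTl]
      linear_combination u (.inl (.inl i.rev)) * h2
    · rw [hTz, hTz]
  have hTQ : ∀ u, quadMinus n F a b (T u) = quadMinus n F a b u := fun u => by
    rw [coe_quadMinus]
    simp only [Cfsg.quadFormMinus, hTl, hTr, hTz, mul_add, Finset.sum_add_distrib]
    rw [add_left_inj, add_eq_left]
    refine Finset.sum_involution (fun i _ => i.rev) (fun i _ => ?_) (fun i _ _ => hne i)
      (fun i _ => Finset.mem_univ _) (fun i _ => Fin.rev_rev i)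
    rw [Fin.rev_rev]
    linear_combination (u (.inl (.inl i)) * u (.inl (.inl i.rev))) * h2
  obtain ⟨g, hg⟩ := exists_isoGrp_of_preserve hnd T hTQ
  have hN : ∀ v, nmap (ap g) v = D v := fun v => by simp [hg, T, nmap]
  have hG : Good (quadMinus n F a b) := Good.of_card hnd (.inr (by simp; omega))
  refine ⟨g, (mem_omega_iff hG g).2 ⟨?_, spin_eq_one_of_two hG h2 g⟩,
    ext_ap fun u => by rw [ap_pow, hg, pow_two, Module.End.mul_apply, hT2, ap_one], fun h1 => ?_, fun v => ?_,
    fun x hx i => ?_⟩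
  · let f : (Fin n → F) →ₗ[F] ((Fin n ⊕ Fin n) ⊕ Fin 2 → F) :=
      LinearMap.pi (Sum.elim (Sum.elim (fun _ => 0) fun i => LinearMap.proj i) fun _ => 0)
    have hres : resSpace g = LinearMap.range f := by
      rw [resSpace, hg, show (T - LinearMap.id : Module.End F _) = D by simp [T, Module.End.one_eq_id]]
      ext w
      constructor
      · rintro ⟨u, rfl⟩
        exact ⟨fun i => u (.inl (.inl i.rev)), by funext i; rcases i with (i | i) | i <;> simp [f, D]⟩
      · rintro ⟨y, rfl⟩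
        exact ⟨Sum.elim (Sum.elim (fun i => y i.rev) 0) 0, by funext i; rcases i with (i | i) | i <;> simp [f, D]⟩
    rw [dick, hres, LinearMap.finrank_range_of_inj (fun a b hab => funext fun i => by
      simpa [f] using congrFun hab (.inl (.inr i))), Module.finrank_fintype_fun_eq_card, Fintype.card_fin]
    exact Even.neg_one_pow (Nat.even_iff.2 hev)
  · have := congrFun (LinearMap.congr_fun hg (Pi.single (.inl (.inl ⟨0, by omega⟩)) 1))
      (.inl (.inr (⟨0, by omega⟩ : Fin n).rev))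
    rw [h1, ap_one, hTr, Fin.rev_rev] at this
    simp at this
  · rw [coe_quadMinus]
    simp [Cfsg.quadFormMinus, hN, D]
  · have := congrFun ((hN x).symm.trans (by simp [nmap, hx] : nmap (ap g) x = 0)) (.inl (.inr i.rev))
    simpa [D] using this

variable {ι : Type} [Fintype ι] [DecidableEq ι] {Q : QuadraticForm F (ι → F)}

/-- Invariant spaces when the anisotropic part of the fixed space has dimension at most `z`. -/
theorem blocks_half {g : Module.End F (ι → F)} (hg : IsInv Q g) (halt : ∀ v, Q (nmap g v) = 0)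
    {κ : Type} [Fintype κ] (φ : (ι → F) →ₗ[F] (κ → F))
    (hφ : ∀ x y, g x = x → g y = y → φ x = 0 → QuadraticMap.polar Q x y = 0)
    {W : Submodule F (ι → F)} (hW : NDeg Q W) (hWi : Invt g W) :
    ∃ e, 4 * e ≤ finrank F W ∧ finrank F W ≤ 4 * e + Fintype.card κ ∧ (finrank F W = 4 * e → Half Q W) := by
  obtain ⟨e, P, R, hP, hR, hPn, hRn, hPR, hsup, hPd, hPh, hRf, -, -⟩ :=
    alt_decomp hg hW hWi fun v _ => halt v
  have hd := Submodule.finrank_sup_add_finrank_inf_eq P R
  rw [(disjoint_of_orth hPn hPR).eq_bot, finrank_bot, hsup] at hd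
  have hinj : Function.Injective (φ.comp R.subtype) := (injective_iff_map_eq_zero _).2 fun x hx =>
    Subtype.ext (hRn x.1 x.2 fun y hy => hφ _ _ (hRf _ x.2) (hRf _ hy) hx)
  have h3 := LinearMap.finrank_le_finrank_of_injective hinj
  rw [Module.finrank_fintype_fun_eq_card] at h3
  refine ⟨e, by omega, by omega, fun he => ?_⟩
  have hR0 : R = ⊥ := Submodule.finrank_eq_zero.1 (by omega)
  rwa [← hsup, hR0, sup_bot_eq]

/-- From elements with scalar square to involutions. -/
theorem forall_char_two_iff (h2 : (2 : F) = 0) (hex : ∃ v, Q v ≠ 0) (C : Submodule F (ι → F) → Prop) :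
    (∀ x : GL ι F, x ∈ Cfsg.Geo.omegaGL ⇑Q →
      (∃ z : F, ((x ^ 2 : GL ι F) : Matrix ι ι F) = z • (1 : Matrix ι ι F)) →
      (∀ z : F, (x : Matrix ι ι F) ≠ z • (1 : Matrix ι ι F)) →
      ∃ W, C W ∧ W.map (Matrix.toLin' (x : Matrix ι ι F)) ≤ W) ↔
    (∀ g : IsoGrp Q, g ∈ Cfsg.Omega F ⇑Q → g ^ 2 = 1 → g ≠ 1 → ∃ W, C W ∧ Invt (ap g) W) := by
  obtain ⟨w, hw⟩ := hex
  have hone : ∀ {z : F}, z * z = 1 → z = 1 := fun {z} hz => by
    have h1 : (z - 1) * (z - 1) = 0 := by linear_combination hz + (1 - z) * h2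
    exact sub_eq_zero.1 (mul_self_eq_zero.1 h1)
  have hQs : ∀ {z : F}, Q (z • w) = Q w → z = 1 := fun {z} hz => by
    rw [Orth.Q_smul] at hz
    exact hone (mul_right_cancel₀ hw (hz.trans (one_mul _).symm))
  constructor
  · intro h g hg hg2 hg1
    obtain ⟨W, hW, hWm⟩ := h g (coe_mem_omegaGL.2 hg) ⟨1, by rw [one_smul, ← Subgroup.coe_pow, hg2]; rfl⟩
      fun z hz => hg1 (by
        have hap : ∀ v, ap g v = z • v := fun v => by rw [ap_apply, hz, Matrix.smul_mulVec, Matrix.one_mulVec]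
        have h1 := hQs (z := z) (by rw [← hap, Q_ap])
        exact ext_ap fun v => by rw [hap, h1, one_smul, ap_one])
    exact ⟨W, hW, fun v hv => hWm ⟨v, hv, rfl⟩⟩
  · intro h x hx ⟨z, hz⟩ hns
    obtain ⟨g, hg, rfl⟩ := mem_omegaGL_iff.1 hx
    have hap : ∀ v, ap (g ^ 2) v = z • v := fun v => by
      rw [ap_apply, Subgroup.coe_pow, hz, Matrix.smul_mulVec, Matrix.one_mulVec]
    have hz1 := hQs (z := z) (by rw [← hap, Q_ap])
    have hg2 : g ^ 2 = 1 := ext_ap fun v => by rw [hap, hz1, one_smul, ap_one]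
    obtain ⟨W, hW, hWi⟩ := h g hg hg2 fun h1 => hns 1 (by rw [h1, one_smul]; rfl)
    refine ⟨W, hW, ?_⟩
    rintro _ ⟨v, hv, rfl⟩
    exact hWi v hv

theorem isInv_ap (h2 : (2 : F) = 0) {g : IsoGrp Q} (hg : g ^ 2 = 1) : IsInv Q (ap g) :=
  ⟨fun v => Q_ap g v, fun v => by rw [← ap_mul, ← pow_two, hg, ap_one], h2⟩

end Cfsg.Agent.OrthPrime
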