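import Cfsg.Agent.EqLemmas
import Cfsg.Agent.Lib.OrthPrime.RowTools
import Cfsg.Agent.Lib.Orth.Derange

/-!
# Elements of order `p` whose invariant subspaces of even dimension are of plus type

* `half_of_twos` : blocks of size two give plus type
* `exists_p_only_half` : `p` odd, plus type
* `exists_two_only_half` : `p = 2`, plus type
-/

set_option autoImplicit false

namespace Cfsg.Agent.OrthPrime

open Module Cfsg.Agent.Orth

variable {F : Type*} [Field F] {ι : Type} [Fintype ι] [DecidableEq ι] {Q : QuadraticForm F (ι → F)}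

theorem half_of_twos (h2 : (2 : F) ≠ 0) (g : IsoGrp Q) {W : Submodule F (ι → F)}
    (hinv : ∀ v ∈ W, ap g v ∈ W)
    (h0 : finrank F ↥(W.map ((ap g - 1 : Module.End F (ι → F)) ^ 2)) = 0)
    (hd : 2 * finrank F ↥(W.map (ap g - 1 : Module.End F (ι → F))) = finrank F W) : Half Q W := by
  refine ⟨W.map (ap g - 1 : Module.End F (ι → F)), ?_, ?_, hd⟩
  · rintro _ ⟨v, hv, rfl⟩
    exact W.sub_mem (hinv v hv) hv
  · rintro _ ⟨v, hv, rfl⟩
    refine sub_one_singular Q h2 (fun x => Q_ap g x) ?_
    rw [Submodule.finrank_eq_zero, eq_bot_iff] at h0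
    exact h0 ⟨v, hv, rfl⟩

theorem rk_small {ν : Multiset ℕ} (hmem : ∀ b ∈ ν, b = 1 ∨ b = 2 ∨ b = 3) :
    PrimeOrderElt.rk ν 1 = ν.count 2 + 2 * ν.count 3 ∧ PrimeOrderElt.rk ν 2 = ν.count 3 := by
  induction ν using Multiset.induction with
  | empty => simp [PrimeOrderElt.rk]
  | cons b t ih =>
    have := ih fun x hx => hmem x (Multiset.mem_cons_of_mem hx)
    rw [PrimeOrderElt.rk_cons, PrimeOrderElt.rk_cons]
    rcases hmem b (Multiset.mem_cons_self _ _) with rfl | rfl | rfl <;>
      simp [Multiset.count_cons] <;> omega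

variable [Fintype F]

/-- `p` odd: an element of order `p` fixing only plus-type spaces of even dimension. -/
theorem exists_p_only_half {p : ℕ} [Fact p.Prime] [CharP F p] (hp : Odd p) (hp3 : 3 ≤ p) (d : ℕ) (hd : 4 ≤ d) :
    ∃ g : IsoGrp (quadPlus d F), g ∈ Cfsg.Omega F ⇑(quadPlus d F) ∧ g ^ p = 1 ∧ g ≠ 1 ∧
      ∀ (W : Submodule F (Fin d ⊕ Fin d → F)) (h : ℕ), NDeg (quadPlus d F) W → (∀ v ∈ W, ap g v ∈ W) →
        finrank F W = 2 * h → Half (quadPlus d F) W := by
  have : Nonempty (Fin d) := ⟨⟨0, by omega⟩⟩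
  have h2 := two_ne_zero_of_odd (F := F) hp
  have hQ := quadPlus_nondeg (F := F) d
  obtain ⟨a, b, hab⟩ : ∃ a b : ℕ, (d % 2 = 0 ∧ a = d ∧ b = 0) ∨ (d % 2 = 1 ∧ a + 3 = d ∧ b = 2) := by
    rcases (show d % 2 = 0 ∨ d % 2 = 1 by omega) with h | h
    · exact ⟨d, 0, Or.inl ⟨h, rfl, rfl⟩⟩
    · exact ⟨d - 3, 2, Or.inr ⟨h, by omega, rfl⟩⟩
  set μ := Multiset.replicate a 2 + Multiset.replicate b 3 with hμdef
  have hμ : ∀ e ∈ μ, 0 < e ∧ e ≤ p := fun e he => by
    simp only [hμdef, Multiset.mem_add, Multiset.mem_replicate] at he; omega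
  have hev : ∀ e : ℕ, Even e → Even (μ.count e) := fun e he => by
    rw [hμdef, Multiset.count_add, Multiset.count_replicate, Multiset.count_replicate]
    rw [Nat.even_iff] at he ⊢
    split_ifs <;> omega
  obtain ⟨g, hgΩ, hg, hrk⟩ := exists_unipotent_plus (F := F) hp (d := d) (by omega) μ hμ hev
    (by simp [hμdef]; omega)
  have r2 : PrimeOrderElt.rk μ 2 = b := by simp [hμdef, PrimeOrderElt.rk]
  have r1 : PrimeOrderElt.rk μ 1 = a + 2 * b := by simp [hμdef, PrimeOrderElt.rk]; omega
  refine ⟨g, hgΩ, hg, fun h1 => ?_, fun W h hW hWi hWd => ?_⟩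
  · have h3 := hrk 1
    rw [r1, h1, show (ap (1 : IsoGrp (quadPlus d F)) - 1 : Module.End F _) = 0 from
      sub_eq_zero.2 (LinearMap.ext fun x => ap_one x), pow_one, LinearMap.range_zero, finrank_bot] at h3
    omega
  have hnd : ∀ {X : Submodule F (Fin d ⊕ Fin d → F)}, NDeg (quadPlus d F) X →
      ∀ x ∈ X, x ≠ 0 → ∃ u ∈ X, QuadraticMap.polar ⇑(quadPlus d F) x u ≠ 0 := fun hX x hx hx0 => by
    by_contra! hall
    exact hx0 (hX x hx hall)
  have hcard : Fintype.card (Fin d ⊕ Fin d) = 2 * d := by simp; omega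
  have main : ∀ {X : Submodule F (Fin d ⊕ Fin d → F)} {k : ℕ}, NDeg (quadPlus d F) X → (∀ v ∈ X, ap g v ∈ X) →
      finrank F X = 2 * k →
      (finrank F ↥(X.map ((ap g - 1 : Module.End F _) ^ 2)) = 0 ∧ Half (quadPlus d F) X) ∨
        (finrank F ↥(X.map ((ap g - 1 : Module.End F _) ^ 2)) = b ∧ b = 2) := by
    intro X k hX hXi hXd
    obtain ⟨ν, hν, hνs, hνe, hνr⟩ := exists_invariant_type hQ hp hg (fun e he => (hμ e he).1) hrk hXi (hnd hX)
    have hmem : ∀ x ∈ ν, x = 1 ∨ x = 2 ∨ x = 3 := fun x hx => by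
      have := Multiset.mem_of_le hν hx
      simp only [hμdef, Multiset.mem_add, Multiset.mem_replicate] at this; omega
    have hc3 := Multiset.count_le_of_le 3 hν
    have hc1 := Multiset.count_le_of_le 1 hν
    simp [hμdef, Multiset.count_replicate, -Multiset.count_eq_zero] at hc1 hc3
    obtain ⟨c, hc⟩ := hνe 2 even_two
    have hs := sum_small hmem
    obtain ⟨e1, e2⟩ := rk_small hmem
    have q2 := hνr 2
    have q1 := hνr 1
    rw [pow_one, e1] at q1
    rw [e2] at q2
    rcases Nat.eq_zero_or_pos (ν.count 3) with h3 | h3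
    · exact Or.inl ⟨by omega, half_of_twos h2 g hXi (by omega) (by omega)⟩
    · exact Or.inr ⟨by omega, by omega⟩
  rcases main hW hWi hWd with ⟨-, hH⟩ | ⟨hb, hb2⟩
  · exact hH
  -- otherwise the complement has blocks of size two only
  have hWperp : ∀ v ∈ perp (quadPlus d F) W, ap g v ∈ perp (quadPlus d F) W := fun v hv u hu => by
    have hsurj : W.map (ap g) = W := Submodule.eq_of_le_of_finrank_le (by rintro _ ⟨u, hu, rfl⟩; exact hWi u hu)
      (Submodule.equivMapOfInjective (ap g) (fun a b e => ap_inj g e) W).finrank_eq.le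
    rw [← hsurj] at hu
    obtain ⟨u', hu', rfl⟩ := hu
    exact (polar_ap g u' v).trans (hv u' hu')
  have hpd := finrank_perp hQ hW
  rw [hWd, hcard] at hpd
  have hH' : Half (quadPlus d F) (perp (quadPlus d F) W) := by
    rcases main (ndeg_perp hQ hW) hWperp (k := d - h) (by omega) with ⟨-, hH⟩ | ⟨hb', -⟩
    · exact hH
    exfalso
    set N : Module.End F (Fin d ⊕ Fin d → F) := ap g - 1 with hN
    have hle1 : W.map (N ^ 2) ≤ W := PrimeOrderElt.map_pow_le (by
      rintro _ ⟨v, hv, rfl⟩; exact W.sub_mem (hWi v hv) hv) 2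
    have hle2 : (perp (quadPlus d F) W).map (N ^ 2) ≤ perp (quadPlus d F) W := PrimeOrderElt.map_pow_le (by
      rintro _ ⟨v, hv, rfl⟩; exact (perp (quadPlus d F) W).sub_mem (hWperp v hv) hv) 2
    have h1 := Submodule.finrank_sup_add_finrank_inf_eq (W.map (N ^ 2)) ((perp (quadPlus d F) W).map (N ^ 2))
    rw [(disjoint_iff.1 ((isCompl_perp hW).disjoint.mono hle1 hle2)), finrank_bot] at h1
    have h3 : finrank F ↥(W.map (N ^ 2) ⊔ (perp (quadPlus d F) W).map (N ^ 2)) ≤ b := by
      rw [← r2, ← hrk 2, ← Submodule.map_sup]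
      exact Submodule.finrank_mono LinearMap.map_le_range
    omega
  exact ((half_perp_iff hQ hW hWd (h' := d - h) (by omega)).1 hH').1 (half_quadPlus d)

/-- `p = 2`: an involution fixing only plus-type spaces of even dimension. -/
theorem exists_two_only_half (h2 : (2 : F) = 0) (d : ℕ) (hd : 3 ≤ d) :
    ∃ g : IsoGrp (quadPlus d F), g ∈ Cfsg.Omega F ⇑(quadPlus d F) ∧ g ^ 2 = 1 ∧ g ≠ 1 ∧
      ∀ (W : Submodule F (Fin d ⊕ Fin d → F)) (h : ℕ), NDeg (quadPlus d F) W → (∀ v ∈ W, ap g v ∈ W) →
        finrank F W = 2 * h → Half (quadPlus d F) W := by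
  classical
  have hnd := quadPlus_nondeg (F := F) d
  let A : (Fin d → F) →ₗ[F] (Fin d → F) :=
    { toFun := fun x i => if i.rev = i then 0 else x i.rev
      map_add' := fun x y => by ext i; simp only [Pi.add_apply]; split_ifs <;> simp
      map_smul' := fun c x => by ext i; simp only [Pi.smul_apply, RingHom.id_apply]; split_ifs <;> simp }
  let inl' : (Fin d ⊕ Fin d → F) →ₗ[F] (Fin d → F) := LinearMap.funLeft F F Sum.inl
  let f : (Fin d → F) →ₗ[F] (Fin d ⊕ Fin d → F) :=
    { toFun := fun y => Sum.elim 0 y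
      map_add' := fun y y' => by funext i; rcases i with i | i <;> simp
      map_smul' := fun c y => by funext i; rcases i with i | i <;> simp }
  let T : Module.End F (Fin d ⊕ Fin d → F) := 1 + f ∘ₗ A ∘ₗ inl'
  have hTl : ∀ u i, T u (.inl i) = u (.inl i) := fun u i => by simp [T, f]
  have hTr : ∀ u i, T u (.inr i) = u (.inr i) + if i.rev = i then 0 else u (.inl i.rev) := fun u i => by
    simp [T, f, A, inl', LinearMap.funLeft_apply]
  have hT2 : ∀ u, T (T u) = u := fun u => by
    funext i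
    rcases i with i | i
    · rw [hTl, hTl]
    · rw [hTr, hTr, hTl]
      linear_combination (if i.rev = i then 0 else u (.inl i.rev)) * h2
  have hTQ : ∀ u, quadPlus d F (T u) = quadPlus d F u := fun u => by
    show ∑ i, T u (.inl i) * T u (.inr i) = ∑ i, u (.inl i) * u (.inr i)
    simp only [hTl, hTr, mul_add, Finset.sum_add_distrib]
    rw [add_eq_left]
    refine Finset.sum_involution (fun i _ => i.rev) (fun i _ => ?_) (fun i _ hne hfix => ?_)
      (fun i _ => Finset.mem_univ _) (fun i _ => Fin.rev_rev i)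
    · rw [Fin.rev_rev]
      split_ifs with h1 h3 h3
      · simp
      · exact absurd h1.symm h3
      · exact absurd h3.symm h1
      · linear_combination (u (.inl i) * u (.inl i.rev)) * h2
    · rw [if_pos hfix, mul_zero] at hne
      exact hne rfl
  obtain ⟨g, hg⟩ := exists_isoGrp_of_preserve hnd T hTQ
  have hres : resSpace g = (LinearMap.range A).map f := by
    rw [resSpace, hg, show (T - LinearMap.id : Module.End F _) = f ∘ₗ A ∘ₗ inl' by
      simp [T, Module.End.one_eq_id], LinearMap.range_comp, LinearMap.range_comp,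
      LinearMap.range_eq_top.2 (show Function.Surjective inl' from fun y =>
        ⟨Sum.elim y 0, by ext i; simp [inl', LinearMap.funLeft_apply]⟩),
      Submodule.map_top]
  have hf : Function.Injective f := fun y y' h => funext fun i => congrFun h (Sum.inr i)
  have hS : LinearMap.range A = LinearMap.range
      ({ toFun := fun y i => if h : i.rev = i then 0 else y ⟨i, h⟩
         map_add' := fun x y => by ext i; simp only [Pi.add_apply]; split_ifs <;> simp
         map_smul' := fun c x => by ext i; simp only [Pi.smul_apply, RingHom.id_apply]; split_ifs <;> simp } :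
        ({i : Fin d // i.rev ≠ i} → F) →ₗ[F] (Fin d → F)) := by
    refine le_antisymm ?_ ?_
    · rintro _ ⟨x, rfl⟩
      exact ⟨fun i => x i.1.rev, by ext i; simp [A]⟩
    · rintro _ ⟨y, rfl⟩
      refine ⟨fun j => if h : j.rev = j then 0 else y ⟨j.rev, by rwa [Fin.rev_rev, ne_comm]⟩, ?_⟩
      ext i
      simp only [A, LinearMap.coe_mk, AddHom.coe_mk]
      by_cases h : i.rev = i
      · simp [h]
      · have h' : ¬ i.rev.rev = i.rev := by rw [Fin.rev_rev]; exact fun e => h e.symm
        rw [if_neg h, dif_neg h, dif_neg h']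
        congr 2
        simp
  have hcardA : finrank F ↥(LinearMap.range A) % 2 = 0 := by
    rw [hS, LinearMap.finrank_range_of_inj (fun y y' h => funext fun i => by
      have := congrFun h i.1; simpa [i.2] using this), Module.finrank_fintype_fun_eq_card,
      Fintype.card_subtype_compl, Fintype.card_fin]
    rcases Nat.even_or_odd d with ⟨e, he⟩ | ⟨e, he⟩
    · have hnone : Fintype.card {i : Fin d // i.rev = i} = 0 := Fintype.card_eq_zero_iff.2 ⟨fun ⟨i, hi⟩ => by
        have := congrArg Fin.val hi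
        rw [Fin.val_rev] at this
        omega⟩
      omega
    · have hone : Fintype.card {i : Fin d // i.rev = i} = 1 := Fintype.card_eq_one_iff.2
        ⟨⟨⟨e, by omega⟩, Fin.ext (by rw [Fin.val_rev]; show d - (e + 1) = e; omega)⟩, fun ⟨i, hi⟩ => by
          have := congrArg Fin.val hi
          rw [Fin.val_rev] at this
          exact Subtype.ext (Fin.ext (show i.val = e by omega))⟩
      omega
  have hG : Good (quadPlus d F) := Good.of_card hnd (.inr (by simp; omega))
  refine ⟨g, (mem_omega_iff hG g).2 ⟨?_, spin_eq_one_of_two hG h2 g⟩,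
    ext_ap fun u => by rw [ap_pow, hg, pow_two, Module.End.mul_apply, hT2, ap_one], fun h1 => ?_, ?_⟩
  · rw [dick, hres, ← (Submodule.equivMapOfInjective f hf _).finrank_eq]
    exact Even.neg_one_pow (Nat.even_iff.2 hcardA)
  · have h0 : ((⟨0, by omega⟩ : Fin d).rev) ≠ ⟨0, by omega⟩ := fun e => by
      have := congrArg Fin.val e
      rw [Fin.val_rev] at this
      simp at this
      omega
    have := congrFun (LinearMap.congr_fun hg (Pi.single (.inl ⟨0, by omega⟩) 1))
      (.inr (⟨0, by omega⟩ : Fin d).rev)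
    rw [h1, ap_one, hTr, Fin.rev_rev, if_neg (Ne.symm h0)] at this
    simp at this
  intro W h hW hWi hWd
  set N : Module.End F (Fin d ⊕ Fin d → F) := ap g - 1 with hN
  have hNT : ∀ u, N u = f (A (inl' u)) := fun u => by simp [hN, hg, T]
  have hfQ : ∀ y, quadPlus d F (f y) = 0 := fun y => by
    show ∑ i, f y (.inl i) * f y (.inr i) = 0
    simp [f]
  have hbig : ∀ {S : Submodule F (Fin d ⊕ Fin d → F)}, S ≤ W → (∀ u ∈ S, quadPlus d F u = 0) → h ≤ finrank F S →
      Half (quadPlus d F) W := fun {S} hSW hSs hSd => by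
    obtain ⟨U, hU, hUd⟩ : ∃ U ≤ S, finrank F U = h := by
      obtain ⟨v, hv⟩ := exists_linearIndependent_of_le_finrank hSd
      refine ⟨Submodule.span F (Set.range fun i => (v i : Fin d ⊕ Fin d → F)), Submodule.span_le.2 ?_, ?_⟩
      · rintro _ ⟨i, rfl⟩; exact (v i).2
      · exact (finrank_span_eq_card (hv.map' S.subtype S.ker_subtype)).trans (Fintype.card_fin h)
    exact ⟨U, hU.trans hSW, fun u hu => hSs u (hU hu), by omega⟩
  have h1 := LinearMap.finrank_range_add_finrank_ker (N.comp W.subtype)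
  by_cases hr : h ≤ finrank F ↥(W.map N)
  · refine hbig (S := W.map N) ?_ ?_ hr
    · rintro _ ⟨v, hv, rfl⟩; exact W.sub_mem (hWi v hv) hv
    · rintro _ ⟨v, hv, rfl⟩; rw [hNT]; exact hfQ _
  · rw [LinearMap.range_comp, Submodule.range_subtype] at h1
    let φ : (Fin d ⊕ Fin d → F) →ₗ[F] ({i : Fin d // i.rev = i} → F) :=
      LinearMap.funLeft F F (fun i => Sum.inl i.1)
    set K := W ⊓ LinearMap.ker N with hK
    have hKd : finrank F K = finrank F ↥(LinearMap.ker (N.comp W.subtype)) := by
      rw [LinearMap.ker_comp, ← Submodule.finrank_map_subtype_eq, Submodule.map_comap_subtype]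
    have h3 := LinearMap.finrank_range_add_finrank_ker (φ.comp K.subtype)
    have h4 : finrank F ↥(LinearMap.range (φ.comp K.subtype)) ≤ 1 := by
      refine (Submodule.finrank_le _).trans ?_
      rw [Module.finrank_fintype_fun_eq_card]
      refine Fintype.card_le_one_iff.2 fun ⟨i, hi⟩ ⟨j, hj⟩ => Subtype.ext (Fin.ext ?_)
      have ei := congrArg Fin.val hi
      have ej := congrArg Fin.val hj
      rw [Fin.val_rev] at ei ej
      show i.val = j.val
      omega
    refine hbig (S := (LinearMap.ker (φ.comp K.subtype)).map K.subtype) ?_ ?_ ?_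
    · exact (Submodule.map_subtype_le _ _).trans inf_le_left
    · rintro _ ⟨x, hx, rfl⟩
      show ∑ i, (x : Fin d ⊕ Fin d → F) (.inl i) * (x : Fin d ⊕ Fin d → F) (.inr i) = 0
      refine Finset.sum_eq_zero fun i _ => mul_eq_zero_of_left ?_ _
      by_cases hi : i.rev = i
      · exact congrFun (LinearMap.mem_ker.1 hx) ⟨i, hi⟩
      · have := congrFun ((hNT x).symm.trans (LinearMap.mem_ker.1 x.2.2)) (.inr i.rev)
        have hi' : ¬ i = i.rev := fun e => hi e.symm
        simpa [f, A, inl', LinearMap.funLeft_apply, hi'] using this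
    · rw [Submodule.finrank_map_subtype_eq]
      omega

end Cfsg.Agent.OrthPrime
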