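import Cfsg.Agent.EqLemmas
import Mathlib.Tactic

/-!
# Arithmetic of singular subspaces fixed by elements of odd prime order

`Ok i c π n A j` : beside `A` blocks of size `c` in a space of dimension `n` there is room for a singular
`j`-space; `π` is the parity of the numbers of blocks of plus type.
-/

set_option autoImplicit false

namespace Cfsg.Agent.OrthPrime.SingArith

/-- Room for a singular `j`-space in the fixed space of an element with `A` blocks, `i` even. -/
def OkE (i a k π A j : ℕ) : Prop :=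
  2 * j + i * A ≤ i * a + k ∧ (2 * j + i * A = i * a + k → A % 2 = π)

theorem okE_of {i a k π A j X l : ℕ} (hj : 2 * j + i * A = i * X + 2 * l) (hl : l < i) (hX : X ≤ a)
    (h1 : X = a → 2 * l ≤ k ∧ (2 * l = k → A % 2 = π))
    (h2 : X + 1 = a → 2 * l ≤ i + k ∧ (2 * l = i + k → A % 2 = π)) : OkE i a k π A j := by
  unfold OkE
  rw [hj]
  rcases (show X = a ∨ X + 1 = a ∨ X + 2 ≤ a by omega) with h | h | h
  · obtain ⟨u, v⟩ := h1 h
    subst h
    exact ⟨by omega, fun he => v (by omega)⟩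
  · obtain ⟨u, v⟩ := h2 h
    subst h
    rw [Nat.mul_add, Nat.mul_one]
    exact ⟨by omega, fun he => v (by omega)⟩
  · have := Nat.mul_le_mul_left i h
    rw [Nat.mul_add] at this
    exact ⟨by omega, fun he => by omega⟩

theorem le_of_mul {i a k X : ℕ} (hk : k < i) (h : i * X ≤ i * a + k) : X ≤ a := by
  by_contra hlt
  have := Nat.mul_le_mul_left i (show a + 1 ≤ X by omega)
  rw [Nat.mul_add, Nat.mul_one] at this
  omega

theorem feasible_iff {i a k π A : ℕ} (hk : k < i) :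
    OkE i a k π A 0 ↔ A < a ∨ (A = a ∧ (0 < k ∨ a % 2 = π)) := by
  unfold OkE
  constructor
  · rintro ⟨h, he⟩
    rcases (le_of_mul hk (show i * A ≤ i * a + k by omega)).lt_or_eq with h1 | rfl
    · exact Or.inl h1
    · rcases Nat.eq_zero_or_pos k with rfl | h0
      · exact Or.inr ⟨rfl, Or.inr (he (by omega))⟩
      · exact Or.inr ⟨rfl, Or.inl h0⟩
  · rintro (h | ⟨rfl, h⟩)
    · have := Nat.mul_le_mul_left i (show A + 1 ≤ a by omega)
      rw [Nat.mul_add, Nat.mul_one] at this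
      exact ⟨by omega, fun he => by omega⟩
    · refine ⟨by omega, fun he => h.resolve_left ?_⟩
      omega

/-- The criterion for `i` even. -/
theorem crit_even {i t a k m π : ℕ} (hk : k < i) (ht : 1 ≤ t) (hπ : π < 2) (L : Prop)
    (hS : (∀ A, 1 ≤ A → OkE i a k π A 0 →
      ∃ K, (K = 0 ∨ 2 * K + t ≤ A + 1) ∧ K * i ≤ m ∧ OkE i a k π A (m - K * i)) → L)
    (hN1 : L → ∀ A, 1 ≤ A → OkE i a k π A 0 → OkE i a k π A (m % i))
    (hN2 : L → ∀ u, 1 ≤ u → u ≤ t → OkE i a k π u 0 → OkE i a k π u m)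
    (hC : ∃ A, 1 ≤ A ∧ OkE i a k π A 0 ∧ ¬ OkE i a k π A m) :
    L ↔ i ≤ m ∧ t + 2 * (m / i) ≤ a ∧
      ((a % 2 = π ∧ 2 * (m % i) ≤ k) ∨ (a % 2 ≠ π ∧ 2 * (m % i) < k) ∨
        (a % 2 ≠ π ∧ k = 0 ∧ 2 * (m % i) ≤ i ∧ t + 2 * (m / i) < a)) := by
  have hdm := Nat.div_add_mod m i
  have hl := Nat.mod_lt m (show i > 0 by omega)
  set M := m / i with hM
  set l := m % i with hl'
  have hmX : ∀ u, 2 * m + i * u = i * (2 * M + u) + 2 * l := fun u => by
    conv_lhs => rw [← hdm]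
    ring
  constructor
  · intro hL
    obtain ⟨A₀, hA₀, hA₀f, hA₀m⟩ := hC
    have him : i ≤ m := by
      by_contra hlt
      exact hA₀m (by simpa [hl', Nat.mod_eq_of_lt (Nat.lt_of_not_ge hlt)] using hN1 hL A₀ hA₀ hA₀f)
    have hM1 : 1 ≤ M := Nat.div_pos him (by omega)
    have ha1 : 1 ≤ a := by
      rcases (feasible_iff hk).1 hA₀f with h | ⟨h, -⟩ <;> omega
    have hu : ∀ u, 1 ≤ u → u ≤ t → (u < a ∨ (u = a ∧ (0 < k ∨ a % 2 = π))) →
        2 * M + u ≤ a ∧ (2 * M + u = a → 2 * l ≤ k ∧ (2 * l = k → u % 2 = π)) := by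
      intro u u1 u2 u3
      obtain ⟨h1, h2⟩ := hN2 hL u u1 u2 ((feasible_iff hk).2 u3)
      rw [hmX] at h1 h2
      refine ⟨le_of_mul hk (by omega), fun he => ?_⟩
      rw [he] at h1 h2
      exact ⟨by omega, fun e => h2 (by omega)⟩
    have hta : t + 2 * M ≤ a := by
      by_contra hlt
      by_cases htf : t < a ∨ (t = a ∧ (0 < k ∨ a % 2 = π))
      · have := (hu t ht le_rfl htf).1
        omega
      by_cases haf : 0 < k ∨ a % 2 = π
      · have := (hu a ha1 (by omega) (Or.inr ⟨rfl, haf⟩)).1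
        omega
      rcases Nat.lt_or_ge a 2 with h | h
      · have := (feasible_iff hk).1 hA₀f
        omega
      · have := (hu (a - 1) (by omega) (by omega) (Or.inl (by omega))).1
        omega
    refine ⟨him, hta, ?_⟩
    by_cases haf : 0 < k ∨ a % 2 = π
    · obtain ⟨h1, h2⟩ := hN1 hL a ha1 ((feasible_iff hk).2 (Or.inr ⟨rfl, haf⟩))
      rcases Nat.lt_or_ge (2 * l) k with h | h
      · by_cases hp : a % 2 = π
        · exact Or.inl ⟨hp, by omega⟩
        · exact Or.inr (Or.inl ⟨hp, h⟩)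
      · exact Or.inl ⟨h2 (by omega), by omega⟩
    · obtain ⟨h1, -⟩ := hN1 hL (a - 1) (by omega) ((feasible_iff hk).2 (Or.inl (by omega)))
      have : i * a = i * (a - 1) + i := by
        conv_lhs => rw [show a = a - 1 + 1 by omega, Nat.mul_add, Nat.mul_one]
      refine Or.inr (Or.inr ⟨by omega, by omega, by omega, ?_⟩)
      rcases hta.lt_or_eq with h | h
      · exact h
      · have := (hu t ht le_rfl (Or.inl (by omega))).2 (by omega)
        omega
  · rintro ⟨him, hta, hres⟩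
    refine hS fun A hA hAf => ?_
    have hAa := (feasible_iff hk).1 hAf
    have key : ∀ K, K ≤ M → ∀ X, X = 2 * (M - K) + A →
        2 * (m - K * i) + i * A = i * X + 2 * l ∧ K * i ≤ m := by
      intro K hK X hX
      have h1 : i * M = i * K + i * (M - K) := by rw [← Nat.mul_add, Nat.add_sub_cancel' hK]
      subst hX
      rw [Nat.mul_add, ← mul_assoc, mul_comm i 2, mul_assoc, mul_comm K i]
      omega
    by_cases htop : t + 2 * M ≤ A + 1
    · obtain ⟨hj, hKm⟩ := key M le_rfl A (by omega)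
      refine ⟨M, Or.inr (by omega), hKm, okE_of hj hl (by omega) ?_ ?_⟩ <;>
        intro he <;> omega
    · obtain ⟨hj, hKm⟩ := key ((A + 1 - t) / 2) (by omega) _ rfl
      refine ⟨(A + 1 - t) / 2, ?_, hKm, okE_of hj hl (by omega) ?_ ?_⟩
      · omega
      all_goals intro he; omega

/-- Room, `i` odd. -/
def OkO (i d π A j : ℕ) : Prop :=
  2 * j + 2 * i * A ≤ 2 * d ∧ (2 * j + 2 * i * A = 2 * d → π = 0)

theorem okO_iff {i d π A j : ℕ} (hπ : π < 2) (hd : 1 ≤ d) : OkO i d π A j ↔ j + i * A ≤ d - π := by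
  unfold OkO
  rw [Nat.mul_assoc]
  omega

/-- The criterion for `i` odd. -/
theorem crit_odd {i d m π : ℕ} (hi : 0 < i) (hπ : π < 2) (hd : 1 ≤ d) (hmd : m + π ≤ d) (L : Prop)
    (hS : (∀ A, 1 ≤ A → OkO i d π A 0 →
      ∃ K, K ≤ A ∧ K * i ≤ m ∧ OkO i d π A (m - K * i)) → L)
    (hN1 : L → ∀ A, 1 ≤ A → OkO i d π A 0 → OkO i d π A (m % i))
    (hC : ∃ A, 1 ≤ A ∧ OkO i d π A 0 ∧ ¬ OkO i d π A m) :
    L ↔ i ≤ m ∧ m % i ≤ (d - π) % i := by
  simp only [okO_iff hπ hd] at hS hN1 hC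
  have hdm := Nat.div_add_mod m i
  have hdw := Nat.div_add_mod (d - π) i
  constructor
  · intro hL
    obtain ⟨A, hA, hAf, hAm⟩ := hC
    have him : i ≤ m := by
      by_contra hlt
      exact hAm (by simpa [Nat.mod_eq_of_lt (Nat.lt_of_not_ge hlt)] using hN1 hL A hA hAf)
    have h1 : 1 ≤ (d - π) / i := Nat.div_pos (by omega) hi
    have := hN1 hL _ h1 (by omega)
    exact ⟨him, by omega⟩
  · rintro ⟨him, hres⟩
    refine hS fun A hA hAf => ?_
    rw [Nat.zero_add] at hAf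
    by_cases hAM : A ≤ m / i
    · have := Nat.mul_le_mul_left i hAM
      exact ⟨A, le_rfl, by rw [mul_comm]; omega, by rw [mul_comm A i]; omega⟩
    · refine ⟨m / i, by omega, by rw [mul_comm]; omega, ?_⟩
      have h1 : A ≤ (d - π) / i := by rwa [Nat.le_div_iff_mul_le hi, mul_comm]
      have := Nat.mul_le_mul_left i h1
      rw [mul_comm (m / i) i]
      omega

end Cfsg.Agent.OrthPrime.SingArith
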