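import Cfsg.Agent.EqLemmas
import Cfsg.Agent.Lib.Elusive.Geo
import Cfsg.Agent.Lib.Elusive.OddInvol
import Cfsg.Agent.Lib.Forms.Count
import Cfsg.Agent.Lib.Forms.Bases
import Cfsg.Agent.Lib.Forms.Classify
import Mathlib.Algebra.CharP.Two

/-!
# The characteristic does not divide the number of singular subspaces

* `card_zeros_mod` : in dimension at least three the zeros are divisible by `p` in number
* `card_sing_mod`  : the singular `m`-spaces are `1` modulo `p` in number, `2m` below the dimension
-/

set_option autoImplicit false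

namespace Cfsg.Agent.OrthPrime

open Module

universe v

variable {F : Type*} [Field F] [Fintype F] (p : ℕ) [Fact p.Prime] [CharP F p]

theorem card_field_mod : ((Nat.card F : ℕ) : ZMod p) = 0 := by
  obtain ⟨k, -, hk⟩ := FiniteField.card F p
  rw [Nat.card_eq_fintype_card, hk, Nat.cast_pow, ZMod.natCast_self, zero_pow k.ne_zero]

theorem card_zeros_mod {V : Type v} [AddCommGroup V] [Module F V] [FiniteDimensional F V]
    (Q : QuadraticForm F V) (hQ : Q.polarBilin.Nondegenerate) (hd : 3 ≤ finrank F V) :
    (Nat.card {v : V // Q v = 0} : ZMod p) = 0 := by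
  haveI : Finite V := Module.finite_of_finite F
  rcases Forms.classify Q hQ with ⟨m, e, he⟩ | ⟨m, a, b, e, hab, he⟩ | ⟨m, γ, e, hγ, -, he⟩
  · obtain ⟨k, rfl⟩ : ∃ k, m = k + 1 := ⟨m - 1, by have := e.finrank_eq; simp at this; omega⟩
    have hk : 1 ≤ k := by have := e.finrank_eq; simp at this; omega
    rw [Forms.card_zeros_congr (Forms.qfPlus (k + 1) F) Q e 1 one_ne_zero fun v => by rw [he, one_mul]]
    have h := congrArg (Int.cast : ℤ → ZMod p) (Forms.card_zeros_qfPlus (F := F) k)
    push_cast at h
    rw [h, card_field_mod, zero_pow (by omega), zero_pow (by omega), zero_pow (by omega)]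
    simp
  · have hm : 1 ≤ m := by have := e.finrank_eq; simp at this; omega
    rw [Forms.card_zeros_congr (Forms.qfMinus m F a b) Q e 1 one_ne_zero fun v => by rw [he, one_mul]]
    have h := congrArg (Int.cast : ℤ → ZMod p) (Forms.card_zeros_qfMinus hab m)
    push_cast at h
    rw [h, card_field_mod, zero_pow (by omega), zero_pow (by omega), zero_pow (by omega)]
    simp
  · have hm : 1 ≤ m := by have := e.finrank_eq; simp at this; omega
    rw [Forms.card_zeros_congr (Forms.qfOdd m F) Q e γ hγ he, Forms.card_zeros_qfOdd, Nat.cast_pow,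
      card_field_mod, zero_pow (by omega)]

/-- The count. -/
theorem card_sing_mod : ∀ (m : ℕ) {V : Type v} [AddCommGroup V] [Module F V] [FiniteDimensional F V]
    (Q : QuadraticForm F V), Q.polarBilin.Nondegenerate → 2 * m < finrank F V →
      (Nat.card {W : Submodule F V // finrank F W = m ∧ ∀ w ∈ W, Q w = 0} : ZMod p) = 1 := by
  intro m
  induction m with
  | zero =>
    intro V _ _ _ Q _ _
    rw [show Nat.card {W : Submodule F V // finrank F W = 0 ∧ ∀ w ∈ W, Q w = 0} = 1 from
      Nat.card_eq_one_iff_unique.2 ⟨⟨fun a b => Subtype.ext ((Submodule.finrank_eq_zero.1 a.2.1).trans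
        (Submodule.finrank_eq_zero.1 b.2.1).symm)⟩,
        ⟨⟨⊥, finrank_bot F V, fun w hw => by rw [(Submodule.mem_bot F).1 hw, QuadraticMap.map_zero]⟩⟩⟩,
      Nat.cast_one]
  | succ m ih =>
    intro V _ _ _ Q hQ hd
    classical
    haveI : Finite V := Module.finite_of_finite F
    haveI : Finite (Submodule F V) := Finite.of_injective _ SetLike.coe_injective
    haveI := Fintype.ofFinite V
    haveI := Fintype.ofFinite {W : Submodule F V // finrank F W = m + 1 ∧ ∀ w ∈ W, Q w = 0}
    have e : (Σ W : {W : Submodule F V // finrank F W = m + 1 ∧ ∀ w ∈ W, Q w = 0}, {x : W.1 // x ≠ 0}) ≃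
        Σ x : {x : V // x ≠ 0 ∧ Q x = 0},
          {W : {W : Submodule F V // finrank F W = m + 1 ∧ ∀ w ∈ W, Q w = 0} // (x : V) ∈ W.1} :=
      { toFun := fun z => ⟨⟨(z.2.1 : V), fun h => z.2.2 (Subtype.ext h), z.1.2.2 _ z.2.1.2⟩, z.1, z.2.1.2⟩
        invFun := fun z => ⟨z.2.1, ⟨z.1.1, z.2.2⟩, fun h => z.1.2.1 (congrArg Subtype.val h)⟩
        left_inv := fun _ => rfl
        right_inv := fun _ => rfl }
    have hsym : PrimeGraphBC.IsSymF (1 : F) Q.polarBilin :=
      ⟨fun x z => by rw [one_mul, QuadraticMap.polarBilin_apply_apply, QuadraticMap.polarBilin_apply_apply,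
        QuadraticMap.polar_comm], fun x hx => hQ.1 x hx⟩
    have htop : Elusive.NdOn Q.polarBilin (⊤ : Submodule F V) := fun x _ hx =>
      hsym.nd x fun z => hx z Submodule.mem_top
    have hrest : ∀ x : {x : V // x ≠ 0 ∧ Q x = 0},
        (Nat.card {W : {W : Submodule F V // finrank F W = m + 1 ∧ ∀ w ∈ W, Q w = 0} // (x : V) ∈ W.1} : ZMod p) = 1 := by
      intro x
      set S := F ∙ (x : V)
      have hSQ : ∀ s ∈ S, Q s = 0 := fun s hs => by
        obtain ⟨a, rfl⟩ := Submodule.mem_span_singleton.1 hs
        rw [QuadraticMap.map_smul, x.2.2, smul_zero]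
      have hS : Elusive.Iso0 Q.polarBilin S := fun a ha b hb => by
        rw [QuadraticMap.polarBilin_apply_apply]
        simp [QuadraticMap.polar, hSQ a ha, hSQ b hb, hSQ _ (S.add_mem ha hb)]
      have h1 : Elusive.Isom (1 : F) Q.polarBilin (1 : Module.End F V) 1 :=
        ⟨hsym, (PrimeGraphBC.isoMon _).one_mem, pow_one 1, one_pos, by rw [Nat.cast_one]; exact one_ne_zero⟩
      obtain ⟨R, -, -, hR, hRd, hRS, hdis⟩ := h1.hyperbolic_step (X := ⊤) le_top htop
        (S := S) (Submodule.map_id S).le le_top hS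
      have hS1 : finrank F S = 1 := finrank_span_singleton x.2.1
      rw [finrank_top, hS1] at hRd
      have hsup : S ⊔ R = Elusive.orth Q.polarBilin S := by
        refine Submodule.eq_of_le_of_finrank_eq (sup_le (Elusive.iso0_iff_le_orth.1 hS) hRS) ?_
        have h2 := Submodule.finrank_sup_add_finrank_inf_eq S R
        rw [inf_comm, hdis, finrank_bot] at h2
        have h3 := Elusive.finrank_orth hsym S
        omega
      have hinf : ∀ W : Submodule F V, S ≤ W → (∀ w ∈ W, Q w = 0) → S ⊔ (W ⊓ R) = W := by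
        intro W hSW hW
        have hle : W ≤ S ⊔ R := hsup ▸ fun w hw s hs => by
          rw [QuadraticMap.polarBilin_apply_apply]
          simp [QuadraticMap.polar, hW w hw, hW s (hSW hs), hW _ (W.add_mem (hSW hs) hw)]
        conv_rhs => rw [← inf_eq_left.2 hle, inf_comm, sup_inf_assoc_of_le R hSW, inf_comm]
      have hdim : ∀ U : Submodule F V, U ≤ R → finrank F ↥(S ⊔ U) = 1 + finrank F U := by
        intro U hU
        have h2 := Submodule.finrank_sup_add_finrank_inf_eq S U
        rw [show S ⊓ U = ⊥ from le_bot_iff.1 ((inf_comm S U).le.trans ((inf_le_inf_right S hU).trans hdis.le)),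
          finrank_bot, hS1] at h2
        omega
      have hRn : (Q.comp R.subtype).polarBilin.Nondegenerate :=
        (Forms.nondegenerate_polarBilin_iff _).2 fun a ha => Subtype.ext (hR a a.2 fun z hz => by
          have := ha ⟨z, hz⟩
          simpa [QuadraticMap.polar] using this)
      rw [← ih (Q.comp R.subtype) hRn (by omega)]
      congr 1
      refine Nat.card_congr
        { toFun := fun W => ⟨(W.1.1 ⊓ R).comap R.subtype, ?_, fun a ha => W.1.2.2 _ ha.1⟩
          invFun := fun U => ⟨⟨S ⊔ U.1.map R.subtype, ?_, ?_⟩, Submodule.mem_sup_left (Submodule.mem_span_singleton_self _)⟩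
          left_inv := fun W => Subtype.ext (Subtype.ext ?_)
          right_inv := fun U => Subtype.ext ?_ }
      · rw [← Submodule.finrank_map_subtype_eq, Submodule.map_comap_subtype, inf_comm, inf_assoc, inf_idem]
        have h2 := hdim _ (inf_le_right : W.1.1 ⊓ R ≤ R)
        rw [hinf _ ((Submodule.span_singleton_le_iff_mem _ _).2 W.2) W.1.2.2, W.1.2.1] at h2
        omega
      · rw [hdim _ (Submodule.map_subtype_le R U.1), Submodule.finrank_map_subtype_eq, U.2.1, add_comm]
      · intro w hw
        obtain ⟨s, hs, _, ⟨u, hu, rfl⟩, rfl⟩ := Submodule.mem_sup.1 hw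
        have h2 : QuadraticMap.polar Q s (u : V) = 0 := hRS u.2 s hs
        rw [Submodule.coe_subtype, QuadraticMap.map_add (⇑Q), hSQ s hs, h2, show Q (u : V) = 0 from U.2.2 u hu,
          add_zero, add_zero]
      · show S ⊔ ((W.1.1 ⊓ R).comap R.subtype).map R.subtype = W.1.1
        rw [Submodule.map_comap_subtype, inf_comm R, inf_assoc, inf_idem]
        exact hinf _ ((Submodule.span_singleton_le_iff_mem _ _).2 W.2) W.1.2.2
      · show ((S ⊔ U.1.map R.subtype) ⊓ R).comap R.subtype = U.1
        rw [sup_comm S, sup_inf_assoc_of_le S (Submodule.map_subtype_le R U.1), inf_comm S, hdis, sup_bot_eq]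
        exact Submodule.comap_map_eq_of_injective R.subtype_injective U.1
    have hcount := congrArg (Nat.cast : ℕ → ZMod p) (Nat.card_congr e)
    haveI := Fintype.ofFinite {x : V // x ≠ 0 ∧ Q x = 0}
    rw [Nat.card_sigma, Nat.card_sigma, Nat.cast_sum, Nat.cast_sum,
      Finset.sum_congr rfl fun x _ => hrest x, Finset.sum_const, Finset.card_univ, ← Nat.card_eq_fintype_card,
      nsmul_eq_mul, mul_one] at hcount
    have hfib : ∀ W : {W : Submodule F V // finrank F W = m + 1 ∧ ∀ w ∈ W, Q w = 0},
        (Nat.card {x : W.1 // x ≠ 0} : ZMod p) = -1 := by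
      intro W
      haveI := Fintype.ofFinite W.1
      have h : Nat.card {x : W.1 // x ≠ 0} + 1 = Nat.card F ^ (m + 1) := by
        rw [Nat.card_eq_fintype_card, Fintype.card_subtype_compl, Fintype.card_subtype_eq,
          Nat.sub_add_cancel Fintype.card_pos, ← Nat.card_eq_fintype_card, Module.natCard_eq_pow_finrank (K := F),
          W.2.1]
      have h2 := congrArg (Nat.cast : ℕ → ZMod p) h
      rw [Nat.cast_add, Nat.cast_pow, card_field_mod (F := F), zero_pow (by omega), Nat.cast_one] at h2
      exact eq_neg_of_add_eq_zero_left h2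
    rw [Finset.sum_congr rfl fun W _ => hfib W, Finset.sum_const, Finset.card_univ,
      ← Nat.card_eq_fintype_card, nsmul_eq_mul, mul_neg, mul_one] at hcount
    have hz := congrArg (Nat.cast : ℕ → ZMod p) (Forms.card_ne_zero_zeros Q)
    rw [Nat.cast_add, Nat.cast_one, card_zeros_mod p Q hQ (by omega)] at hz
    linear_combination -hcount - hz

theorem not_dvd_card_sing {V : Type v} [AddCommGroup V] [Module F V] [FiniteDimensional F V]
    (Q : QuadraticForm F V) (hQ : Q.polarBilin.Nondegenerate) {m : ℕ} (hm : 2 * m < finrank F V) :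
    ¬ p ∣ Nat.card {W : Submodule F V // finrank F W = m ∧ ∀ w ∈ W, Q w = 0} := by
  rw [← ZMod.natCast_eq_zero_iff, card_sing_mod p m Q hQ hm]
  exact one_ne_zero

end Cfsg.Agent.OrthPrime
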