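import Cfsg.Agent.EqLemmas
import Cfsg.Agent.Lib.OrthPrime.Char2
import Cfsg.Agent.Lib.OrthPrime.Preds
import Cfsg.Agent.Lib.Elusive.Common

/-!
# Singular subspaces

* `Sing Q m W` : a subspace of dimension `m` on which `Q` vanishes
* `exists_singular_sub`, `singular_le` : their dimensions inside a non-degenerate subspace
* `singular_of_iso0` : invariant isotropic subspaces without fixed vectors are singular
-/

set_option autoImplicit false

namespace Cfsg.Agent.OrthPrime

open Module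

variable {F : Type*} [Field F] {ι : Type} [Fintype ι] {Q : QuadraticForm F (ι → F)}

/-- A singular subspace of dimension `m`. -/
def Sing (Q : QuadraticForm F (ι → F)) (m : ℕ) (W : Submodule F (ι → F)) : Prop :=
  finrank F W = m ∧ ∀ w ∈ W, Q w = 0

theorem sing_bot (Q : QuadraticForm F (ι → F)) : Sing Q 0 ⊥ :=
  ⟨finrank_bot F _, fun w hw => by rw [(Submodule.mem_bot F).1 hw, QuadraticMap.map_zero]⟩

theorem Sing.iso0 {m : ℕ} {W : Submodule F (ι → F)} (h : Sing Q m W) : Elusive.Iso0 Q.polarBilin W :=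
  fun _ hu _ hv => polar_eq_zero h.2 hu hv

/-- Orthogonal singular subspaces with zero intersection. -/
theorem Sing.sup {a b : ℕ} {U W : Submodule F (ι → F)} (hU : Sing Q a U) (hW : Sing Q b W)
    (ho : ∀ u ∈ U, ∀ w ∈ W, QuadraticMap.polar Q u w = 0) (hd : U ⊓ W = ⊥) : Sing Q (a + b) (U ⊔ W) := by
  refine ⟨?_, fun x hx => ?_⟩
  · have := Submodule.finrank_sup_add_finrank_inf_eq U W
    rw [hd, finrank_bot, hU.1, hW.1] at this
    omega
  · obtain ⟨u, hu, w, hw, rfl⟩ := Submodule.mem_sup.1 hx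
    rw [QuadraticMap.map_add (⇑Q), hU.2 u hu, hW.2 w hw, ho u hu w hw, add_zero, add_zero]

theorem exists_sing_le {a j : ℕ} {W : Submodule F (ι → F)} (hW : Sing Q a W) (hj : j ≤ a) :
    ∃ U ≤ W, Sing Q j U := by
  obtain ⟨U, hU, hUd⟩ := Elusive.exists_le_finrank W (hW.1.symm ▸ hj)
  exact ⟨U, hU, hUd, fun w hw => hW.2 w (hU hw)⟩

/-- The upper bound. -/
theorem singular_le {X W : Submodule F (ι → F)} (hX : NDeg Q X) (hWX : W ≤ X) {j : ℕ} (hW : Sing Q j W) :
    2 * j ≤ finrank F X ∧ (2 * j = finrank F X → Half Q X) := by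
  refine ⟨?_, fun he => ⟨W, hWX, hW.2, by rw [hW.1]; exact he⟩⟩
  have h := Forms.two_mul_finrank_singular_le (Q.comp X.subtype) hX.comp (W.comap X.subtype)
    (fun w hw => hW.2 _ hw)
  rwa [show finrank F (W.comap X.subtype) = j by
    rw [← Submodule.finrank_map_subtype_eq X, Submodule.map_comap_subtype, inf_eq_right.2 hWX, hW.1]] at h

variable [DecidableEq ι] [Fintype F]

/-- Existence in even dimension. -/
theorem exists_singular_sub {X : Submodule F (ι → F)} (hX : NDeg Q X) {n j : ℕ} (hd : finrank F X = 2 * n)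
    (hj : j ≤ n) (htop : j = n → Half Q X) : ∃ U ≤ X, Sing Q j U := by
  rcases Nat.eq_zero_or_pos j with rfl | hj0
  · exact ⟨⊥, bot_le, sing_bot Q⟩
  obtain ⟨S, hSX, -, hSd, hSh⟩ := exists_sub_half hX hd hj0 hj True fun h => by simpa using htop h
  obtain ⟨U, hU, hUs, hUd⟩ := hSh.2 trivial
  exact ⟨U, hU.trans hSX, by omega, hUs⟩

omit [Fintype F] in
/-- An invariant isotropic subspace without fixed vectors is singular. -/
theorem singular_of_iso0 {y : Module.End F (ι → F)} (hy : ∀ v, Q (y v) = Q v) {W : Submodule F (ι → F)}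
    (hWi : Invt y W) (hW : Elusive.Iso0 Q.polarBilin W) (hf : ∀ w ∈ W, y w = w → w = 0) :
    ∀ w ∈ W, Q w = 0 := by
  let L : W →ₗ[F] W := y.restrict hWi - LinearMap.id
  have hinj : Function.Injective L := (injective_iff_map_eq_zero L).2 fun u hu => by
    refine Subtype.ext (hf u u.2 ?_)
    have : y (u : ι → F) - u = 0 := congrArg Subtype.val hu
    exact sub_eq_zero.1 this
  intro w hw
  obtain ⟨u, hu⟩ := LinearMap.injective_iff_surjective.1 hinj ⟨w, hw⟩
  have hwu : y (u : ι → F) - u = w := congrArg Subtype.val hu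
  have h1 : QuadraticMap.polar Q (y (u : ι → F)) (u : ι → F) = 0 := hW _ (hWi u u.2) _ u.2
  have h2 : QuadraticMap.polar Q (u : ι → F) (u : ι → F) = 0 := hW _ u.2 _ u.2
  rw [QuadraticMap.polar_self, nsmul_eq_mul, Nat.cast_ofNat] at h2
  rw [← hwu, Orth.Q_sub, h1, hy]
  linear_combination h2

end Cfsg.Agent.OrthPrime
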