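import Cfsg.Agent.EqLemmas
import Cfsg.Agent.Lib.OrthPrime.Eval
import Cfsg.Agent.Lib.OrthPrime.Preds
import Cfsg.Agent.Lib.OrthPrime.SingSub
import Cfsg.Agent.Lib.Elusive.OddInvol

/-!
# Elements of odd prime order with given blocks

* `Ok`, `has_top_iff` : room for singular subspaces beside blocks
* `fix_data` : the fixed space of an element with `A` blocks
* `exists_elt` : elements with any possible number of blocks
* `exists_special` : for `i` even, with up to `(r-1)/i` blocks and no invariant isotropic subspace outside the fixed space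
-/

set_option autoImplicit false

namespace Cfsg.Agent.OrthPrime

open Module

/-- Room for a singular `j`-space beside `A` blocks in a `2d`-space; `π` is the parity for its type. -/
def Ok (i d π A j : ℕ) : Prop :=
  2 * j + bsize i * A ≤ 2 * d ∧ (2 * j + bsize i * A = 2 * d → (i + 1) * A % 2 = π)

variable {F : Type*} [Field F] {ι : Type} [Fintype ι] [DecidableEq ι] {Q : QuadraticForm F (ι → F)}

theorem isom_of_pow [Fintype F] {r : ℕ} (hQ : Q.polarBilin.Nondegenerate) {y : Module.End F (ι → F)}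
    (hy : ∀ v, Q (y v) = Q v) (hyr : y ^ r = 1) (hr : 0 < r) (hrF : (r : F) ≠ 0) :
    Elusive.Isom (1 : F) Q.polarBilin y r :=
  ⟨Elusive.polarBilin_isSym hQ, fun u v => polar_inv Q hy u v, hyr, hr, hrF⟩

variable [Fintype F] {r i : ℕ} [hr : Fact r.Prime] (hrF : (r : F) ≠ 0)
  (hi : ∀ k : ℕ, (Fintype.card F : ZMod r) ^ k = 1 ↔ i ∣ k) (hi0 : 0 < i) (hr2 : r ≠ 2)
include hrF hi hi0 hr2

/-- The block numbers of the space. -/
theorem has_top_iff (hQ : Q.polarBilin.Nondegenerate) {d π : ℕ} (hd : Fintype.card ι = 2 * d) (hπ : π < 2)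
    (htype : Half Q (⊤ : Submodule F (ι → F)) ↔ π = 0) (A : ℕ) :
    Has r i Q (⊤ : Submodule F (ι → F)) A ↔ Ok i d π A 0 := by
  obtain ⟨h1, h2⟩ := has_top_even (Q := Q) hrF hi hi0 hr2 hQ (h := d)
    (by rw [Module.finrank_fintype_fun_eq_card, hd])
  unfold Ok
  rw [Nat.mul_zero, Nat.zero_add]
  by_cases hH : Half Q (⊤ : Submodule F (ι → F))
  · rw [h1 hH, le_capP hi0, Nat.even_iff]
    have := htype.1 hH
    omega
  · obtain ⟨hd0, h3⟩ := h2 hH
    rw [h3, le_capM hi0 (by omega), Nat.odd_iff]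
    have : π = 1 := by
      have : π ≠ 0 := fun h => hH (htype.2 h)
      omega
    omega

omit [DecidableEq ι] in
/-- The fixed space. -/
theorem fix_data (hQ : Q.polarBilin.Nondegenerate) {d π : ℕ} (hd : Fintype.card ι = 2 * d) (hπ : π < 2)
    (htype : Half Q (⊤ : Submodule F (ι → F)) ↔ π = 0) {y : Module.End F (ι → F)} (hy : ∀ v, Q (y v) = Q v)
    (hyr : y ^ r = 1) {A : ℕ} (hA : Block r i Q (movSub y) A) :
    NDeg Q (fixSub y) ∧ finrank F (fixSub y) + bsize i * A = 2 * d ∧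
      (Half Q (fixSub y) ↔ (i + 1) * A % 2 = π) := by
  obtain ⟨hn, ho⟩ := mov_ndeg (Q := Q) hrF hi hr2 hQ hy hyr
  have hdim := Submodule.finrank_add_eq_of_isCompl (isCompl_fix_mov hrF hyr)
  rw [Module.finrank_fintype_fun_eq_card, hd, hA.1] at hdim
  have hperp := Submodule.finrank_add_eq_of_isCompl (isCompl_perp (Q := Q) hn)
  rw [Module.finrank_fintype_fun_eq_card, hd, hA.1] at hperp
  have hfix : fixSub y = perp Q (movSub y) := by
    refine Submodule.eq_of_le_of_finrank_le (fun x hx m hm => ?_) (by omega)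
    show QuadraticMap.polar Q m x = 0
    rw [QuadraticMap.polar_comm]
    exact ho x hx m hm
  refine ⟨hfix ▸ ndeg_perp hQ hn, hdim, ?_⟩
  obtain ⟨b, hb⟩ := (even_bsize i).mul_right A
  rw [hfix, half_perp_iff hQ hn (h := b) (h' := d - b) (by rw [hA.1]; omega) (by omega), htype]
  have hM : Half Q (movSub y) ↔ Even ((i + 1) * A) := by
    rcases Nat.eq_zero_or_pos b with h0 | h0
    · have hA0 : A = 0 := by
        rcases Nat.mul_eq_zero.1 (show bsize i * A = 0 by omega) with h | h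
        · exact absurd h (bsize_pos hi0).ne'
        · exact h
      refine iff_of_true ⟨⊥, bot_le, fun u hu => by rw [(Submodule.mem_bot F).1 hu, QuadraticMap.map_zero],
        by rw [finrank_bot, hA.1]; omega⟩ (by simp [hA0])
    · rw [half_comp]
      exact type_of_full hrF hi hi0 hr2 hn.comp (h := b) (by rw [hA.1]; omega) h0
        (has_comp.1 ⟨_, le_rfl, hA⟩) (by omega)
  rw [hM, Nat.even_iff]
  omega

omit hi hi0 hr2 hrF [DecidableEq ι] in
/-- Elements with blocks in number `A`. -/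
theorem exists_elt (hi0 : 0 < i) {A : ℕ} (hA : 1 ≤ A) (h : Has r i Q (⊤ : Submodule F (ι → F)) A) :
    ∃ y : Module.End F (ι → F), (∀ v, Q (y v) = Q v) ∧ y ^ r = 1 ∧ y ≠ 1 ∧ Block r i Q (movSub y) A := by
  obtain ⟨U, -, hUd, g, hg⟩ := h
  have hUn : NDeg Q U := ndeg_of_comp hg.nd
  set x : Module.End F (ι → F) := (U.subtype.comp g).comp (U.projectionOnto _ (isCompl_perp hUn)) +
    (perp Q U).subtype.comp ((perp Q U).projectionOnto _ (isCompl_perp hUn).symm) with hx
  have hxu : ∀ (u : U) (w : perp Q U), x ((u : ι → F) + w) = (g u : ι → F) + w := fun u w => by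
    simp [hx, (Submodule.projectionOnto_apply_eq_zero_iff (isCompl_perp hUn)).2 w.2,
      (Submodule.projectionOnto_apply_eq_zero_iff (isCompl_perp hUn).symm).2 u.2]
  have hdec : ∀ v : ι → F, ∃ (u : U) (w : perp Q U), (u : ι → F) + w = v := fun v => by
    obtain ⟨u, hu, w, hw, h⟩ := Submodule.mem_sup.1
      ((isCompl_perp hUn).sup_eq_top ▸ Submodule.mem_top : v ∈ U ⊔ perp Q U)
    exact ⟨⟨u, hu⟩, ⟨w, hw⟩, h⟩
  have hiso : ∀ v, Q (x v) = Q v := fun v => by
    obtain ⟨u, w, rfl⟩ := hdec v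
    rw [hxu, QuadraticMap.map_add (⇑Q), QuadraticMap.map_add (⇑Q),
      show QuadraticMap.polar Q (g u : ι → F) w = 0 from w.2 _ (g u).2,
      show QuadraticMap.polar Q (u : ι → F) w = 0 from w.2 _ u.2, show Q (g u : ι → F) = Q (u : ι → F) from hg.iso u]
  have hxk : ∀ (k : ℕ) (u : U) (w : perp Q U), (x ^ k) ((u : ι → F) + w) = ((g ^ k) u : ι → F) + w := fun k u w => by
    induction k with
    | zero => rfl
    | succ k ih => rw [pow_succ', Module.End.mul_apply, ih, hxu, pow_succ', Module.End.mul_apply]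
  have hxr : x ^ r = 1 := LinearMap.ext fun v => by
    obtain ⟨u, w, rfl⟩ := hdec v
    rw [hxk, hg.pow]
    rfl
  have hmov : movSub x = U := by
    refine le_antisymm ?_ fun u hu => ?_
    · rintro _ ⟨v, rfl⟩
      obtain ⟨a, w, rfl⟩ := hdec v
      rw [LinearMap.sub_apply, Module.End.one_apply, hxu, add_sub_add_right_eq_sub]
      exact sub_mem (g a).2 a.2
    · have hinj : Function.Injective (g - 1 : Module.End F U) := (injective_iff_map_eq_zero _).2 fun z hz =>
        hg.free z (sub_eq_zero.1 (by simpa using hz))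
      obtain ⟨a, ha⟩ := LinearMap.injective_iff_surjective.1 hinj ⟨u, hu⟩
      refine ⟨a, ?_⟩
      have := hxu a 0
      rw [Submodule.coe_zero, add_zero, add_zero] at this
      rw [LinearMap.sub_apply, Module.End.one_apply, this]
      exact congrArg Subtype.val ha
  refine ⟨x, hiso, hxr, fun h1 => ?_, hmov ▸ ⟨hUd, g, hg⟩⟩
  have hb : movSub x = ⊥ := by rw [h1, movSub, sub_self, LinearMap.range_zero]
  rw [hmov] at hb
  rw [hb, finrank_bot] at hUd
  rcases Nat.mul_eq_zero.1 hUd.symm with h' | h'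
  · exact (bsize_pos hi0).ne' h'
  · omega

omit [DecidableEq ι] in
/-- A block splits. -/
theorem Block.split {U : Submodule F (ι → F)} {a b : ℕ} (h : Block r i Q U (a + b)) :
    ∃ U₁ U₂, U₁ ≤ U ∧ U₂ ≤ U ∧ Block r i Q U₁ a ∧ Block r i Q U₂ b ∧
      ∀ x ∈ U₁, ∀ z ∈ U₂, QuadraticMap.polar Q x z = 0 := by
  obtain ⟨hUd, g, hg⟩ := h
  obtain ⟨P₀, hP₀i, hP₀n, hP₀d⟩ := exists_blocks hi hi0 hr2 hg hUd a (Nat.le_add_right a b)
  let e₀ : P₀ →ₗ[F] (ι → F) := U.subtype.comp P₀.subtype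
  let e₁ : perp (Q.comp U.subtype) P₀ →ₗ[F] (ι → F) := U.subtype.comp (perp (Q.comp U.subtype) P₀).subtype
  have hd' : finrank F (perp (Q.comp U.subtype) P₀) = bsize i * b := by
    have := Submodule.finrank_add_eq_of_isCompl (isCompl_perp hP₀n)
    rw [hP₀d, hUd, Nat.mul_add] at this
    change bsize i * a + _ = _ at this
    omega
  refine ⟨LinearMap.range e₀, LinearMap.range e₁, ?_, ?_,
    Block.transfer (Q' := Q.comp U.subtype) ⟨hP₀d, _, hg.restrict hP₀i hP₀n⟩ e₀ (fun u => rfl)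
      (fun a b hab => Subtype.ext (Subtype.ext hab)),
    Block.transfer (Q' := Q.comp U.subtype)
      ⟨hd', _, hg.restrict (hg.perp_invt hr.out.pos hP₀i) (ndeg_perp hg.nd hP₀n)⟩ e₁ (fun u => rfl)
      (fun a b hab => Subtype.ext (Subtype.ext hab)), ?_⟩
  · rintro _ ⟨u, rfl⟩; exact u.1.2
  · rintro _ ⟨u, rfl⟩; exact u.1.2
  · rintro _ ⟨x, rfl⟩ _ ⟨z, rfl⟩
    have := z.2 x.1 x.2
    simpa [QuadraticMap.polar, QuadraticMap.polarBilin, e₀, e₁] using this

omit [DecidableEq ι] in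
/-- Orthogonal isometric copies of one block. -/
theorem exists_copies {U₁ : Submodule F (ι → F)} (h₁ : Block r i Q U₁ 1) :
    ∀ (u : ℕ) (X : Submodule F (ι → F)), Block r i Q X u →
      ∃ L : (Fin u → U₁) →ₗ[F] (ι → F), (∀ w, L w ∈ X) ∧ ∀ w, Q (L w) = ∑ j, Q (w j : ι → F) := by
  intro u
  induction u with
  | zero => exact fun X _ => ⟨0, fun w => by simp, fun w => by simp⟩
  | succ u ih =>
    intro X hX
    obtain ⟨X₁, X₂, hX₁, hX₂, hb₁, hb₂, ho⟩ := hX.split hrF hi hi0 hr2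
    obtain ⟨L, hL, hLQ⟩ := ih X₁ hb₁
    obtain ⟨φ, hφ⟩ := h₁.isometric hrF hr2 hb₂
    refine ⟨L.comp (LinearMap.funLeft F U₁ Fin.castSucc) +
      (X₂.subtype.comp φ.toLinearMap).comp (LinearMap.proj (Fin.last u)), fun w => ?_, fun w => ?_⟩
    · exact add_mem (hX₁ (hL _)) (hX₂ (φ _).2)
    · rw [LinearMap.add_apply, QuadraticMap.map_add (⇑Q), Fin.sum_univ_castSucc]
      have e2 : Q (((X₂.subtype.comp φ.toLinearMap).comp (LinearMap.proj (Fin.last u))) w) =
          Q (w (Fin.last u) : ι → F) := hφ _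
      rw [e2, LinearMap.comp_apply, hLQ]
      have e3 : QuadraticMap.polar Q (L ((LinearMap.funLeft F (↥U₁) Fin.castSucc) w))
          (((X₂.subtype.comp φ.toLinearMap).comp (LinearMap.proj (Fin.last u))) w) = 0 :=
        ho _ (hL _) _ (φ _).2
      rw [e3, add_zero]
      rfl

/-- With up to `(r-1)/i` blocks of different types: no invariant isotropic subspace outside the fixed space. -/
theorem exists_special (hie : Even i) (hQ : Q.polarBilin.Nondegenerate) {u : ℕ} (hu : 1 ≤ u)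
    (hut : u * i ≤ r - 1) (h : Has r i Q (⊤ : Submodule F (ι → F)) u) :
    ∃ y : Module.End F (ι → F), (∀ v, Q (y v) = Q v) ∧ y ^ r = 1 ∧ y ≠ 1 ∧ Block r i Q (movSub y) u ∧
      ∀ W : Submodule F (ι → F), Invt y W → Elusive.Iso0 Q.polarBilin W → W ≤ fixSub y := by
  classical
  have hord : orderOf (Fintype.card F : ZMod r) = i :=
    Nat.dvd_antisymm (orderOf_dvd_of_pow_eq_one ((hi i).2 dvd_rfl)) ((hi _).1 (pow_orderOf_eq_one _))
  have hc : bsize i = i := if_pos hie
  obtain ⟨U, -, hU⟩ := h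
  obtain ⟨U₁, -, -, -, h₁, -, -⟩ := (show Block r i Q U (1 + (u - 1)) by
    rwa [show 1 + (u - 1) = u by omega]).split hrF hi hi0 hr2
  obtain ⟨L, -, hLQ⟩ := exists_copies hrF hi hi0 hr2 h₁ u U hU
  obtain ⟨hU₁d, g, hg⟩ := h₁
  rw [hc, mul_one] at hU₁d
  let BW : LinearMap.BilinForm F U₁ := (Q.comp U₁.subtype).polarBilin
  have hBW : ∀ a b : U₁, BW a b = QuadraticMap.polar Q (a : ι → F) b := fun a b => by
    simp [BW, QuadraticMap.polar]
  have hWsym : PrimeGraphBC.IsSymF (1 : F) BW :=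
    ⟨fun a b => by rw [one_mul, hBW, hBW, QuadraticMap.polar_comm], fun a ha => hg.nd.1 a ha⟩
  have hgI : Elusive.Isom (1 : F) BW g r := ⟨hWsym, fun a b => polar_inv (Q.comp U₁.subtype) hg.iso a b, hg.pow,
    hr.out.pos, hrF⟩
  have hgf : PrimeOrderElt.fix g = ⊥ := eq_bot_iff.2 fun a ha =>
    (Submodule.mem_bot F).2 (hg.free a (PrimeOrderElt.mem_fix.1 ha))
  obtain ⟨e, he, hsep⟩ := Elusive.exists_exponents (F := F) (r := r) (u := u) hrF (by rwa [hord])
  -- the form on the copies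
  have hpol : ∀ w w', QuadraticMap.polar Q (L w) (L w') = Elusive.piForm BW u w w' := fun w w' => by
    simp only [QuadraticMap.polar, ← map_add, hLQ, Elusive.piForm_apply, hBW, Pi.add_apply, Submodule.coe_add,
      ← Finset.sum_sub_distrib]
  have hLn : ∀ w, (∀ w', QuadraticMap.polar Q (L w) (L w') = 0) → w = 0 := fun w hw =>
    (Elusive.piForm_isSym (u := u) hWsym).nd w fun w' => (hpol w w').symm.trans (hw w')
  have hLinj : Function.Injective L := (injective_iff_map_eq_zero L).2 fun w hw => hLn w fun w' => by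
    rw [hw, QuadraticMap.polar_zero_left]
  have hRn : NDeg Q (LinearMap.range L) := by
    rintro _ ⟨w, rfl⟩ hw'
    rw [hLn w fun w' => hw' _ ⟨w', rfl⟩, map_zero]
  set P := perp Q (LinearMap.range L) with hP
  have hPn : NDeg Q P := ndeg_perp hQ hRn
  let BP : LinearMap.BilinForm F P := (Q.comp P.subtype).polarBilin
  have hBP : ∀ a b : P, BP a b = QuadraticMap.polar Q (a : ι → F) b := fun a b => by
    simp [BP, QuadraticMap.polar]
  have hPsym : PrimeGraphBC.IsSymF (1 : F) BP :=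
    ⟨fun a b => by rw [one_mul, hBP, hBP, QuadraticMap.polar_comm], fun a ha => hPn.comp.1 a ha⟩
  let Φ : (P × (Fin u → U₁)) ≃ₗ[F] (ι → F) :=
    ((LinearEquiv.refl F P).prodCongr (LinearEquiv.ofInjective L hLinj)).trans
      (Submodule.prodEquivOfIsCompl P (LinearMap.range L) (isCompl_perp hRn).symm)
  have hΦ : ∀ z, Φ z = (z.1 : ι → F) + L z.2 := fun z => rfl
  have hΦQ : ∀ z, Q (Φ z) = Q (z.1 : ι → F) + ∑ j, Q (z.2 j : ι → F) := fun z => by
    rw [hΦ, QuadraticMap.map_add (⇑Q), hLQ, QuadraticMap.polar_comm,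
      show QuadraticMap.polar Q (L z.2) (z.1 : ι → F) = 0 from z.1.2 _ ⟨_, rfl⟩, add_zero]
  have hΦB : ∀ z z', QuadraticMap.polar Q (Φ z) (Φ z') =
      PrimeGraphBC.prodForm BP (Elusive.piForm BW u) z z' := fun z z' => by
    rw [hΦ, hΦ, PrimeGraphBC.prodForm_apply, hBP, ← hpol, QuadraticMap.polar_add_left, QuadraticMap.polar_add_right,
      QuadraticMap.polar_add_right, show QuadraticMap.polar Q (L z.2) (z'.1 : ι → F) = 0 from z'.1.2 _ ⟨_, rfl⟩,
      QuadraticMap.polar_comm (⇑Q) (z.1 : ι → F) (L z'.2),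
      show QuadraticMap.polar Q (L z'.2) (z.1 : ι → F) = 0 from z.1.2 _ ⟨_, rfl⟩, add_zero, zero_add]
  set b := Elusive.blockMap (↥P) g e with hb
  set y : Module.End F (ι → F) := Φ.conj b with hy
  have hyΦ : ∀ z, y (Φ z) = Φ (b z) := fun z => by rw [hy, LinearEquiv.conj_apply_apply, Φ.symm_apply_apply]
  have hiso : ∀ v, Q (y v) = Q v := fun v => by
    obtain ⟨z, rfl⟩ := Φ.surjective v
    rw [hyΦ, hΦQ, hΦQ, hb, Elusive.blockMap_apply]
    refine congrArg₂ (· + ·) rfl (Finset.sum_congr rfl fun j _ => ?_)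
    have hk : ∀ (k : ℕ) (a : U₁), Q (((g ^ k) a : U₁) : ι → F) = Q (a : ι → F) := by
      intro k a
      induction k with
      | zero => rfl
      | succ k ih => rw [pow_succ', Module.End.mul_apply, ← ih]; exact hg.iso _
    exact hk (e j) _
  have hyr : y ^ r = 1 := by
    rw [hy, show (Φ.conj b) ^ r = (Φ.conjAlgEquiv F b) ^ r from rfl, ← map_pow,
      (Elusive.blocks_isom hPsym hgI e).pow, map_one]
  have hbf := Elusive.finrank_blocks_fix (P := ↥P) hg.pow hgf he
  rw [← hb] at hbf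
  have hfix : fixSub y = (PrimeOrderElt.fix b).map Φ.toLinearMap := by
    ext v
    obtain ⟨z, rfl⟩ := Φ.surjective v
    rw [mem_fixSub, hyΦ, Φ.injective.eq_iff, ← PrimeOrderElt.mem_fix]
    exact ⟨fun hz => ⟨z, hz, rfl⟩, fun ⟨z', hz', h⟩ => Φ.injective h ▸ hz'⟩
  have hmovd : finrank F (movSub y) = u * i := by
    have h1 := Submodule.finrank_add_eq_of_isCompl (isCompl_fix_mov hrF hyr)
    rw [hfix, LinearEquiv.finrank_map_eq, hbf, ← Φ.finrank_eq, Module.finrank_prod, Module.finrank_pi_fintype,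
      Finset.sum_const, Finset.card_univ, Fintype.card_fin, smul_eq_mul, hU₁d] at h1
    omega
  obtain ⟨A, hA⟩ := exists_block_mov (Q := Q) hrF hi hi0 hr2 hQ hiso hyr
  have hAu : A = u := by
    have h1 := hA.1
    rw [hmovd, hc, mul_comm i A] at h1
    exact (Nat.eq_of_mul_eq_mul_right hi0 h1).symm
  subst hAu
  refine ⟨y, hiso, hyr, fun h1 => ?_, hA, fun W hWi hW => ?_⟩
  · have hb0 : movSub y = ⊥ := by rw [h1, movSub, sub_self, LinearMap.range_zero]
    rw [hb0, finrank_bot] at hmovd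
    rcases Nat.mul_eq_zero.1 hmovd.symm with h | h <;> omega
  · set W' := W.comap Φ.toLinearMap with hW'
    have hinv : PrimeOrderElt.Inv b W' := by
      rintro _ ⟨z, hz, rfl⟩
      show Φ (b z) ∈ W
      rw [← hyΦ]
      exact hWi _ hz
    have hiso' : Elusive.Iso0 (PrimeGraphBC.prodForm BP (Elusive.piForm BW A)) W' := fun a ha c hc' =>
      (hΦB a c).symm.trans (hW _ ha _ hc')
    have h1 := Elusive.no_isotropic_blocks hPsym hgI hgf (by rw [hU₁d, hord]) he hsep hinv hiso'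
    have h2 : W' ⊓ PrimeOrderElt.fix b = W' := Submodule.eq_of_le_of_finrank_eq inf_le_left h1
    intro v hv
    obtain ⟨z, rfl⟩ := Φ.surjective v
    rw [hfix]
    have hzW : z ∈ W' := hv
    rw [← h2] at hzW
    exact ⟨z, hzW.2, rfl⟩

end Cfsg.Agent.OrthPrime
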