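import Cfsg.Agent.EqLemmas
import Cfsg.Agent.Lib.OrthPrime.SingElt
import Cfsg.Agent.Lib.OrthPrime.Dvd
import Mathlib.GroupTheory.GroupAction.Quotient

/-!
# A prime dividing the number of singular `m`-spaces

* `card_sing_mul_dvd` : the number of singular `m`-spaces times `|O(H⊥)|` divides `|O(V)|`
* `exists_no_room` : so some element of order `r` has no fixed singular `m`-space in its fixed space
-/

set_option autoImplicit false

namespace Cfsg.Agent.OrthPrime

open Module
open scoped Pointwise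

variable {F : Type*} [Field F] [Fintype F] {ι : Type} [Fintype ι] [DecidableEq ι] {Q : QuadraticForm F (ι → F)}

omit [Fintype F] [DecidableEq ι] in
theorem coe_smul_sub (G : Subgroup ((ι → F) ≃ₗ[F] (ι → F))) (g : G) (W : Submodule F (ι → F)) :
    ((g • W : Submodule F (ι → F)) : Set (ι → F)) = (g.1 : (ι → F) → (ι → F)) '' W := rfl

omit [DecidableEq ι] in
/-- The orbit. -/
theorem card_sing_mul_dvd (hQ : Q.polarBilin.Nondegenerate) {m : ℕ} {W₀ H : Submodule F (ι → F)}
    (hW : Sing Q m W₀) (hle : W₀ ≤ H) (hH : NDeg Q H) :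
    Nat.card {W // Sing Q m W} * Nat.card (Forms.preservingFun (F := F) (⇑(Q.comp (perp Q H).subtype))) ∣
      Nat.card (Forms.preservingFun (F := F) (⇑Q)) := by
  classical
  let G := Forms.preservingFun (F := F) (⇑Q)
  have horb : ∀ W, W ∈ MulAction.orbit G W₀ ↔ Sing Q m W := by
    intro W
    constructor
    · rintro ⟨g, rfl⟩
      show Sing Q m (g • W₀)
      refine ⟨?_, fun w hw => ?_⟩
      · rw [show (g • W₀ : Submodule F (ι → F)) = W₀.map g.1.toLinearMap from SetLike.coe_injective (by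
          rw [coe_smul_sub, Submodule.map_coe]; rfl), LinearEquiv.finrank_map_eq]
        exact hW.1
      · rw [← SetLike.mem_coe, coe_smul_sub] at hw
        obtain ⟨v, hv, rfl⟩ := hw
        exact (g.2 v).trans (hW.2 v hv)
    · intro hW'
      let e : W₀ ≃ₗ[F] W := LinearEquiv.ofFinrankEq _ _ (hW.1.trans hW'.1.symm)
      obtain ⟨k, hk, hke⟩ := Forms.witt_quadratic Q hQ W₀ W e fun x => by rw [hW.2 x x.2, hW'.2 _ (e x).2]
      refine ⟨⟨k, hk⟩, SetLike.coe_injective ?_⟩
      show ((( ⟨k, hk⟩ : G) • W₀ : Submodule F (ι → F)) : Set (ι → F)) = _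
      rw [coe_smul_sub]
      ext v
      constructor
      · rintro ⟨w, hw, rfl⟩
        show k w ∈ W
        rw [hke ⟨w, hw⟩]; exact (e ⟨w, hw⟩).2
      · intro hv
        refine ⟨(e.symm ⟨v, hv⟩ : W₀), (e.symm ⟨v, hv⟩).2, ?_⟩
        show k _ = v
        rw [hke, e.apply_symm_apply]
  haveI : Finite G := by
    haveI : Finite ((ι → F) ≃ₗ[F] (ι → F)) := Finite.of_injective _ DFunLike.coe_injective
    exact Subtype.finite
  rw [show Nat.card {W // Sing Q m W} = Nat.card (MulAction.orbit G W₀) from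
    Nat.card_congr (Equiv.subtypeEquivRight fun W => (horb W).symm),
    show Nat.card G = Nat.card (MulAction.orbit G W₀) * Nat.card (MulAction.stabilizer G W₀) by
      rw [← Nat.card_prod]
      exact Nat.card_congr (MulAction.orbitProdStabilizerEquivGroup G W₀).symm]
  refine mul_dvd_mul_left _ ?_
  -- extend by the identity on `H`
  let hc := isCompl_perp hH
  let ext : (perp Q H ≃ₗ[F] perp Q H) → ((ι → F) ≃ₗ[F] (ι → F)) := fun g =>
    (Submodule.prodEquivOfIsCompl H (perp Q H) hc).symm.trans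
      (((LinearEquiv.refl F H).prodCongr g).trans (Submodule.prodEquivOfIsCompl H (perp Q H) hc))
  have hext : ∀ g (a : H) (b : perp Q H), ext g ((a : ι → F) + b) = (a : ι → F) + g b := fun g a b => by
    show (Submodule.prodEquivOfIsCompl H (perp Q H) hc) _ = _
    rw [show (a : ι → F) + (b : ι → F) = Submodule.prodEquivOfIsCompl H (perp Q H) hc (a, b) from rfl]
    simp
  have hdec : ∀ v : ι → F, ∃ (a : H) (b : perp Q H), (a : ι → F) + b = v := fun v => by
    obtain ⟨u, hu, w, hw, h⟩ := Submodule.mem_sup.1 (hc.sup_eq_top ▸ Submodule.mem_top : v ∈ H ⊔ perp Q H)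
    exact ⟨⟨u, hu⟩, ⟨w, hw⟩, h⟩
  have hfixH : ∀ g, ∀ x ∈ H, ext g x = x := fun g x hx => by simpa using hext g ⟨x, hx⟩ 0
  have hiso : ∀ g ∈ Forms.preservingFun (F := F) (⇑(Q.comp (perp Q H).subtype)), ∀ v, Q (ext g v) = Q v :=
    fun g hg v => by
    obtain ⟨a, b, rfl⟩ := hdec v
    rw [hext, QuadraticMap.map_add (⇑Q), QuadraticMap.map_add (⇑Q),
      show QuadraticMap.polar Q (a : ι → F) (g b : ι → F) = 0 from (g b).2 _ a.2,
      show QuadraticMap.polar Q (a : ι → F) (b : ι → F) = 0 from b.2 _ a.2,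
      show Q (g b : ι → F) = Q (b : ι → F) from hg b]
  let φ : Forms.preservingFun (F := F) (⇑(Q.comp (perp Q H).subtype)) →* MulAction.stabilizer G W₀ :=
    MonoidHom.mk' (fun g => ⟨⟨ext g.1, hiso g.1 g.2⟩, SetLike.coe_injective (by
      rw [coe_smul_sub]
      refine (Set.image_congr fun x hx => ?_).trans (Set.image_id _)
      exact hfixH g.1 x (hle hx))⟩)
      fun g g' => Subtype.ext (Subtype.ext (LinearEquiv.ext fun v => by
        obtain ⟨a, b, rfl⟩ := hdec v
        show ext (g.1 * g'.1) _ = ext g.1 (ext g'.1 _)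
        rw [hext, hext, hext, LinearEquiv.mul_apply]))
  refine Subgroup.card_dvd_of_injective φ fun g g' h => Subtype.ext (LinearEquiv.ext fun b => Subtype.ext ?_)
  have h1 : ext g.1 (((0 : H) : ι → F) + b) = ext g'.1 (((0 : H) : ι → F) + b) :=
    congrArg (fun z : MulAction.stabilizer G W₀ => z.1.1 _) h
  rw [hext, hext] at h1
  exact add_left_cancel h1

variable {r i : ℕ} [hr : Fact r.Prime] (hrF : (r : F) ≠ 0)
  (hi : ∀ k : ℕ, (Fintype.card F : ZMod r) ^ k = 1 ↔ i ∣ k) (hi0 : 0 < i) (hr2 : r ≠ 2)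
include hrF hi hi0 hr2

/-- If `r` divides the number, some block number leaves no room. -/
theorem exists_no_room (hQ : Q.polarBilin.Nondegenerate) {d m π : ℕ} (hd : Fintype.card ι = 2 * d) (hπ : π < 2)
    (htype : Half Q (⊤ : Submodule F (ι → F)) ↔ π = 0) (hm : 1 ≤ m) (hmd : m < d)
    (hdvd : r ∣ Nat.card {W : Submodule F (ι → F) // Sing Q m W}) :
    ∃ A, 1 ≤ A ∧ Ok i d π A 0 ∧ ¬ Ok i d π A m := by
  classical
  by_contra! hall
  have htop : finrank F (⊤ : Submodule F (ι → F)) = 2 * d := by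
    rw [finrank_top, Module.finrank_fintype_fun_eq_card, hd]
  obtain ⟨H, -, hHn, hHd, hHh⟩ := exists_sub_half (ndeg_top hQ) htop hm hmd.le True fun h => by omega
  obtain ⟨W₀, hW₀, hW₀s, hW₀d⟩ := hHh.2 trivial
  have hW : Sing Q m W₀ := ⟨by omega, hW₀s⟩
  have hPd : finrank F (perp Q H) = 2 * (d - m) := by
    have := finrank_perp hQ hHn
    rw [hHd, hd] at this
    omega
  have hPn := ndeg_perp hQ hHn
  have hPh : Half Q (perp Q H) ↔ π = 0 := by
    rw [half_perp_iff hQ hHn hHd hPd, iff_true_right (hHh.2 trivial), htype]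
  -- the block numbers agree
  have hP : ∀ A, Has r i Q (perp Q H) A ↔ Ok i d π A m := by
    intro A
    obtain ⟨h1, h2⟩ := has_top_even (Q := Q.comp (perp Q H).subtype) hrF hi hi0 hr2 hPn.comp hPd
    rw [has_comp]
    have hh := half_comp (Q := Q) (W := perp Q H)
    unfold Ok
    by_cases hH : Half Q (perp Q H)
    · rw [h1 (hh.1 hH), le_capP hi0, Nat.even_iff]
      have := hPh.1 hH
      omega
    · obtain ⟨hd0, h3⟩ := h2 fun h => hH (hh.2 h)
      rw [h3, le_capM hi0 (by omega), Nat.odd_iff]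
      have : π = 1 := by
        have : π ≠ 0 := fun h => hH (hPh.2 h)
        omega
      omega
  have heq : ∀ A, Has r i Q (⊤ : Submodule F (ι → F)) A ↔ Has r i Q (perp Q H) A := by
    intro A
    refine ⟨fun h => ?_, fun ⟨U, _, hU⟩ => ⟨U, le_top, hU⟩⟩
    rcases Nat.eq_zero_or_pos A with rfl | hA
    · exact (has_comp (Q := Q)).2 (has_zero hi hi0 hr2)
    · exact (hP A).2 (hall A hA ((has_top_iff hrF hi hi0 hr2 hQ hd hπ htype A).1 h))
  obtain ⟨M, hM⟩ : ∃ M, ∀ B, Has r i Q (⊤ : Submodule F (ι → F)) B ↔ B ≤ M := by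
    obtain ⟨h1, h2⟩ := has_top_even (Q := Q) hrF hi hi0 hr2 hQ (h := d)
      (by rw [Module.finrank_fintype_fun_eq_card, hd])
    by_cases hH : Half Q (⊤ : Submodule F (ι → F))
    · exact ⟨_, h1 hH⟩
    · exact ⟨_, (h2 hH).2⟩
  have h1 := card_sing_mul_dvd hQ hW hW₀ hHn
  have hv1 := val_card hrF hi hi0 hr2 hQ hM
  have hv2 := val_card hrF hi hi0 hr2 hPn.comp fun B => by rw [← has_comp, ← heq]; exact hM B
  haveI : Finite ((ι → F) ≃ₗ[F] (ι → F)) := Finite.of_injective _ DFunLike.coe_injective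
  haveI : Finite (perp Q H ≃ₗ[F] perp Q H) := Finite.of_injective _ DFunLike.coe_injective
  haveI : Finite (Submodule F (ι → F)) := Finite.of_injective _ SetLike.coe_injective
  haveI : Nonempty {W // Sing Q m W} := ⟨⟨W₀, hW⟩⟩
  obtain ⟨c, hc⟩ := h1
  have hG : Nat.card (Forms.preservingFun (F := F) (⇑Q)) ≠ 0 := Nat.card_pos.ne'
  have hc0 : c ≠ 0 := fun h => hG (by rw [hc, h, mul_zero])
  have hv := congrArg (padicValNat r) hc
  rw [padicValNat.mul (mul_ne_zero Nat.card_pos.ne' Nat.card_pos.ne') hc0,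
    padicValNat.mul Nat.card_pos.ne' Nat.card_pos.ne', hv1, hv2] at hv
  have h4 := one_le_padicValNat_of_dvd Nat.card_pos.ne' hdvd
  omega

end Cfsg.Agent.OrthPrime
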