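import Cfsg.Agent.EqLemmas
import Cfsg.Agent.Lib.OrthPrime.SingOrbit
import Cfsg.Agent.Lib.OrthPrime.SingArith

/-!
# Which elements of odd prime order fix singular `m`-spaces, in even dimension

* `exists_fixed_sing`, `fixed_sing_room` : sufficient and necessary conditions for one element
* `singular_main` : the criterion
-/

set_option autoImplicit false

namespace Cfsg.Agent.OrthPrime

open Module

variable {F : Type*} [Field F] [Fintype F] {ι : Type} [Fintype ι] [DecidableEq ι] {Q : QuadraticForm F (ι → F)}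
  {r i : ℕ} [hr : Fact r.Prime] (hrF : (r : F) ≠ 0)
  (hi : ∀ k : ℕ, (Fintype.card F : ZMod r) ^ k = 1 ↔ i ∣ k) (hi0 : 0 < i) (hr2 : r ≠ 2)

omit [Fintype ι] [DecidableEq ι] in
theorem orderOf_eq_i (hi : ∀ k : ℕ, (Fintype.card F : ZMod r) ^ k = 1 ↔ i ∣ k) :
    orderOf (Fintype.card F : ZMod r) = i :=
  Nat.dvd_antisymm (orderOf_dvd_of_pow_eq_one ((hi i).2 dvd_rfl)) ((hi _).1 (pow_orderOf_eq_one _))

include hrF hi hi0 hr2

/-- One element: enough room. -/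
theorem exists_fixed_sing (hQ : Q.polarBilin.Nondegenerate) {d π m : ℕ} (hd : Fintype.card ι = 2 * d) (hπ : π < 2)
    (htype : Half Q (⊤ : Submodule F (ι → F)) ↔ π = 0) {y : Module.End F (ι → F)} (hy : ∀ v, Q (y v) = Q v)
    (hyr : y ^ r = 1) {A : ℕ} (hA : Block r i Q (movSub y) A) {N K : ℕ} (hN : N * i = bsize i * A)
    (hK : K = 0 ∨ 2 * K + Elusive.tPrime r i ≤ N + 1) (hKm : K * i ≤ m) (hok : Ok i d π A (m - K * i)) :
    ∃ W, Sing Q m W ∧ Invt y W := by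
  have h := isom_of_pow hQ hy hyr hr.out.pos hrF
  have hord := orderOf_eq_i (i := i) hi
  obtain ⟨hFn, hFd, hFh⟩ := fix_data hrF hi hi0 hr2 hQ hd hπ htype hy hyr hA
  obtain ⟨W, hWr, hWi, hW, hWd⟩ := Elusive.exists_iso0_range h hr2 (N := N) (k := K)
    (by rw [hord, hN]; exact hA.1) (by rwa [hord])
  rw [hord] at hWd
  have hWi' : Invt y W := fun w hw => hWi ⟨w, hw, rfl⟩
  have hWs : Sing Q (K * i) W := ⟨hWd, singular_of_iso0 hy hWi' hW fun w hw hf => by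
    have h1 : w ∈ PrimeOrderElt.fix y ⊓ LinearMap.range (y - 1) := ⟨PrimeOrderElt.mem_fix.2 hf, hWr hw⟩
    rwa [h.fix_inf_range, Submodule.mem_bot] at h1⟩
  obtain ⟨hok1, hok2⟩ := hok
  obtain ⟨b, hb⟩ := (even_bsize i).mul_right A
  obtain ⟨U, hUF, hU⟩ := exists_singular_sub hFn (n := d - b) (j := m - K * i) (by omega) (by omega)
    fun he => hFh.2 (hok2 (by omega))
  refine ⟨U ⊔ W, ?_, fun v hv => ?_⟩
  · have := hU.sup hWs (fun u hu w hw => h.range_le_orth_fix (hWr hw) u (hUF hu))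
      (le_bot_iff.1 ((inf_le_inf hUF hWr).trans h.fix_inf_range.le))
    rwa [Nat.sub_add_cancel hKm] at this
  · obtain ⟨u, hu, w, hw, rfl⟩ := Submodule.mem_sup.1 hv
    rw [map_add, mem_fixSub.1 (hUF hu)]
    exact Submodule.add_mem_sup hu (hWi' w hw)

/-- One element: what a fixed singular subspace needs. -/
theorem fixed_sing_room (hQ : Q.polarBilin.Nondegenerate) {d π : ℕ} (hd : Fintype.card ι = 2 * d) (hπ : π < 2)
    (htype : Half Q (⊤ : Submodule F (ι → F)) ↔ π = 0) {y : Module.End F (ι → F)} (hy : ∀ v, Q (y v) = Q v)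
    (hyr : y ^ r = 1) {A : ℕ} (hA : Block r i Q (movSub y) A) {W : Submodule F (ι → F)} {j : ℕ}
    (hW : Sing Q j W) (hWF : W ≤ fixSub y) : Ok i d π A j := by
  obtain ⟨hFn, hFd, hFh⟩ := fix_data hrF hi hi0 hr2 hQ hd hπ htype hy hyr hA
  obtain ⟨h1, h2⟩ := singular_le hFn hWF hW
  exact ⟨by omega, fun he => hFh.1 (h2 (by omega))⟩

omit hrF hi hi0 hr2 in
theorem Ok.mono {d π A j j' : ℕ} (h : Ok i d π A j) (hj : j' ≤ j) : Ok i d π A j' :=
  ⟨by have := h.1; omega, fun he => h.2 (by have := h.1; omega)⟩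

/-- The criterion. -/
theorem singular_main (hQ : Q.polarBilin.Nondegenerate) {d m π : ℕ} (hd : Fintype.card ι = 2 * d) (hπ : π < 2)
    (htype : Half Q (⊤ : Submodule F (ι → F)) ↔ π = 0) (hm : 1 ≤ m) (hmd : m < d)
    (hdvd : r ∣ Nat.card {W : Submodule F (ι → F) // Sing Q m W}) :
    (∀ y : Module.End F (ι → F), (∀ v, Q (y v) = Q v) → y ^ r = 1 → y ≠ 1 → ∃ W, Sing Q m W ∧ Invt y W) ↔
    ((Odd i ∧ i ≤ m ∧ m % i ≤ (d - π) % i) ∨
     (Even i ∧ i ≤ m ∧ (r - 1) / i + 2 * (m / i) ≤ (2 * d) / i ∧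
      (((2 * d) / i % 2 = π ∧ 2 * (m % i) ≤ (2 * d) % i) ∨
       ((2 * d) / i % 2 ≠ π ∧ 2 * (m % i) < (2 * d) % i) ∨
       ((2 * d) / i % 2 ≠ π ∧ (2 * d) % i = 0 ∧ 2 * (m % i) ≤ i ∧
          (r - 1) / i + 2 * (m / i) < (2 * d) / i)))) := by
  classical
  have hord := orderOf_eq_i (i := i) hi
  set L := ∀ y : Module.End F (ι → F), (∀ v, Q (y v) = Q v) → y ^ r = 1 → y ≠ 1 → ∃ W, Sing Q m W ∧ Invt y W
  have hhas := has_top_iff (Q := Q) hrF hi hi0 hr2 hQ hd hπ htype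
  -- sufficiency
  have hS : (∀ A, 1 ≤ A → Ok i d π A 0 → ∃ K N, N * i = bsize i * A ∧
      (K = 0 ∨ 2 * K + Elusive.tPrime r i ≤ N + 1) ∧ K * i ≤ m ∧ Ok i d π A (m - K * i)) → L := by
    intro hall y hy hyr hy1
    obtain ⟨A, hA⟩ := exists_block_mov (Q := Q) hrF hi hi0 hr2 hQ hy hyr
    have hA1 : 1 ≤ A := Nat.pos_of_ne_zero fun h0 => hy1 (by
      have h1 : movSub y = ⊥ := Submodule.finrank_eq_zero.1 (by rw [hA.1, h0, mul_zero])
      rwa [movSub, LinearMap.range_eq_bot, sub_eq_zero] at h1)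
    obtain ⟨K, N, hN, hK, hKm, hok⟩ := hall A hA1 ((hhas A).1 ⟨_, le_top, hA⟩)
    exact exists_fixed_sing hrF hi hi0 hr2 hQ hd hπ htype hy hyr hA hN hK hKm hok
  -- necessity
  have hN1 : L → ∀ A, 1 ≤ A → Ok i d π A 0 → Ok i d π A (m % i) := by
    intro hL A hA hAf
    obtain ⟨y, hy, hyr, hy1, hblk⟩ := exists_elt hi0 hA ((hhas A).2 hAf)
    obtain ⟨W, hW, hWi⟩ := hL y hy hyr hy1
    have h := isom_of_pow hQ hy hyr hr.out.pos hrF
    obtain ⟨j, s, hj, hjs, -⟩ := Elusive.exists_fix_part (W := W) h (by rintro _ ⟨w, hw, rfl⟩; exact hWi w hw) hW.iso0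
    rw [hord, hW.1] at hjs
    refine (fixed_sing_room hrF hi hi0 hr2 hQ hd hπ htype hy hyr hblk
      (W := W ⊓ fixSub y) ⟨hj, fun w hw => hW.2 w hw.1⟩ inf_le_right).mono ?_
    rw [hjs, Nat.add_mul_mod_self_right]
    exact Nat.mod_le j i
  have hN2 : L → Even i → ∀ u, 1 ≤ u → u * i ≤ r - 1 → Ok i d π u 0 → Ok i d π u m := by
    intro hL hie u hu hut huf
    obtain ⟨y, hy, hyr, hy1, hblk, hall⟩ := exists_special hrF hi hi0 hr2 hie hQ hu hut ((hhas u).2 huf)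
    obtain ⟨W, hW, hWi⟩ := hL y hy hyr hy1
    exact fixed_sing_room hrF hi hi0 hr2 hQ hd hπ htype hy hyr hblk hW (hall W hWi hW.iso0)
  obtain ⟨A₀, hA₀, hA₀f, hA₀m⟩ := exists_no_room hrF hi hi0 hr2 hQ hd hπ htype hm hmd hdvd
  rcases Nat.even_or_odd i with hie | hio
  · rw [or_iff_right fun h => (Nat.not_odd_iff_even.2 hie) h.1, and_iff_right hie]
    have hc : bsize i = i := if_pos hie
    have hpar : ∀ A, (i + 1) * A % 2 = A % 2 := fun A => by
      rw [Nat.mul_mod, Nat.add_mod, Nat.even_iff.1 hie]; simp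
    set a := 2 * d / i with ha
    set k := 2 * d % i with hk
    have hak : 2 * d = i * a + k := (Nat.div_add_mod _ _).symm
    have hOk : ∀ A j, Ok i d π A j ↔ SingArith.OkE i a k π A j := fun A j => by
      rw [Ok, SingArith.OkE, hc, hpar, hak]
    simp only [hOk] at hS hN1 hN2 hA₀f hA₀m
    have hti : i ∣ r - 1 := by
      rw [← hi, ZMod.pow_card_sub_one_eq_one]
      intro h0
      have := (hi i).2 dvd_rfl
      rw [h0, zero_pow hi0.ne'] at this
      exact zero_ne_one this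
    have ht : 1 ≤ (r - 1) / i := Nat.div_pos (Nat.le_of_dvd (by have := hr.out.two_le; omega) hti) hi0
    refine SingArith.crit_even (Nat.mod_lt _ hi0) ht hπ L (fun h => hS fun A hA hAf => ?_)
      hN1 (fun hL u hu hut huf => hN2 hL hie u hu ?_ huf) ⟨A₀, hA₀, hA₀f, hA₀m⟩
    · obtain ⟨K, hK, hKm, hok⟩ := h A hA hAf
      exact ⟨K, A, by rw [hc, mul_comm], by rwa [Elusive.tPrime, if_neg (Nat.not_odd_iff_even.2 hie)], hKm, hok⟩
    · exact (Nat.mul_le_mul_right i hut).trans (Nat.div_mul_le_self _ _)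
  · rw [or_iff_left fun h => (Nat.not_even_iff_odd.2 hio) h.1, and_iff_right hio]
    have hc : bsize i = 2 * i := if_neg (Nat.not_even_iff_odd.2 hio)
    have hpar : ∀ A, (i + 1) * A % 2 = 0 := fun A => by
      rw [Nat.mul_mod, Nat.add_mod, Nat.odd_iff.1 hio]; simp
    have hOk : ∀ A j, Ok i d π A j ↔ SingArith.OkO i d π A j := fun A j => by
      rw [Ok, SingArith.OkO, hc, hpar, eq_comm (a := 0)]
    simp only [hOk] at hS hN1 hA₀f hA₀m
    refine SingArith.crit_odd hi0 hπ (by omega) (by omega) L (fun h => hS fun A hA hAf => ?_) hN1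
      ⟨A₀, hA₀, hA₀f, hA₀m⟩
    obtain ⟨K, hK, hKm, hok⟩ := h A hA hAf
    exact ⟨K, 2 * A, by rw [hc]; ring, Or.inr (by rw [Elusive.tPrime, if_pos hio]; omega), hKm, hok⟩

end Cfsg.Agent.OrthPrime
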