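import Cfsg.Agent.EqLemmas
import Cfsg.Agent.Lib.OrthPrime.SingSub
import Cfsg.Agent.Lib.OrthPrime.TwoElts
import Cfsg.Agent.Lib.Elusive.OddInvol

/-!
# Elements of order two modulo scalars and singular subspaces, odd characteristic

* `invol_low`, `invol_minus`, `invol_plus_square` : involutions with fixed singular `m`-spaces
* `j_square`, `j_even`, `j_not_odd` : isometries with square `-1`
* `two_sing_plus`, `two_sing_minus` : the criteria
-/

set_option autoImplicit false

namespace Cfsg.Agent.OrthPrime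

open Module

variable {F : Type*} [Field F] [Fintype F] {ι : Type} [Fintype ι] [DecidableEq ι] {Q : QuadraticForm F (ι → F)}
  (h2 : (2 : F) ≠ 0)
include h2

omit [DecidableEq ι] [Fintype ι] [Fintype F] in
theorem eq_zero_of_iso0 {W : Submodule F (ι → F)} (h : Elusive.Iso0 Q.polarBilin W) : ∀ w ∈ W, Q w = 0 := by
  intro w hw
  have := h w hw w hw
  rw [QuadraticMap.polarBilin_apply_apply, QuadraticMap.polar_self, nsmul_eq_mul, Nat.cast_ofNat] at this
  exact (mul_eq_zero.1 this).resolve_left h2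

omit [DecidableEq ι] in
theorem exists_singular_below (hQ : Q.polarBilin.Nondegenerate) {X : Submodule F (ι → F)} (hX : NDeg Q X)
    {j : ℕ} (hj : j = 0 ∨ 2 * j < finrank F X) : ∃ U ≤ X, Sing Q j U := by
  classical
  have h1 : Elusive.Isom (1 : F) Q.polarBilin (1 : Module.End F (ι → F)) 1 :=
    ⟨Elusive.polarBilin_isSym hQ, (PrimeGraphBC.isoMon _).one_mem, pow_one 1, one_pos,
      by rw [Nat.cast_one]; exact one_ne_zero⟩
  obtain ⟨U, hU, hUB, hUd⟩ := Elusive.exists_iso0_sym h1 j X (fun x _ => PrimeOrderElt.mem_fix.2 rfl) hX hj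
  exact ⟨U, hU, hUd, eq_zero_of_iso0 h2 hUB⟩

omit [DecidableEq ι] in
/-- The eigenspaces of an involution. -/
theorem invol_data (hQ : Q.polarBilin.Nondegenerate) {d : ℕ} (hd : Fintype.card ι = 2 * d)
    {y : Module.End F (ι → F)} (hy : ∀ v, Q (y v) = Q v) (hy2 : y ^ 2 = 1) :
    NDeg Q (fixSub y) ∧ NDeg Q (movSub y) ∧ finrank F (fixSub y) + finrank F (movSub y) = 2 * d ∧
      fixSub y = perp Q (movSub y) ∧
      ∀ {a b : ℕ} {U W : Submodule F (ι → F)}, U ≤ fixSub y → Sing Q a U → W ≤ movSub y → Sing Q b W →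
        ∃ S, Sing Q (a + b) S ∧ Invt y S := by
  classical
  have h : Elusive.Isom (1 : F) Q.polarBilin y 2 :=
    ⟨Elusive.polarBilin_isSym hQ, fun u v => polar_inv Q hy u v, hy2, two_pos, by exact_mod_cast h2⟩
  have hadd := h.finrank_fix_add_range
  rw [Module.finrank_fintype_fun_eq_card, hd] at hadd
  have hM : NDeg Q (movSub y) := h.ndOn_range
  have hadd' : finrank F (fixSub y) + finrank F (movSub y) = 2 * d := hadd
  have hperp := Submodule.finrank_add_eq_of_isCompl (isCompl_perp hM)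
  rw [Module.finrank_fintype_fun_eq_card, hd] at hperp
  have hfix : fixSub y = perp Q (movSub y) := by
    refine Submodule.eq_of_le_of_finrank_le (fun x hx m hm => ?_) (by
      omega)
    show QuadraticMap.polar Q m x = 0
    rw [QuadraticMap.polar_comm]
    exact h.range_le_orth_fix hm x hx
  refine ⟨h.ndOn_fix, hM, hadd, hfix, fun {a b U W} hU hUs hW hWs => ⟨U ⊔ W, ?_, fun v hv => ?_⟩⟩
  · exact hUs.sup hWs (fun u hu w hw => h.range_le_orth_fix (hW hw) u (hU hu))
      (le_bot_iff.1 ((inf_le_inf hU hW).trans h.fix_inf_range.le))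
  · obtain ⟨u, hu, w, hw, rfl⟩ := Submodule.mem_sup.1 hv
    rw [map_add, mem_fixSub.1 (hU hu)]
    exact Submodule.add_mem_sup hu (PrimeOrderElt.inv_apply (Elusive.inv_of_le_range h hW) hw)

omit [DecidableEq ι] in
/-- Two below the middle. -/
theorem invol_low (hQ : Q.polarBilin.Nondegenerate) {d m : ℕ} (hd : Fintype.card ι = 2 * d) (hm : m + 2 ≤ d)
    {y : Module.End F (ι → F)} (hy : ∀ v, Q (y v) = Q v) (hy2 : y ^ 2 = 1) : ∃ W, Sing Q m W ∧ Invt y W := by
  obtain ⟨hP, hM, hadd, -, hsum⟩ := invol_data h2 hQ hd hy hy2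
  obtain ⟨U, hU, hUs⟩ := exists_singular_below h2 hQ hP (j := min m ((finrank F (fixSub y) - 1) / 2)) (by omega)
  obtain ⟨W, hW, hWs⟩ := exists_singular_below h2 hQ hM
    (j := m - min m ((finrank F (fixSub y) - 1) / 2)) (by omega)
  have := hsum hU hUs hW hWs
  rwa [show min m ((finrank F (fixSub y) - 1) / 2) + (m - min m ((finrank F (fixSub y) - 1) / 2)) = m by omega]
    at this

/-- Minus type. -/
theorem invol_minus (hQ : Q.polarBilin.Nondegenerate) {d m : ℕ} (hd : Fintype.card ι = 2 * d) (hm : m < d)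
    (hV : ¬ Half Q (⊤ : Submodule F (ι → F))) {y : Module.End F (ι → F)} (hy : ∀ v, Q (y v) = Q v)
    (hy2 : y ^ 2 = 1) : ∃ W, Sing Q m W ∧ Invt y W := by
  obtain ⟨hP, hM, hadd, hfix, hsum⟩ := invol_data h2 hQ hd hy hy2
  rcases Nat.even_or_odd (finrank F (movSub y)) with ⟨b, hb⟩ | hodd
  · by_cases hMh : Half Q (movSub y)
    · obtain ⟨W, hW, hWs⟩ := exists_singular_sub hM (n := b) (j := min m b) (by omega) (by omega) fun _ => hMh
      obtain ⟨U, hU, hUs⟩ := exists_singular_below h2 hQ hP (j := m - min m b) (by omega)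
      have := hsum hU hUs hW hWs
      rwa [show m - min m b + min m b = m by omega] at this
    · have hPh : Half Q (fixSub y) := by
        rw [hfix, half_perp_iff hQ hM (h := b) (h' := d - b) (by omega) (by rw [← hfix]; omega)]
        exact iff_of_false hV hMh
      obtain ⟨U, hU, hUs⟩ := exists_singular_sub hP (n := d - b) (j := min m (d - b)) (by omega) (by omega)
        fun _ => hPh
      obtain ⟨W, hW, hWs⟩ := exists_singular_below h2 hQ hM (j := m - min m (d - b)) (by omega)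
      have := hsum hU hUs hW hWs
      rwa [show min m (d - b) + (m - min m (d - b)) = m by omega] at this
  · rw [Nat.odd_iff] at hodd
    obtain ⟨U, hU, hUs⟩ := exists_singular_below h2 hQ hP (j := min m ((finrank F (fixSub y) - 1) / 2)) (by omega)
    obtain ⟨W, hW, hWs⟩ := exists_singular_below h2 hQ hM
      (j := m - min m ((finrank F (fixSub y) - 1) / 2)) (by omega)
    have := hsum hU hUs hW hWs
    rwa [show min m ((finrank F (fixSub y) - 1) / 2) + (m - min m ((finrank F (fixSub y) - 1) / 2)) = m by omega]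
      at this

/-- Plus type and `-1` a square. -/
theorem invol_plus_square (hG : Orth.Good Q) {d m : ℕ} (hd : Fintype.card ι = 2 * d) (hm : m ≤ d)
    (hV : Half Q (⊤ : Submodule F (ι → F))) {s : F} (hs : s * s = -1) {g : Orth.IsoGrp Q}
    (hg : g ∈ Cfsg.Omega F ⇑Q) (hy2 : Orth.ap g ^ 2 = 1) : ∃ W, Sing Q m W ∧ Invt (Orth.ap g) W := by
  obtain ⟨hP, hM, hadd, hfix, hsum⟩ := invol_data h2 hG.nd hd (fun v => Orth.Q_ap g v) hy2
  obtain ⟨S, hS, hSB, hSd⟩ := Elusive.exists_iso0_half hG h2 hs _ g hg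
    (Orth.ext_ap fun x => by rw [Orth.ap_mul, Orth.ap_one, ← Module.End.mul_apply, ← pow_two, hy2]; rfl) rfl
  have hMh : Half Q (movSub (Orth.ap g)) := ⟨S, hS, eq_zero_of_iso0 h2 hSB, hSd⟩
  have hb : finrank F (movSub (Orth.ap g)) = 2 * finrank F S := hSd.symm
  have hPh : Half Q (fixSub (Orth.ap g)) := hfix ▸ half_perp hG.nd hM hV hMh
  obtain ⟨W, hW, hWs⟩ := exists_sing_le (j := min m (finrank F S))
    (W := S) ⟨rfl, eq_zero_of_iso0 h2 hSB⟩ (by omega)
  obtain ⟨U, hU, hUs⟩ := exists_singular_sub hP (n := d - finrank F S) (j := m - min m (finrank F S)) (by omega)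
    (by omega) fun _ => hPh
  have := hsum hU hUs (hW.trans hS) hWs
  rwa [show m - min m (finrank F S) + min m (finrank F S) = m by omega] at this

omit [Fintype F] in
/-- `J` with a square root of `-1`. -/
theorem j_square {J : Module.End F (ι → F)} (hJ : IsJ Q J) {d m : ℕ} (hd : Fintype.card ι = 2 * d) (hm : m ≤ d)
    {s : F} (hs : s * s = -1) : ∃ W, Sing Q m W ∧ Invt J W := by
  have key : ∀ t : F, t * t = -1 → ∀ U ≤ LinearMap.ker (J - t • 1), finrank F U = m →
      ∃ W, Sing Q m W ∧ Invt J W := by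
    intro t ht U hU hUd
    have hJt : ∀ u ∈ U, J u = t • u := fun u hu => by simpa [sub_eq_zero] using hU hu
    refine ⟨U, ⟨hUd, fun u hu => ?_⟩, fun u hu => by rw [hJt u hu]; exact U.smul_mem t hu⟩
    have h := hJ.iso u
    rw [hJt u hu, Orth.Q_smul, ht] at h
    have h' : (2 : F) * Q u = 0 := by linear_combination -h
    exact (mul_eq_zero.1 h').resolve_left h2
  have hsup : LinearMap.ker (J - s • 1) ⊔ LinearMap.ker (J - (-s) • 1) = ⊤ := eq_top_iff.2 fun x _ => by
    rw [show x = (2 : F)⁻¹ • (x - s • J x) + (2 : F)⁻¹ • (x + s • J x) by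
      rw [← smul_add, sub_add_add_cancel, ← two_smul F x, inv_smul_smul₀ h2]]
    refine Submodule.add_mem_sup (Submodule.smul_mem _ _ ?_) (Submodule.smul_mem _ _ ?_) <;>
      simp only [LinearMap.mem_ker, LinearMap.sub_apply, LinearMap.smul_apply, Module.End.one_apply, map_sub,
        map_add, map_smul, hJ.sq, smul_sub, smul_add, smul_neg, neg_smul, smul_smul, hs] <;>
      module
  have h1 := Submodule.finrank_sup_add_finrank_inf_eq (LinearMap.ker (J - s • 1)) (LinearMap.ker (J - (-s) • 1))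
  rw [hsup, finrank_top, Module.finrank_fintype_fun_eq_card, hd] at h1
  by_cases hc : m ≤ finrank F (LinearMap.ker (J - s • 1))
  · obtain ⟨U, hU, hUd⟩ := Elusive.exists_le_finrank _ hc
    exact key s hs U hU hUd
  · obtain ⟨U, hU, hUd⟩ := Elusive.exists_le_finrank (LinearMap.ker (J - (-s) • 1)) (m := m) (by omega)
    exact key (-s) (by rw [neg_mul_neg, hs]) U hU hUd

omit [DecidableEq ι] in
/-- `J` without: even dimensions. -/
theorem j_even {J : Module.End F (ι → F)} (hJ : IsJ Q J) (hns : ¬ IsSquare (-1 : F)) :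
    ∀ (e : ℕ) {X : Submodule F (ι → F)}, NDeg Q X → Invt J X → 4 * e ≤ finrank F X →
      ∃ W ≤ X, Sing Q (2 * e) W ∧ Invt J W := by
  classical
  intro e
  induction e with
  | zero =>
    exact fun {X} _ _ _ => ⟨⊥, bot_le, sing_bot Q, fun x hx => by
      rw [(Submodule.mem_bot F).1 hx, map_zero]; exact zero_mem _⟩
  | succ e ih =>
    intro X hX hXi hle
    obtain ⟨k, hk, -, hsub⟩ := j_decomp hJ h2 hX hXi
    obtain ⟨A, hA, hAn, hAi, hAd⟩ := hsub 2 (by omega)
    obtain ⟨hRn, hRd⟩ := ndeg_inf_perp hX hAn hA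
    obtain ⟨W, hW, hWs, hWi⟩ := ih hRn (fun x hx => ⟨hXi x hx.1, hJ.perp_invt hAi x hx.2⟩) (by omega)
    obtain ⟨v, hv0, hv⟩ := Forms.exists_singular_of_three_le (Q.comp A.subtype) (by omega)
    have hv' : Q (v : ι → F) = 0 := hv
    have hv0' : (v : ι → F) ≠ 0 := fun h => hv0 (Subtype.ext h)
    set w : ι → F := J v with hw
    have hS : Sing Q 2 ((F ∙ (v : ι → F)) ⊔ (F ∙ w)) := by
      have hne : w ≠ 0 := fun h => hv0' (by
        have := hJ.sq (v : ι → F)
        rw [← hw, h, map_zero] at this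
        exact neg_eq_zero.1 this.symm)
      refine Sing.sup (a := 1) (b := 1) ⟨finrank_span_singleton hv0', fun x hx => ?_⟩
        ⟨finrank_span_singleton hne, fun x hx => ?_⟩ (fun x hx z hz => ?_) ?_
      · obtain ⟨a, rfl⟩ := Submodule.mem_span_singleton.1 hx
        rw [Orth.Q_smul, hv', mul_zero]
      · obtain ⟨a, rfl⟩ := Submodule.mem_span_singleton.1 hx
        rw [Orth.Q_smul, hw, hJ.iso, hv', mul_zero]
      · obtain ⟨a, rfl⟩ := Submodule.mem_span_singleton.1 hx
        obtain ⟨b, rfl⟩ := Submodule.mem_span_singleton.1 hz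
        rw [QuadraticMap.polar_smul_left, QuadraticMap.polar_smul_right, hw, hJ.polar_self_j h2, smul_zero,
          smul_zero]
      · refine eq_bot_iff.2 fun x hx => ?_
        obtain ⟨a, rfl⟩ := Submodule.mem_span_singleton.1 hx.1
        obtain ⟨b, hb⟩ := Submodule.mem_span_singleton.1 hx.2
        rw [Submodule.mem_bot]
        by_contra h0
        have ha : a ≠ 0 := fun h => h0 (by rw [h, zero_smul])
        have hb' : J (b • w) = J (a • (v : ι → F)) := by rw [hb]
        rw [map_smul, map_smul, hw, hJ.sq, smul_neg, ← hw] at hb'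
        have e1 : (b * b + a * a) • (v : ι → F) = 0 := by
          have e2 : b • a • w = -((b * b) • (v : ι → F)) := by rw [← hb', smul_neg, smul_smul]
          rw [smul_comm, hb, smul_smul] at e2
          rw [add_smul, e2]
          abel
        have e3 := (smul_eq_zero.1 e1).resolve_right hv0'
        exact hns ⟨b / a, by field_simp; linear_combination -e3⟩
    have hSA : (F ∙ (v : ι → F)) ⊔ (F ∙ w) ≤ A := sup_le ((Submodule.span_singleton_le_iff_mem _ _).2 v.2)
      ((Submodule.span_singleton_le_iff_mem _ _).2 (hAi _ v.2))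
    refine ⟨(F ∙ (v : ι → F)) ⊔ (F ∙ w) ⊔ W, sup_le (hSA.trans hA) (hW.trans inf_le_left), ?_, Invt.sup ?_ hWi⟩
    · have := hS.sup hWs (fun x hx z hz => (hW hz).2 x (hSA hx))
        (((disjoint_of_orth hAn fun a ha b (hb : b ∈ X ⊓ perp Q A) => hb.2 a ha).mono hSA hW).eq_bot)
      rwa [show 2 + 2 * e = 2 * (e + 1) by ring] at this
    · intro x hx
      obtain ⟨_, ha, _, hb, rfl⟩ := Submodule.mem_sup.1 hx
      obtain ⟨a, rfl⟩ := Submodule.mem_span_singleton.1 ha
      obtain ⟨b, rfl⟩ := Submodule.mem_span_singleton.1 hb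
      rw [map_add, map_smul, map_smul, hw, hJ.sq, add_comm, smul_neg, ← neg_smul]
      exact Submodule.add_mem_sup (Submodule.smul_mem _ _ (Submodule.mem_span_singleton_self _))
        (Submodule.smul_mem _ _ (Submodule.mem_span_singleton_self _))

omit h2 [DecidableEq ι] [Fintype F] in
/-- `J` without: no odd dimensions. -/
theorem j_not_odd {J : Module.End F (ι → F)} (hJ : IsJ Q J) (hns : ¬ IsSquare (-1 : F))
    {W : Submodule F (ι → F)} (hW : Invt J W) : Even (finrank F W) := by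
  have h : (J.restrict hW).comp (J.restrict hW) = (-1 : F) • LinearMap.id := LinearMap.ext fun x => Subtype.ext (by
    show J (J x) = (((-1 : F) • x : W) : ι → F)
    rw [hJ.sq, Submodule.coe_smul, neg_one_smul])
  have h' := congrArg LinearMap.det h
  rw [LinearMap.det_comp, LinearMap.det_smul, LinearMap.det_id, mul_one] at h'
  by_contra hodd
  rw [(Nat.not_even_iff_odd.1 hodd).neg_one_pow] at h'
  exact hns ⟨_, h'.symm⟩

variable (hG : Orth.Good Q) (hex : ∃ v, Q v ≠ 0)
include hG hex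

/-- Sufficiency. -/
theorem forall_two_sing {m : ℕ}
    (hI : ∀ g : Orth.IsoGrp Q, g ∈ Cfsg.Omega F ⇑Q → Orth.ap g ^ 2 = 1 → ∃ W, Sing Q m W ∧ Invt (Orth.ap g) W)
    (hJ : ∀ g : Orth.IsoGrp Q, g ∈ Cfsg.Omega F ⇑Q → IsJ Q (Orth.ap g) → ∃ W, Sing Q m W ∧ Invt (Orth.ap g) W) :
    ∀ x : GL ι F, x ∈ Cfsg.Geo.omegaGL ⇑Q →
      (∃ z : F, ((x ^ 2 : GL ι F) : Matrix ι ι F) = z • (1 : Matrix ι ι F)) →
      (∀ z : F, (x : Matrix ι ι F) ≠ z • (1 : Matrix ι ι F)) →
      ∃ W, Sing Q m W ∧ W.map (Matrix.toLin' (x : Matrix ι ι F)) ≤ W := by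
  obtain ⟨w, hw⟩ := hex
  intro x hx ⟨z, hz⟩ _
  obtain ⟨g, hg, rfl⟩ := Orth.mem_omegaGL_iff.1 hx
  have hgv : ∀ v, Orth.ap g (Orth.ap g v) = z • v := fun v => by
    rw [← Orth.ap_mul, Orth.ap_apply, ← sq, Subgroup.coe_pow, hz, Matrix.smul_mulVec, Matrix.one_mulVec]
  have hz2 : z * z = 1 := by
    have h1 : Q (Orth.ap g (Orth.ap g w)) = Q w := by rw [Orth.Q_ap, Orth.Q_ap]
    rw [hgv, Orth.Q_smul] at h1
    exact mul_right_cancel₀ hw (h1.trans (one_mul _).symm)
  obtain ⟨W, hW, hinvW⟩ : ∃ W, Sing Q m W ∧ Invt (Orth.ap g) W := by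
    rcases mul_self_eq_one_iff.1 hz2 with rfl | rfl
    · exact hI g hg (LinearMap.ext fun v => by rw [sq, Module.End.mul_apply, hgv, one_smul, Module.End.one_apply])
    · exact hJ g hg ⟨fun v => Orth.Q_ap g v, fun v => by rw [hgv, neg_one_smul]⟩
  refine ⟨W, hW, ?_⟩
  rintro _ ⟨v, hv, rfl⟩
  exact hinvW v hv

omit hG in
/-- The hypothesis at one element with scalar square. -/
theorem at_elt {m : ℕ}
    (hyp : ∀ x : GL ι F, x ∈ Cfsg.Geo.omegaGL ⇑Q →
      (∃ z : F, ((x ^ 2 : GL ι F) : Matrix ι ι F) = z • (1 : Matrix ι ι F)) →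
      (∀ z : F, (x : Matrix ι ι F) ≠ z • (1 : Matrix ι ι F)) →
      ∃ W, Sing Q m W ∧ W.map (Matrix.toLin' (x : Matrix ι ι F)) ≤ W)
    {g : Orth.IsoGrp Q} (hg : g ∈ Cfsg.Omega F ⇑Q) {z : F} (hz : ∀ v, Orth.ap g (Orth.ap g v) = z • v)
    (hns : ∀ c : F, ¬ ∀ v, Orth.ap g v = c • v) : ∃ W, Sing Q m W ∧ Invt (Orth.ap g) W := by
  obtain ⟨W, hW, hWm⟩ := hyp g (Orth.coe_mem_omegaGL.2 hg) ⟨z, by
    refine Matrix.toLin'.injective (LinearMap.ext fun v => ?_)
    rw [Matrix.toLin'_apply, Matrix.toLin'_apply, Matrix.smul_mulVec, Matrix.one_mulVec, ← hz, ← Orth.ap_mul,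
      Orth.ap_apply, ← sq, Subgroup.coe_pow]⟩
    (fun c hc => hns c fun v => by rw [Orth.ap_apply, hc, Matrix.smul_mulVec, Matrix.one_mulVec])
  exact ⟨W, hW, fun v hv => hWm ⟨v, hv, rfl⟩⟩

omit hG in
/-- The hypothesis at `J`. -/
theorem at_j {m : ℕ}
    (hyp : ∀ x : GL ι F, x ∈ Cfsg.Geo.omegaGL ⇑Q →
      (∃ z : F, ((x ^ 2 : GL ι F) : Matrix ι ι F) = z • (1 : Matrix ι ι F)) →
      (∀ z : F, (x : Matrix ι ι F) ≠ z • (1 : Matrix ι ι F)) →
      ∃ W, Sing Q m W ∧ W.map (Matrix.toLin' (x : Matrix ι ι F)) ≤ W)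
    {g : Orth.IsoGrp Q} (hg : g ∈ Cfsg.Omega F ⇑Q) (hJ : IsJ Q (Orth.ap g)) (hns : ¬ IsSquare (-1 : F)) :
    Even m := by
  obtain ⟨w, hw⟩ := id hex
  obtain ⟨W, hW, hWi⟩ := at_elt h2 hex hyp hg (z := -1) (fun v => by rw [hJ.sq, neg_one_smul]) fun c hc => hns ⟨c, by
    have h := hJ.sq w
    rw [hc, hc, smul_smul, ← neg_one_smul F w] at h
    have hw0 : w ≠ 0 := fun h0 => hw (by rw [h0, QuadraticMap.map_zero])
    exact (smul_left_injective F hw0 h).symm⟩
  exact hW.1 ▸ j_not_odd hJ hns hWi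

end Cfsg.Agent.OrthPrime
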